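import Cfsg.Agent.KFacts.MM.El16

/-!
# `C(V) = V`, `C(W) = W`
-/

set_option autoImplicit false

namespace Cfsg.Agent.KFacts.MM.Cent

open Cfsg Cfsg.Agent.KFacts.MM.El Cfsg.Agent.KFacts.MM.Data Cfsg.Agent.KFacts.MM.Sub
open Cfsg.Agent.KFacts.MM.Int Cfsg.Agent.KFacts.MM.El16
open Cfsg.Agent.SporadicA.GolayBase Cfsg.Agent.SporadicA.GolayPerm Cfsg.Agent.SporadicA.M24Frames
open Cfsg.Agent.OddHalf.MM (Nrm Cen El)

/-! ### Frames -/

theorem eq_of_val {a : Fin 7 → GolayPt} (ha : Adm a) {g h : Equiv.Perm GolayPt} (hg : g ∈ M24)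
    (hh : h ∈ M24) (H : ∀ i, val g (idx (a i)) = val h (idx (a i))) : g = h := by
  apply eq_of_eq_on ha hg hh
  intro i
  have h1 := H i
  unfold val at h1
  rw [pt_idx] at h1
  exact idx_injective h1

/-- the octad of the second and fourth tetrads -/
def O1 : Finset GolayPt := {some 4, some 13, some 16, some 22, some 6, some 7, some 19, some 21}

theorem O1_mem : O1 ∈ octads := by
  rw [mem_octads_iff]
  decide +kernel

/-- a frame outside the octad of `V` -/
def frV : Fin 7 → GolayPt := ![some 4, some 13, some 16, some 22, some 6, some 7, some 9]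

/-- a frame -/
def frW : Fin 7 → GolayPt := ![some 4, some 13, some 16, some 22, some 6, some 7, none]

theorem adm_frV : Adm frV := ⟨by decide, O1, O1_mem, by decide, by decide⟩

theorem adm_frW : Adm frW := ⟨by decide, O1, O1_mem, by decide, by decide⟩

theorem forall_frV {p : ℕ → Prop} (h : ∀ i ∈ [4, 13, 16, 22, 6, 7, 9], p i) (i : Fin 7) :
    p (idx (frV i)) := by
  fin_cases i
  · exact h 4 (by decide)
  · exact h 13 (by decide)
  · exact h 16 (by decide)
  · exact h 22 (by decide)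
  · exact h 6 (by decide)
  · exact h 7 (by decide)
  · exact h 9 (by decide)

theorem forall_frW {p : ℕ → Prop} (h : ∀ i ∈ [4, 13, 16, 22, 6, 7, 23], p i) (i : Fin 7) :
    p (idx (frW i)) := by
  fin_cases i
  · exact h 4 (by decide)
  · exact h 13 (by decide)
  · exact h 16 (by decide)
  · exact h 22 (by decide)
  · exact h 6 (by decide)
  · exact h 7 (by decide)
  · exact h 23 (by decide)

theorem forall_base7 {p : ℕ → Prop} (h : ∀ i ∈ [23, 0, 1, 2, 3, 5, 4], p i) (i : Fin 7) :
    p (idx (base7 i)) := by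
  fin_cases i
  · exact h 23 (by decide)
  · exact h 0 (by decide)
  · exact h 1 (by decide)
  · exact h 2 (by decide)
  · exact h 3 (by decide)
  · exact h 5 (by decide)
  · exact h 4 (by decide)

/-! ### Membership in the Mathieu groups -/

/-- Boolean test for membership in `M22` -/
def ok22 (P : ℕ) : Bool :=
  isPerm P && (isAut P && (Nat.beq (papp P 23) 23 && Nat.beq (papp P 0) 0))

theorem mem_of_ok22 {P : ℕ} (h : ok22 P = true) : isPerm P = true ∧ pm P ∈ Spor.M22 := by
  unfold ok22 at h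
  rw [Bool.and_eq_true, Bool.and_eq_true, Bool.and_eq_true] at h
  obtain ⟨h1, h2, h3, h4⟩ := h
  refine ⟨h1, (SporadicA.MathieuRecog.mem_M22_iff _).2 ⟨pm_mem_M24 h1 h2, ?_, ?_⟩⟩
  · have h5 := val_pm h1 (i := 23) (by norm_num)
    rw [Nat.eq_of_beq_eq_true h3] at h5
    have h6 := pt_val (pm P) 23
    rw [h5] at h6
    exact h6.symm
  · have h5 := val_pm h1 (i := 0) (by norm_num)
    rw [Nat.eq_of_beq_eq_true h4] at h5
    have h6 := pt_val (pm P) 0
    rw [h5] at h6
    exact h6.symm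

theorem V_le22 : V ≤ Spor.M22 := by
  rintro _ ⟨P, hP, rfl⟩
  have h : VL.all ok22 = true := by decide +kernel
  exact (mem_of_ok22 (List.all_eq_true.1 h P hP)).2

theorem W_le22 : W ≤ Spor.M22 := by
  rintro _ ⟨P, hP, rfl⟩
  have h : WL.all ok22 = true := by decide +kernel
  exact (mem_of_ok22 (List.all_eq_true.1 h P hP)).2

theorem c_mem22 : c ∈ Spor.M22 := (mem_of_ok22 (P := cP) (by decide +kernel)).2

theorem S_le22 : S ≤ Spor.M22 := by
  rintro _ ⟨v, hv, w, hw, rfl | rfl⟩
  · exact mul_mem (V_le22 hv) (W_le22 hw)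
  · exact mul_mem (mul_mem (V_le22 hv) (W_le22 hw)) c_mem22

theorem M22_le24 {g : Equiv.Perm GolayPt} (h : g ∈ Spor.M22) : g ∈ M24 :=
  ((SporadicA.MathieuRecog.mem_M22_iff _).1 h).1

theorem M23_le24 {g : Equiv.Perm GolayPt} (h : g ∈ Spor.M23) : g ∈ M24 :=
  ((SporadicA.MathieuRecog.mem_M23_iff _).1 h).1

theorem val23 {g : Equiv.Perm GolayPt} (h : g ∈ Spor.M23) : val g 23 = 23 := by
  have h1 := ((SporadicA.MathieuRecog.mem_M23_iff _).1 h).2
  show idx (g none) = 23
  rw [h1]
  rfl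

theorem M22_le23 {g : Equiv.Perm GolayPt} (h : g ∈ Spor.M22) : g ∈ Spor.M23 :=
  SporadicA.MathieuRecog.M22_le h

theorem val0 {g : Equiv.Perm GolayPt} (h : g ∈ Spor.M22) : val g 0 = 0 := by
  have h1 := ((SporadicA.MathieuRecog.mem_M22_iff _).1 h).2.2
  show idx (g (some 0)) = 0
  rw [h1]
  rfl

/-! ### Centralisers -/

theorem val_comm {k : Equiv.Perm GolayPt} {P : ℕ} (hP : isPerm P = true) (h : k * pm P = pm P * k)
    {i : ℕ} (hi : i < 24) : val k (papp P i) = papp P (val k i) := by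
  rw [← val_pm hP hi, ← val_mul, h, val_mul, val_pm hP (val_lt _ _)]

/-- `C(V) = V` in `M24` -/
theorem CV {k : Equiv.Perm GolayPt} (hk : k ∈ M24) (h : Cen k V) : k ∈ V := by
  have hc : ∀ P ∈ VL, ∀ i, i < 24 → val k (papp P i) = papp P (val k i) :=
    fun P hP i hi => val_comm (pV hP) (h _ ⟨P, hP, rfl⟩) hi
  have k1 : (pts.all fun q => (VL.any fun P => Nat.beq (papp P 4) q) ||
      VL.all fun P => Nat.beq (papp P q) q) = true := by decide +kernel
  have k2 : (VL.any fun P => !Nat.beq (papp P 4) 4) = true := by decide +kernel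
  have h1 := List.all_eq_true.1 k1 (val k 4) (mem_pts (val_lt _ _))
  rw [Bool.or_eq_true] at h1
  rcases h1 with h1 | h1
  · obtain ⟨P, hP, h2⟩ := List.any_eq_true.1 h1
    have h2 := Nat.eq_of_beq_eq_true h2
    have hPV : pm P ∈ V := ⟨P, hP, rfl⟩
    have k3 : ([4, 13, 16, 22, 6, 7, 9].all fun i => VL.any fun Q => Nat.beq (papp Q 4) i) = true := by
      decide +kernel
    have k4 : (VL.all fun P => VL.all fun Q => Nat.beq (papp Q (papp P 4)) (papp P (papp Q 4))) = true := by
      decide +kernel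
    have : k = pm P := by
      apply eq_of_val adm_frV hk (M22_le24 (V_le22 hPV))
      refine forall_frV (p := fun i => val k i = val (pm P) i) ?_
      intro i hi
      show val k i = val (pm P) i
      obtain ⟨Q, hQ, h3⟩ := List.any_eq_true.1 (List.all_eq_true.1 k3 i hi)
      rw [← Nat.eq_of_beq_eq_true h3, hc Q hQ 4 (by norm_num), ← h2,
        Nat.eq_of_beq_eq_true (List.all_eq_true.1 (List.all_eq_true.1 k4 P hP) Q hQ), val_pm (pV hP)]
      exact papp_lt (pV hQ) (by norm_num)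
    rw [this]
    exact hPV
  · exfalso
    obtain ⟨P, hP, h2⟩ := List.any_eq_true.1 k2
    rw [Bool.not_eq_true'] at h2
    have h3 := hc P hP 4 (by norm_num)
    rw [Nat.eq_of_beq_eq_true (List.all_eq_true.1 h1 P hP)] at h3
    have h4 := val_inj (papp_lt (pV hP) (by norm_num)) (by norm_num) h3
    rw [h4] at h2
    exact absurd h2 (by decide)

/-- `C(W) = W` in `M23` -/
theorem CW {k : Equiv.Perm GolayPt} (hk : k ∈ Spor.M23) (h : Cen k W) : k ∈ W := by
  have hc : ∀ P ∈ WL, ∀ i, i < 24 → val k (papp P i) = papp P (val k i) :=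
    fun P hP i hi => val_comm (pW hP) (h _ ⟨P, hP, rfl⟩) hi
  -- images with the same stabiliser
  have key : ∀ i, i < 24 → ∀ P ∈ WL, (papp P i = i ↔ papp P (val k i) = val k i) := by
    intro i hi P hP
    rw [← hc P hP i hi]
    constructor
    · intro h1; rw [h1]
    · intro h1
      exact val_inj (papp_lt (pW hP) hi) hi h1
  have k1 : (pts.all fun q => (WL.any fun P => (Nat.beq (papp P 4) 4 && !Nat.beq (papp P q) q) ||
      (!Nat.beq (papp P 4) 4 && Nat.beq (papp P q) q)) || (Nat.beq q 4 || (Nat.beq q 13 || (Nat.beq q 16 ||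
        Nat.beq q 22)))) = true := by decide +kernel
  have k2 : (pts.all fun q => (WL.any fun P => (Nat.beq (papp P 6) 6 && !Nat.beq (papp P q) q) ||
      (!Nat.beq (papp P 6) 6 && Nat.beq (papp P q) q)) || (Nat.beq q 6 || (Nat.beq q 7 || (Nat.beq q 19 ||
        Nat.beq q 21)))) = true := by decide +kernel
  have no : ∀ i, i < 24 → (WL.any fun P => (Nat.beq (papp P i) i && !Nat.beq (papp P (val k i)) (val k i)) ||
      (!Nat.beq (papp P i) i && Nat.beq (papp P (val k i)) (val k i))) = true → False := by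
    intro i hi h1
    obtain ⟨P, hP, h2⟩ := List.any_eq_true.1 h1
    rw [Bool.or_eq_true, Bool.and_eq_true, Bool.and_eq_true, Bool.not_eq_true', Bool.not_eq_true'] at h2
    rcases h2 with ⟨h2, h3⟩ | ⟨h2, h3⟩
    · have h4 := (key i hi P hP).1 (Nat.eq_of_beq_eq_true h2)
      rw [h4, Nat.beq_refl] at h3
      cases h3
    · have h4 := (key i hi P hP).2 (Nat.eq_of_beq_eq_true h3)
      rw [h4, Nat.beq_refl] at h2
      cases h2
  have h4 : val k 4 ∈ [4, 13, 16, 22] := by
    have h1 := List.all_eq_true.1 k1 (val k 4) (mem_pts (val_lt _ _))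
    rw [Bool.or_eq_true] at h1
    rcases h1 with h1 | h1
    · exact (no 4 (by norm_num) h1).elim
    · rw [Bool.or_eq_true, Bool.or_eq_true, Bool.or_eq_true] at h1
      simp only [List.mem_cons, List.not_mem_nil, or_false]
      rcases h1 with h1 | h1 | h1 | h1
      · exact Or.inl (Nat.eq_of_beq_eq_true h1)
      · exact Or.inr (Or.inl (Nat.eq_of_beq_eq_true h1))
      · exact Or.inr (Or.inr (Or.inl (Nat.eq_of_beq_eq_true h1)))
      · exact Or.inr (Or.inr (Or.inr (Nat.eq_of_beq_eq_true h1)))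
  have h6 : val k 6 ∈ [6, 7, 19, 21] := by
    have h1 := List.all_eq_true.1 k2 (val k 6) (mem_pts (val_lt _ _))
    rw [Bool.or_eq_true] at h1
    rcases h1 with h1 | h1
    · exact (no 6 (by norm_num) h1).elim
    · rw [Bool.or_eq_true, Bool.or_eq_true, Bool.or_eq_true] at h1
      simp only [List.mem_cons, List.not_mem_nil, or_false]
      rcases h1 with h1 | h1 | h1 | h1
      · exact Or.inl (Nat.eq_of_beq_eq_true h1)
      · exact Or.inr (Or.inl (Nat.eq_of_beq_eq_true h1))
      · exact Or.inr (Or.inr (Or.inl (Nat.eq_of_beq_eq_true h1)))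
      · exact Or.inr (Or.inr (Or.inr (Nat.eq_of_beq_eq_true h1)))
  have k3 : ([4, 13, 16, 22].all fun q => [6, 7, 19, 21].all fun r =>
      WL.any fun P => Nat.beq (papp P 4) q && Nat.beq (papp P 6) r) = true := by decide +kernel
  obtain ⟨P, hP, h7⟩ := List.any_eq_true.1 (List.all_eq_true.1 (List.all_eq_true.1 k3 _ h4) _ h6)
  rw [Bool.and_eq_true] at h7
  have e4 := Nat.eq_of_beq_eq_true h7.1
  have e6 := Nat.eq_of_beq_eq_true h7.2
  have hPW : pm P ∈ W := ⟨P, hP, rfl⟩
  have k5 : ([4, 13, 16, 22, 6, 7].all fun i => WL.any fun Q => Nat.beq (papp Q 4) i ||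
      Nat.beq (papp Q 6) i) = true := by decide +kernel
  have k6 : (WL.all fun P => WL.all fun Q => Nat.beq (papp Q (papp P 4)) (papp P (papp Q 4)) &&
      Nat.beq (papp Q (papp P 6)) (papp P (papp Q 6))) = true := by decide +kernel
  have : k = pm P := by
    apply eq_of_val adm_frW (M23_le24 hk) (M22_le24 (W_le22 hPW))
    refine forall_frW (p := fun i => val k i = val (pm P) i) ?_
    intro i hi
    show val k i = val (pm P) i
    by_cases hi' : i ∈ [4, 13, 16, 22, 6, 7]
    · obtain ⟨Q, hQ, h3⟩ := List.any_eq_true.1 (List.all_eq_true.1 k5 i hi')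
      have h8 := List.all_eq_true.1 (List.all_eq_true.1 k6 P hP) Q hQ
      rw [Bool.and_eq_true] at h8
      rw [Bool.or_eq_true] at h3
      rcases h3 with h3 | h3
      · rw [← Nat.eq_of_beq_eq_true h3, hc Q hQ 4 (by norm_num), ← e4,
          Nat.eq_of_beq_eq_true h8.1, val_pm (pW hP)]
        exact papp_lt (pW hQ) (by norm_num)
      · rw [← Nat.eq_of_beq_eq_true h3, hc Q hQ 6 (by norm_num), ← e6,
          Nat.eq_of_beq_eq_true h8.2, val_pm (pW hP)]
        exact papp_lt (pW hQ) (by norm_num)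
    · have hi23 : i = 23 := by
        simp only [List.mem_cons, List.not_mem_nil, or_false] at hi hi'
        omega
      rw [hi23, val23 hk, val23 (M22_le23 (W_le22 hPW))]
  rw [this]
  exact hPW

/-! ### The normaliser of `S` -/

/-- an element of `S` centralising `V ∩ W` lies in `R = VW` -/
theorem mem_R_of_cent {s : Equiv.Perm GolayPt} (hs : s ∈ S) (h : ∀ x ∈ V, x ∈ W → s * x = x * s) :
    s ∈ R := by
  by_contra hR
  obtain ⟨v, hv, w, hw, rfl⟩ := out_R hs hR
  obtain ⟨x, hxV, hxW, hx⟩ := c0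
  apply hx
  have h1 := h x hxV hxW
  have hyV : c * x * c⁻¹ ∈ V := cV x hxV
  have hyW : c * x * c⁻¹ ∈ W := cW x hxW
  have h2 : v * (c * x * c⁻¹) = c * x * c⁻¹ * v := comm_of_El elV hv hyV
  have h3 : w * (c * x * c⁻¹) = c * x * c⁻¹ * w := comm_of_El elW hw hyW
  have h4 : c * x * c⁻¹ = x := by
    apply mul_right_cancel (b := v * w * c)
    calc c * x * c⁻¹ * (v * w * c) = (c * x * c⁻¹ * v) * w * c := by group
      _ = v * (c * x * c⁻¹ * w) * c := by rw [← h2]; group
      _ = v * w * c * x := by rw [← h3]; group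
      _ = x * (v * w * c) := h1
  calc c * x = c * x * c⁻¹ * c := by group
    _ = x * c := by rw [h4]

theorem R_cent {r : Equiv.Perm GolayPt} (hr : r ∈ R) {x : Equiv.Perm GolayPt} (hV : x ∈ V)
    (hW : x ∈ W) : r * x = x * r := by
  obtain ⟨v, hv, w, hw, rfl⟩ := mem_R.1 hr
  rw [mul_assoc, comm_of_El elW hw hW, ← mul_assoc, comm_of_El elV hv hV, mul_assoc]

theorem nrm_inv {G : Type*} [Group G] {g : G} {V : Subgroup G} (h : Nrm g V) {x : G} (hx : x ∈ V) :
    g⁻¹ * x * g ∈ V := by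
  rw [← h]
  have e : g * (g⁻¹ * x * g) * g⁻¹ = x := by group
  rw [e]; exact hx

theorem nrm_mul {G : Type*} [Group G] {g h : G} {V : Subgroup G} (hg : Nrm g V) (hh : Nrm h V) :
    Nrm (g * h) V := by
  intro x
  have e : g * h * x * (g * h)⁻¹ = g * (h * x * h⁻¹) * g⁻¹ := by group
  rw [e, hg, hh]

theorem nrm_S_of_mem {s : Equiv.Perm GolayPt} (hs : s ∈ S) : Nrm s S :=
  nrm_of fun _ hx => S.mul_mem (S.mul_mem hs hx) (S.inv_mem hs)

end Cfsg.Agent.KFacts.MM.Cent
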