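import Mathlib.Data.Nat.Notation

/-!
# Packed permutations for `M22:2`: the involution `b ∈ C(W) - W` and a chain of the octad stabiliser in `M22`
-/

set_option autoImplicit false

namespace Cfsg.Agent.KFacts.MM.DataO

/-- an involution of `M22:2` outside `M22` centralising `W` -/
def bP : ℕ := 5989235823820259689967313196876887

/-- elements of `M22` preserving the octad, mapping 1 to its points -/
def T1 : List ℕ := [
  984818244535754528103549039458486304,
  961360439503047023498727979389224000,
  961361717046248021432230046504892512,
  961113055178878765030242569745974432,
  961371847108530530539303909288119744,
  961249846278898572718642977709332000]

/-- the same, fixing 1, mapping 2 -/
def T2 : List ℕ := [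
  984818244535754528103549039458486304,
  964046246854116924572671177954233376,
  965307795761740754361936628421170208,
  963559745903778623359417332224538656,
  963640518972357266310373335248618528]

/-- the same, fixing 1, 2, mapping 3 -/
def T3 : List ℕ := [
  984818244535754528103549039458486304,
  960884477435128931241433760505432096,
  961438956620049001677386430328277024,
  960831283963798152912375878980765728]

/-- the same, fixing 1, 2, 3, mapping 5 -/
def T5 : List ℕ := [
  984818244535754528103549039458486304,
  961409415667826064667231448532617248,
  961029066359601346093702817927759904]

/-- an element of `M22:2` centralising `z` -/
def x0P : ℕ := 982899815665434390980925830645059008

/-- an element of `M22:2` centralising `z` -/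
def y0P : ℕ := 26719882389304997286299517257811031

/-- their commutator -/
def g0P : ℕ := 964086483626486257377192165510288928

/-- an element of `M22:2` centralising `z` -/
def x1P : ℕ := 26310806766238434697851665041098807

/-- an element of `M22:2` centralising `z` -/
def y1P : ℕ := 13801526156369960150811494621679063

/-- their commutator -/
def g1P : ℕ := 977058356712355062831575471803108800


/-- the 32 elements of `P = W⟨b⟩`; the first 16 are those of `W` -/
def PL : List ℕ := [
  984818244535754528103549039458486304,
  961365507626256404119956257276790816,
  972512676110088067912772961567868960,
  976448692869377735270425038196672544,
  960831283963798152912375878980765728,
  960884477435128931241433760505432096,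
  961438956620049001677386430328277024,
  972560815420533050926679905878345760,
  973054518210042674313238929715267616,
  973122887587861701392823884636653600,
  976420838754479978627774237199763488,
  976934804572108675034832543981668384,
  977023451795203591179182037798520864,
  984202951082164080105044112956360736,
  984235865005994746954145143334668320,
  984724508489452699215480746259449888,
  5989235823820259689967313196876887,
  29429271468893102754624345968411735,
  21064801546226450623669850930086999,
  17131322563941782780614511264466007,
  28854523491105362182008475499005015,
  28826665701071936886111872293045335,
  29340620570662517957029049942508631,
  21031891374900343699909455052375127,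
  21647169741103660076458455793304663,
  21553437447306391113730797094863959,
  17184519787777121035013027289728087,
  17739009920735306807106826245014615,
  17665557174438149324336018692932695,
  5495518024292395953547195890304087,
  5447382388983081592886053788877911,
  6057601526503618116306465909212247]

end Cfsg.Agent.KFacts.MM.DataO
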