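import Cfsg.Agent.SporadicStructure.M24El
import Cfsg.Agent.SporadicA.M24Frames
import Cfsg.Agent.SporadicA.MathieuRecog

/-!
# Packed permutations of the 24 points: values, words, kernel tests

`val g i` : the index of the image under `g` of the point of index `i`.
`ev l i` : the image of `i` under the product of the packed permutations of `l`.
`weq l m` : Boolean test for equality of the two products.
-/

set_option autoImplicit false

namespace Cfsg.Agent.KFacts.MM.El

open Cfsg Cfsg.Agent.SporadicA.GolayBase Cfsg.Agent.SporadicA.GolayPerm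

/-- the index of the image of the point of index `i` -/
def val (g : Equiv.Perm GolayPt) (i : ℕ) : ℕ := idx (g (pt i))

theorem val_lt (g : Equiv.Perm GolayPt) (i : ℕ) : val g i < 24 := idx_lt _

theorem pt_val (g : Equiv.Perm GolayPt) (i : ℕ) : pt (val g i) = g (pt i) := pt_idx _

theorem val_mul (g h : Equiv.Perm GolayPt) (i : ℕ) : val (g * h) i = val g (val h i) := by
  unfold val
  rw [Equiv.Perm.mul_apply, pt_idx]

theorem val_one {i : ℕ} (hi : i < 24) : val 1 i = i := by
  unfold val
  rw [Equiv.Perm.one_apply, idx_pt hi]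

theorem ext_val {g h : Equiv.Perm GolayPt} (H : ∀ i < 24, val g i = val h i) : g = h := by
  apply Equiv.ext
  intro p
  have h1 := H (idx p) (idx_lt p)
  unfold val at h1
  rw [pt_idx] at h1
  exact idx_injective h1

theorem val_inj {g : Equiv.Perm GolayPt} {i j : ℕ} (hi : i < 24) (hj : j < 24)
    (h : val g i = val g j) : i = j := by
  have h1 : pt i = pt j := g.injective (idx_injective h)
  rw [← idx_pt hi, ← idx_pt hj, h1]

theorem exists_val (g : Equiv.Perm GolayPt) {j : ℕ} (hj : j < 24) : ∃ i < 24, val g i = j := by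
  refine ⟨idx (g⁻¹ (pt j)), idx_lt _, ?_⟩
  unfold val
  rw [pt_idx, show g (g⁻¹ (pt j)) = pt j from g.apply_symm_apply _, idx_pt hj]

/-- the packed permutation as a permutation -/
noncomputable def pm (P : ℕ) : Equiv.Perm GolayPt :=
  if h : isPerm P = true then permOf P h else 1

theorem pm_eq {P : ℕ} (h : isPerm P = true) : pm P = permOf P h := dif_pos h

theorem val_pm {P : ℕ} (h : isPerm P = true) {i : ℕ} (hi : i < 24) : val (pm P) i = papp P i := by
  unfold val
  rw [pm_eq h, permOf_apply, idx_pt hi, idx_pt (papp_lt h hi)]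

theorem pm_mem_M24 {P : ℕ} (h : isPerm P = true) (h' : isAut P = true) : pm P ∈ M24 := by
  rw [pm_eq h]
  exact permOf_mem_M24 h h'

theorem coe_el {P : ℕ} (h : SporadicStructure.M24El.ok P = true) :
    (SporadicStructure.M24El.el P : Equiv.Perm GolayPt) = pm P := by
  rw [SporadicStructure.M24El.coe_el h, pm_eq (SporadicStructure.M24El.ok_iff.1 h).1]

/-! ### Words -/

/-- the image of `i` under the product of the packed permutations of `l` -/
def ev (l : List ℕ) (i : ℕ) : ℕ := l.foldr papp i

/-- all entries are packed permutations -/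
def okl (l : List ℕ) : Bool := l.all isPerm

theorem okl_cons {P : ℕ} {l : List ℕ} (h : okl (P :: l) = true) : isPerm P = true ∧ okl l = true := by
  unfold okl at h
  rw [List.all_cons, Bool.and_eq_true] at h
  exact h

/-- the product of a list of packed permutations -/
noncomputable def pr (l : List ℕ) : Equiv.Perm GolayPt := (l.map pm).prod

theorem pr_nil : pr [] = 1 := rfl

theorem pr_cons (P : ℕ) (l : List ℕ) : pr (P :: l) = pm P * pr l := by
  unfold pr
  rw [List.map_cons, List.prod_cons]

theorem pr_one (P : ℕ) : pr [P] = pm P := by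
  rw [pr_cons, pr_nil, mul_one]

theorem pr_append (l m : List ℕ) : pr (l ++ m) = pr l * pr m := by
  unfold pr
  rw [List.map_append, List.prod_append]

theorem val_pr {l : List ℕ} (h : okl l = true) : ∀ {i : ℕ}, i < 24 → val (pr l) i = ev l i := by
  induction l with
  | nil =>
    intro i hi
    rw [pr_nil, val_one hi]
    rfl
  | cons P l ih =>
    intro i hi
    obtain ⟨h1, h2⟩ := okl_cons h
    rw [pr_cons, val_mul, ih h2 hi, val_pm h1]
    · rfl
    · rw [← ih h2 hi]
      exact val_lt _ _

/-- the 24 indices -/
def pts : List ℕ := [0, 1, 2, 3, 4, 5, 6, 7, 8, 9, 10, 11, 12, 13, 14, 15, 16, 17, 18, 19, 20, 21,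
  22, 23]

theorem mem_pts {i : ℕ} (hi : i < 24) : i ∈ pts := by
  unfold pts
  interval_cases i <;> simp

theorem lt_of_mem_pts {i : ℕ} (hi : i ∈ pts) : i < 24 := by
  unfold pts at hi
  simp only [List.mem_cons, List.not_mem_nil, or_false] at hi
  omega

/-- equality test of two words -/
def weq (l m : List ℕ) : Bool := pts.all fun i => Nat.beq (ev l i) (ev m i)

theorem weq_iff {l m : List ℕ} (hl : okl l = true) (hm : okl m = true) :
    weq l m = true ↔ pr l = pr m := by
  unfold weq
  rw [List.all_eq_true]
  constructor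
  · intro h
    apply ext_val
    intro i hi
    rw [val_pr hl hi, val_pr hm hi]
    exact Nat.eq_of_beq_eq_true (h i (mem_pts hi))
  · intro h i hi
    have hi := lt_of_mem_pts hi
    rw [← val_pr hl hi, ← val_pr hm hi, h]
    exact Nat.beq_refl _

theorem pr_of_weq {l m : List ℕ} (hl : okl l = true) (hm : okl m = true) (h : weq l m = true) :
    pr l = pr m := (weq_iff hl hm).1 h

theorem pr_ne {l m : List ℕ} (hl : okl l = true) (hm : okl m = true) (h : weq l m = false) :
    pr l ≠ pr m := by
  intro e
  rw [(weq_iff hl hm).2 e] at h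
  cases h

/-! ### Sets given by lists of words -/

/-- pairwise different words -/
def dist : List (List ℕ) → Bool
  | [] => true
  | l :: L => (L.all fun m => !weq l m) && dist L

theorem nodup_of_dist {L : List (List ℕ)} (hL : ∀ l ∈ L, okl l = true) (h : dist L = true) :
    (L.map pr).Nodup := by
  induction L with
  | nil => exact List.nodup_nil
  | cons l L ih =>
    rw [dist, Bool.and_eq_true, List.all_eq_true] at h
    rw [List.map_cons, List.nodup_cons]
    refine ⟨?_, ih (fun m hm => hL m (List.mem_cons_of_mem _ hm)) h.2⟩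
    intro hm
    obtain ⟨m, hm, e⟩ := List.mem_map.1 hm
    have h1 := h.1 m hm
    rw [Bool.not_eq_true'] at h1
    exact pr_ne (hL l List.mem_cons_self) (hL m (List.mem_cons_of_mem _ hm)) h1 e.symm

theorem card_of_list {L : List (List ℕ)} (hL : ∀ l ∈ L, okl l = true) (h : dist L = true)
    (S : Set (Equiv.Perm GolayPt)) (hS : ∀ g, g ∈ S ↔ ∃ l ∈ L, pr l = g) :
    Nat.card S = L.length := by
  classical
  have h1 : S = ((L.map pr).toFinset : Set (Equiv.Perm GolayPt)) := by
    ext g
    rw [hS, List.coe_toFinset]
    simp only [List.mem_map, Set.mem_setOf_eq]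
  rw [Nat.card_coe_set_eq, h1, Set.ncard_coe_finset,
    List.toFinset_card_of_nodup (nodup_of_dist hL h), List.length_map]

theorem length_le_card {L : List (List ℕ)} (hL : ∀ l ∈ L, okl l = true) (h : dist L = true)
    (S : Set (Equiv.Perm GolayPt)) (hS : ∀ l ∈ L, pr l ∈ S) : L.length ≤ Nat.card S := by
  classical
  have h1 : ((L.map pr).toFinset : Set (Equiv.Perm GolayPt)) ⊆ S := by
    intro g hg
    rw [List.coe_toFinset] at hg
    obtain ⟨l, hl, rfl⟩ := List.mem_map.1 hg
    exact hS l hl
  have h2 := Set.ncard_le_ncard h1 (Set.toFinite S)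
  rw [Set.ncard_coe_finset, List.toFinset_card_of_nodup (nodup_of_dist hL h), List.length_map] at h2
  rwa [Nat.card_coe_set_eq]

end Cfsg.Agent.KFacts.MM.El
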