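import Cfsg.Agent.KFacts.MM.Int

/-!
# `V` and `W` are the only elementary abelian subgroups of `S` of order at least 16
-/

set_option autoImplicit false

namespace Cfsg.Agent.KFacts.MM.El16

open Cfsg El Data Cfsg.Agent.KFacts.MM.Sub Cfsg.Agent.KFacts.MM.Int
open Cfsg.Agent.SporadicA.GolayBase
open Cfsg.Agent.SporadicA.GolayPerm
open Cfsg.Agent.OddHalf.MM (Nrm Cen El)

/-- the subgroup `VW` -/
noncomputable def R : Subgroup (Equiv.Perm GolayPt) :=
  SS (c := 1) (one_mul 1) WV (fun x hx => by rwa [one_mul, inv_one, mul_one])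
    (fun x hx => by rwa [one_mul, inv_one, mul_one])

theorem mem_R {g : Equiv.Perm GolayPt} : g ∈ R ↔ ∃ v ∈ V, ∃ w ∈ W, g = v * w := by
  constructor
  · rintro ⟨v, hv, w, hw, rfl | rfl⟩
    · exact ⟨v, hv, w, hw, rfl⟩
    · exact ⟨v, hv, w, hw, by rw [mul_one]⟩
  · rintro ⟨v, hv, w, hw, rfl⟩
    exact ⟨v, hv, w, hw, Or.inl rfl⟩

theorem R_le : R ≤ S := by
  intro g hg
  obtain ⟨v, hv, w, hw, rfl⟩ := mem_R.1 hg
  exact ⟨v, hv, w, hw, Or.inl rfl⟩

theorem c_inv : c⁻¹ = c := inv_eq_of_mul_eq_one_left cc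

theorem cR : ∀ x ∈ R, c * x * c⁻¹ ∈ R := by
  intro x hx
  obtain ⟨v, hv, w, hw, rfl⟩ := mem_R.1 hx
  exact mem_R.2 ⟨c * v * c⁻¹, cV v hv, c * w * c⁻¹, cW w hw, by group⟩

/-- the form of the elements outside `R` -/
theorem out_R {s : Equiv.Perm GolayPt} (hs : s ∈ S) (hR : s ∉ R) :
    ∃ v ∈ V, ∃ w ∈ W, s = v * w * c := by
  obtain ⟨v, hv, w, hw, h | h⟩ := hs
  · exact absurd (mem_R.2 ⟨v, hv, w, hw, h⟩) hR
  · exact ⟨v, hv, w, hw, h⟩

theorem out_mul {s t : Equiv.Perm GolayPt} (hs : s ∈ S) (hR : s ∉ R) (ht : t ∈ S) (hR' : t ∉ R) :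
    s⁻¹ * t ∈ R := by
  obtain ⟨v, hv, w, hw, rfl⟩ := out_R hs hR
  obtain ⟨v', hv', w', hw', rfl⟩ := out_R ht hR'
  have h1 : (v * w)⁻¹ * (v' * w') ∈ R :=
    R.mul_mem (R.inv_mem (mem_R.2 ⟨v, hv, w, hw, rfl⟩)) (mem_R.2 ⟨v', hv', w', hw', rfl⟩)
  have h2 := cR _ h1
  have e : (v * w * c)⁻¹ * (v' * w' * c) = c⁻¹ * ((v * w)⁻¹ * (v' * w')) * c := by group
  rw [e, c_inv]
  rw [c_inv] at h2
  exact h2

/-- the square of an element of `R` lies in `V` -/
theorem sq_R {r : Equiv.Perm GolayPt} (hr : r ∈ R) : r * r ∈ V := by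
  obtain ⟨v, hv, w, hw, rfl⟩ := mem_R.1 hr
  have h := mul_mem hv (WV w hw v hv)
  have e : v * w * (v * w) = v * (w * v * w⁻¹) * (w * w) := by group
  rw [e, elW w hw, mul_one]
  exact h

/-- the square of an element of `S` lies in `R` -/
theorem sq_S {s : Equiv.Perm GolayPt} (hs : s ∈ S) : s * s ∈ R := by
  by_cases h : s ∈ R
  · exact R.mul_mem h h
  · have hi : s⁻¹ ∉ R := fun h' => h (by simpa using R.inv_mem h')
    have := out_mul (S.inv_mem hs) hi hs h
    rwa [inv_inv] at this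

theorem isPGroup : IsPGroup 2 S := by
  intro g
  refine ⟨3, ?_⟩
  apply Subtype.ext
  have h1 := sq_S g.2
  have h2 := elV _ (sq_R h1)
  have h3 : ((g : Equiv.Perm GolayPt)) ^ (2 ^ 3) = (g : Equiv.Perm GolayPt) * g * (g * g) * (g * g * (g * g)) := by
    norm_num [pow_succ, mul_assoc]
  show ((g : Equiv.Perm GolayPt)) ^ (2 ^ 3) = 1
  rw [h3, h2]

/-- an involution of `R` lies in `V` or `W` -/
theorem invol_R {r : Equiv.Perm GolayPt} (hr : r ∈ R) (h2 : r * r = 1) : r ∈ V ∨ r ∈ W := by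
  obtain ⟨v, hv, w, hw, rfl⟩ := mem_R.1 hr
  have hc : v * w = w * v := by
    have h3 : v * w = (v * w)⁻¹ := eq_inv_of_mul_eq_one_left h2
    rw [h3, mul_inv_rev, inv_eq_of_mul_eq_one_left (elV v hv), inv_eq_of_mul_eq_one_left (elW w hw)]
  rcases comm_mem v hv w hw hc with h | h
  · exact Or.inr (mul_mem h hw)
  · exact Or.inl (mul_mem hv h)

/-- an abelian subgroup of `R` of exponent 2 lies in `V` or in `W` -/
theorem le_or_le {F : Subgroup (Equiv.Perm GolayPt)} (hF : F ≤ R) (hE : El F) : F ≤ V ∨ F ≤ W := by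
  by_contra hcon
  rw [not_or] at hcon
  obtain ⟨h1, h2⟩ := hcon
  rw [SetLike.not_le_iff_exists] at h1 h2
  obtain ⟨a, ha, haV⟩ := h1
  obtain ⟨b, hb, hbW⟩ := h2
  have haW := (invol_R (hF ha) (hE a ha)).resolve_left haV
  have hbV := (invol_R (hF hb) (hE b hb)).resolve_right hbW
  have hc : b * a = a * b := by
    have h3 := hE _ (mul_mem hb ha)
    have h4 : b * a = (b * a)⁻¹ := eq_inv_of_mul_eq_one_left h3
    rw [h4, mul_inv_rev, inv_eq_of_mul_eq_one_left (hE a ha), inv_eq_of_mul_eq_one_left (hE b hb)]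
  rcases comm_mem b hbV a haW hc with h | h
  · exact hbW h
  · exact haV h

/-- the elements of a list commuting with a word -/
theorem card_le_four (L : List ℕ) (hL : ∀ P ∈ L, isPerm P = true) (l : List ℕ) (hl : okl l = true)
    (h : Nat.ble (L.filter fun P => weq (l ++ [P]) (P :: l)).length 4 = true)
    (F : Subgroup (Equiv.Perm GolayPt)) (hF : ∀ x ∈ F, (∃ P ∈ L, pm P = x) ∧ pr l * x = x * pr l) :
    Nat.card F ≤ 4 := by
  classical
  have h1 : (F : Set (Equiv.Perm GolayPt)) ⊆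
      (((L.filter fun P => weq (l ++ [P]) (P :: l)).map pm).toFinset : Set (Equiv.Perm GolayPt)) := by
    intro x hx
    obtain ⟨⟨P, hP, rfl⟩, hc⟩ := hF x hx
    rw [List.coe_toFinset]
    refine List.mem_map.2 ⟨P, List.mem_filter.2 ⟨hP, ?_⟩, rfl⟩
    rw [weq_iff]
    · rw [pr_append, pr_one, pr_cons, hc]
    · unfold okl at hl ⊢
      rw [List.all_append, hl, List.all_cons, hL P hP]; rfl
    · unfold okl at hl ⊢
      rw [List.all_cons, hl, hL P hP]; rfl
  have h2 := Set.ncard_le_ncard h1 (Set.toFinite _)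
  rw [Set.ncard_coe_finset] at h2
  have h3 := h2.trans (List.toFinset_card_le _)
  rw [List.length_map] at h3
  exact h3.trans (Nat.le_of_ble_eq_true h)

theorem four_V {s : Equiv.Perm GolayPt} (hs : s ∈ S) (hR : s ∉ R) {F : Subgroup (Equiv.Perm GolayPt)}
    (hF : F ≤ V) (hc : ∀ x ∈ F, s * x = x * s) : Nat.card F ≤ 4 := by
  obtain ⟨v, hv, _, ⟨Q, hQ, rfl⟩, rfl⟩ := out_R hs hR
  have k : (WL.all fun Q => Nat.ble (VL.filter fun P => weq ([Q, cP] ++ [P]) (P :: [Q, cP])).length 4) = true := by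
    decide +kernel
  refine card_le_four VL (fun P hP => pV hP) [Q, cP] (okl2 (pW hQ) permc) (List.all_eq_true.1 k Q hQ) F ?_
  intro x hx
  refine ⟨hF hx, ?_⟩
  have h1 := hc x hx
  have h2 : v * x = x * v := by
    have h3 := elV _ (mul_mem hv (hF hx))
    have h4 : v * x = (v * x)⁻¹ := eq_inv_of_mul_eq_one_left h3
    rw [h4, mul_inv_rev, inv_eq_of_mul_eq_one_left (elV v hv),
      inv_eq_of_mul_eq_one_left (elV x (hF hx))]
  rw [pr_two]
  show pm Q * c * x = x * (pm Q * c)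
  apply mul_left_cancel (a := v)
  calc v * (pm Q * c * x) = v * pm Q * c * x := by group
    _ = x * (v * pm Q * c) := h1
    _ = x * v * (pm Q * c) := by group
    _ = v * (x * (pm Q * c)) := by rw [← h2]; group

theorem four_W {s : Equiv.Perm GolayPt} (hs : s ∈ S) (hR : s ∉ R) {F : Subgroup (Equiv.Perm GolayPt)}
    (hF : F ≤ W) (hc : ∀ x ∈ F, s * x = x * s) : Nat.card F ≤ 4 := by
  obtain ⟨_, ⟨Q, hQ, rfl⟩, w, hw, rfl⟩ := out_R hs hR
  have k : (VL.all fun Q => Nat.ble (WL.filter fun P => weq ([Q, cP] ++ [P]) (P :: [Q, cP])).length 4) = true := by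
    decide +kernel
  refine card_le_four WL (fun P hP => pW hP) [Q, cP] (okl2 (pV hQ) permc) (List.all_eq_true.1 k Q hQ) F ?_
  intro x hx
  refine ⟨hF hx, ?_⟩
  have hw' := VW (pm Q) ⟨Q, hQ, rfl⟩ w hw
  have h1 : pm Q * w * (pm Q)⁻¹ * (pm Q * c) * x = x * (pm Q * w * (pm Q)⁻¹ * (pm Q * c)) := by
    have h0 := hc x hx
    calc _ = pm Q * w * c * x := by group
      _ = x * (pm Q * w * c) := h0
      _ = _ := by group
  have h2 : pm Q * w * (pm Q)⁻¹ * x = x * (pm Q * w * (pm Q)⁻¹) := by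
    have h3 := elW _ (mul_mem hw' (hF hx))
    have h4 : pm Q * w * (pm Q)⁻¹ * x = (pm Q * w * (pm Q)⁻¹ * x)⁻¹ := eq_inv_of_mul_eq_one_left h3
    rw [h4, mul_inv_rev, inv_eq_of_mul_eq_one_left (elW _ hw'),
      inv_eq_of_mul_eq_one_left (elW x (hF hx))]
  rw [pr_two]
  show pm Q * c * x = x * (pm Q * c)
  apply mul_left_cancel (a := pm Q * w * (pm Q)⁻¹)
  calc pm Q * w * (pm Q)⁻¹ * (pm Q * c * x) = pm Q * w * (pm Q)⁻¹ * (pm Q * c) * x := by group
    _ = x * (pm Q * w * (pm Q)⁻¹ * (pm Q * c)) := h1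
    _ = x * (pm Q * w * (pm Q)⁻¹) * (pm Q * c) := by group
    _ = pm Q * w * (pm Q)⁻¹ * (x * (pm Q * c)) := by rw [← h2]; group

theorem comm_of_El {G : Type*} [Group G] {E : Subgroup G} (hE : El E) {a b : G} (ha : a ∈ E)
    (hb : b ∈ E) : a * b = b * a := by
  have h3 := hE _ (mul_mem ha hb)
  have h4 : a * b = (a * b)⁻¹ := eq_inv_of_mul_eq_one_left h3
  rw [h4, mul_inv_rev, inv_eq_of_mul_eq_one_left (hE a ha), inv_eq_of_mul_eq_one_left (hE b hb)]

theorem el16 (E : Subgroup (Equiv.Perm GolayPt)) (hES : E ≤ S) (hE : El E) (h16 : 16 ≤ Nat.card E) :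
    E = V ∨ E = W := by
  by_cases hR : E ≤ R
  · rcases le_or_le hR hE with h | h
    · exact Or.inl (Subgroup.eq_of_le_of_card_ge h (by rw [cardV]; exact h16))
    · exact Or.inr (Subgroup.eq_of_le_of_card_ge h (by rw [cardW]; exact h16))
  · exfalso
    rw [SetLike.not_le_iff_exists] at hR
    obtain ⟨s, hs, hsR⟩ := hR
    set F := E ⊓ R with hF
    have hsF : ∀ x ∈ F, s * x = x * s := fun x hx => comm_of_El hE hs hx.1
    have h4 : Nat.card F ≤ 4 := by
      rcases le_or_le (F := F) inf_le_right (fun x hx => hE x hx.1) with h | h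
      · exact four_V (hES hs) hsR h hsF
      · exact four_W (hES hs) hsR h hsF
    have hsub : (E : Set (Equiv.Perm GolayPt)) ⊆
        (F : Set (Equiv.Perm GolayPt)) ∪ (fun x => s * x) '' (F : Set (Equiv.Perm GolayPt)) := by
      intro x hx
      by_cases hxR : x ∈ R
      · exact Or.inl ⟨hx, hxR⟩
      · right
        refine ⟨s⁻¹ * x, ⟨E.mul_mem (E.inv_mem hs) hx, out_mul (hES hs) hsR (hES hx) hxR⟩, ?_⟩
        show s * (s⁻¹ * x) = x
        group
    have h5 := Set.ncard_le_ncard hsub (Set.toFinite _)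
    have h6 := (h5.trans (Set.ncard_union_le _ _))
    have h7 := Set.ncard_image_le (f := fun x => s * x) (Set.toFinite (F : Set (Equiv.Perm GolayPt)))
    have e1 : (E : Set (Equiv.Perm GolayPt)).ncard = Nat.card E := rfl
    have e2 : (F : Set (Equiv.Perm GolayPt)).ncard = Nat.card F := rfl
    rw [e1, e2] at h6
    rw [e2] at h7
    omega

end Cfsg.Agent.KFacts.MM.El16
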