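import Cfsg.Agent.KFacts.MM.Cent
import Cfsg.Agent.J4Type.Aut22

/-!
# K-facts for the glue of `M22`, `M23` (helper316)

* `out` : two outer automorphisms of `M22` differ by an inner one;
* `inner_of_fix` : an automorphism of `M22` fixing `V` elementwise is the conjugation by an element of `V`;
* `syl` : an outer automorphism of `M22` moves some element of the Sylow 2-subgroup `S`;
* `z_second22`, `z_second23` : `z` lies in the second derived subgroup of its centraliser in `M22`, `M23`.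
-/

set_option autoImplicit false

namespace Cfsg.Agent.KFacts.MM.GlueK

open Cfsg Cfsg.Agent.KFacts.MM.El Cfsg.Agent.KFacts.MM.Data Cfsg.Agent.KFacts.MM.Sub
open Cfsg.Agent.KFacts.MM.Int Cfsg.Agent.KFacts.MM.El16 Cfsg.Agent.KFacts.MM.Cent
open Cfsg.Agent.SporadicA.GolayBase Cfsg.Agent.SporadicA.GolayPerm Cfsg.Agent.SporadicA.M24Frames
open Cfsg.Agent.OddHalf.MM (Nrm Cen El)
open Cfsg.Agent.J4Type.Aut22 (D22 mem_D22_iff M22_le_D22 mem_M22_iff_D22 exists_conj)

/-- the conjugation by an element of `M22` -/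
theorem eq_conj {α : MulAut Spor.M22} {k : Spor.M22}
    (h : ∀ m : Spor.M22, (α m : Equiv.Perm GolayPt) = k * m * (k : Equiv.Perm GolayPt)⁻¹) :
    α = MulAut.conj k := by
  apply MulEquiv.ext
  intro m
  apply Subtype.ext
  rw [h, MulAut.conj_apply]
  rfl

/-- `Out(M22)` is of order at most 2 -/
theorem out (α β : MulAut Spor.M22) (hα : ∀ k : Spor.M22, α ≠ MulAut.conj k)
    (hβ : ∀ k : Spor.M22, β ≠ MulAut.conj k) : ∃ k : Spor.M22, α * β⁻¹ = MulAut.conj k := by
  obtain ⟨g, hg, h1⟩ := exists_conj α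
  obtain ⟨h, hh, h2⟩ := exists_conj β
  have key : ∀ (γ : MulAut Spor.M22) (x : Equiv.Perm GolayPt), x ∈ D22 →
      (∀ m : Spor.M22, (γ m : Equiv.Perm GolayPt) = x * m * x⁻¹) →
      (∀ k : Spor.M22, γ ≠ MulAut.conj k) → x none = some 0 ∧ x (some 0) = none := by
    intro γ x hx hγ hn
    rcases ((mem_D22_iff x).1 hx).2 with h3 | h3
    · exact absurd (eq_conj (k := ⟨x, (mem_M22_iff_D22 x).2 ⟨hx, h3.1⟩⟩) hγ) (hn _)
    · exact h3
  have g1 := key α g hg h1 hα
  have g2 := key β h hh h2 hβ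
  have hgh : g * h⁻¹ ∈ Spor.M22 := by
    rw [mem_M22_iff_D22]
    refine ⟨D22.mul_mem hg (D22.inv_mem hh), ?_⟩
    rw [Equiv.Perm.mul_apply]
    have h4 : h⁻¹ none = some 0 := by
      rw [Equiv.Perm.inv_eq_iff_eq]
      exact g2.2.symm
    rw [h4, g1.2]
  refine ⟨⟨g * h⁻¹, hgh⟩, eq_conj fun m => ?_⟩
  have h5 : (m : Equiv.Perm GolayPt) = h * (β⁻¹ m : Spor.M22) * h⁻¹ := by
    rw [← h2]
    congr 1
    exact (β.apply_symm_apply m).symm
  rw [MulAut.mul_apply, h1]
  have h6 : ((β⁻¹ m : Spor.M22) : Equiv.Perm GolayPt) = h⁻¹ * m * h := by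
    rw [h5]
    group
  rw [h6]
  show g * (h⁻¹ * m * h) * g⁻¹ = g * h⁻¹ * m * (g * h⁻¹)⁻¹
  group

/-- an automorphism fixing `V` elementwise is the conjugation by an element of `V` -/
theorem inner_of_fix (α : MulAut Spor.M22)
    (h : ∀ s : Spor.M22, (s : Equiv.Perm GolayPt) ∈ V → α s = s) :
    ∃ k : Spor.M22, (k : Equiv.Perm GolayPt) ∈ V ∧ α = MulAut.conj k := by
  obtain ⟨g, hg, h1⟩ := exists_conj α
  have hc : Cen g V := by
    intro x hx
    have h2 := h1 ⟨x, V_le22 hx⟩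
    rw [h ⟨x, V_le22 hx⟩ hx] at h2
    have h3 : x = g * x * g⁻¹ := h2
    exact (eq_mul_inv_iff_mul_eq.1 h3).symm
  have hV := CV ((mem_D22_iff g).1 hg).1 hc
  exact ⟨⟨g, V_le22 hV⟩, hV, eq_conj h1⟩

/-- an outer automorphism moves an element of the Sylow 2-subgroup -/
theorem syl (α : MulAut Spor.M22) (hα : ∀ k : Spor.M22, α ≠ MulAut.conj k) :
    ∃ s : Spor.M22, (s : Equiv.Perm GolayPt) ∈ S ∧ α s ≠ s := by
  by_contra hcon
  push Not at hcon
  obtain ⟨k, -, hk⟩ := inner_of_fix α fun s hs => hcon s (V_le hs)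
  exact hα k hk

/-- an automorphism fixing the Sylow 2-subgroup elementwise is the conjugation by an element of the
centre of the Sylow 2-subgroup -/
theorem conj_of_fix (α : MulAut Spor.M22)
    (h : ∀ s : Spor.M22, (s : Equiv.Perm GolayPt) ∈ S → α s = s) :
    ∃ k : Spor.M22, α = MulAut.conj k ∧ ((k : Equiv.Perm GolayPt) = 1 ∨ (k : Equiv.Perm GolayPt) = z) := by
  obtain ⟨k, hkV, hk⟩ := inner_of_fix α fun s hs => h s (V_le hs)
  refine ⟨k, hk, cen _ (V_le hkV) fun s hs => ?_⟩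
  have h1 := h ⟨s, S_le22 hs⟩ hs
  rw [hk, MulAut.conj_apply] at h1
  have h2 : (k : Equiv.Perm GolayPt) * s * (k : Equiv.Perm GolayPt)⁻¹ = s := congrArg Subtype.val h1
  rw [mul_inv_eq_iff_eq_mul] at h2
  exact h2.symm

/-! ### The second derived subgroup of the centraliser of `z` -/

/-- `z = [[a, b], [a, d]]`, `a`, `b`, `d` in `C(z)`; the inverses -/
def aP : ℕ := 980353053615928949671394918088095840
def aQ : ℕ := 963346899445373020599264805269837344
def bP : ℕ := 967561403164393526473300751239124512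
def bQ : ℕ := 970400811686981614125994007180392544
def eP : ℕ := 961360439503047023498727979389224000

/-- `M22` in `C(z)` -/
def okC (P : ℕ) : Bool := ok22 P && weq [P, zP] [zP, P]

theorem of_okC {P : ℕ} (h : okC P = true) : isPerm P = true ∧ pm P ∈ Spor.M22 ∧ pm P * z = z * pm P := by
  unfold okC at h
  rw [Bool.and_eq_true] at h
  obtain ⟨h1, h2⟩ := mem_of_ok22 h.1
  refine ⟨h1, h2, ?_⟩
  have h3 := pr_of_weq (okl2 h1 permz) (okl2 permz h1) h.2
  rwa [pr_two, pr_two] at h3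

theorem okC_a : okC aP = true := by decide +kernel
theorem okC_b : okC bP = true := by decide +kernel
theorem okC_e : okC eP = true := by decide +kernel

theorem inv_a : (pm aP)⁻¹ = pm aQ := by
  have h := pr_of_weq (l := [aQ, aP]) (m := []) (by decide +kernel) rfl (by decide +kernel)
  rw [pr_two, pr_nil] at h
  exact inv_eq_of_mul_eq_one_left h

theorem inv_b : (pm bP)⁻¹ = pm bQ := by
  have h := pr_of_weq (l := [bQ, bP]) (m := []) (by decide +kernel) rfl (by decide +kernel)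
  rw [pr_two, pr_nil] at h
  exact inv_eq_of_mul_eq_one_left h

theorem inv_a' : (pm aQ)⁻¹ = pm aP := by rw [← inv_a, inv_inv]

theorem inv_b' : (pm bQ)⁻¹ = pm bP := by rw [← inv_b, inv_inv]

theorem inv_e : (pm eP)⁻¹ = pm eP := by
  have h := pr_of_weq (l := [eP, eP]) (m := []) (by decide +kernel) rfl (by decide +kernel)
  rw [pr_two, pr_nil] at h
  exact inv_eq_of_mul_eq_one_left h

open scoped commutatorElement in
theorem z_eq : ⁅⁅pm aP, pm bP⁆, ⁅pm aP, pm eP⁆⁆ = z := by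
  have h := pr_of_weq (l := [aP, bP, aQ, bQ, aP, eP, aQ, eP, bP, aP, bQ, aQ, eP, aP, eP, aQ]) (m := [zP])
    (by decide +kernel) (by decide +kernel) (by decide +kernel)
  rw [pr_one] at h
  show _ = pm zP
  rw [← h]
  simp only [pr_cons, pr_nil, commutatorElement_def, mul_inv_rev, inv_a, inv_b, inv_a', inv_b', inv_e,
    mul_one, mul_assoc]

open scoped commutatorElement in
/-- general form -/
theorem z_second {H : Subgroup (Equiv.Perm GolayPt)} (hH : Spor.M22 ≤ H) (zH : z ∈ H) :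
    (⟨z, zH⟩ : H) ∈ ⁅⁅Subgroup.centralizer ({(⟨z, zH⟩ : H)} : Set H),
      Subgroup.centralizer ({(⟨z, zH⟩ : H)} : Set H)⁆,
      ⁅Subgroup.centralizer ({(⟨z, zH⟩ : H)} : Set H),
      Subgroup.centralizer ({(⟨z, zH⟩ : H)} : Set H)⁆⁆ := by
  have hm : ∀ {P : ℕ} (h : okC P = true), (⟨pm P, hH (of_okC h).2.1⟩ : H) ∈
      Subgroup.centralizer ({(⟨z, zH⟩ : H)} : Set H) := by
    intro P h
    rw [Subgroup.mem_centralizer_singleton_iff]
    exact Subtype.ext (of_okC h).2.2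
  have e : (⟨z, zH⟩ : H) = ⁅⁅(⟨pm aP, hH (of_okC okC_a).2.1⟩ : H), (⟨pm bP, hH (of_okC okC_b).2.1⟩ : H)⁆,
      ⁅(⟨pm aP, hH (of_okC okC_a).2.1⟩ : H), (⟨pm eP, hH (of_okC okC_e).2.1⟩ : H)⁆⁆ := by
    apply Subtype.ext
    exact z_eq.symm
  have h1 := Subgroup.commutator_mem_commutator
    (Subgroup.commutator_mem_commutator (hm okC_a) (hm okC_b))
    (Subgroup.commutator_mem_commutator (hm okC_a) (hm okC_e))
  rw [← e] at h1
  exact h1

theorem z22 : z ∈ Spor.M22 := V_le22 zV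

theorem z23 : z ∈ Spor.M23 := M22_le23 z22

theorem z_second22 : (⟨z, z22⟩ : Spor.M22) ∈ ⁅⁅Subgroup.centralizer ({(⟨z, z22⟩ : Spor.M22)} : Set Spor.M22),
      Subgroup.centralizer ({(⟨z, z22⟩ : Spor.M22)} : Set Spor.M22)⁆,
      ⁅Subgroup.centralizer ({(⟨z, z22⟩ : Spor.M22)} : Set Spor.M22),
      Subgroup.centralizer ({(⟨z, z22⟩ : Spor.M22)} : Set Spor.M22)⁆⁆ :=
  z_second le_rfl z22

theorem z_second23 : (⟨z, z23⟩ : Spor.M23) ∈ ⁅⁅Subgroup.centralizer ({(⟨z, z23⟩ : Spor.M23)} : Set Spor.M23),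
      Subgroup.centralizer ({(⟨z, z23⟩ : Spor.M23)} : Set Spor.M23)⁆,
      ⁅Subgroup.centralizer ({(⟨z, z23⟩ : Spor.M23)} : Set Spor.M23),
      Subgroup.centralizer ({(⟨z, z23⟩ : Spor.M23)} : Set Spor.M23)⁆⁆ :=
  z_second (fun _ h => M22_le23 h) z23

end Cfsg.Agent.KFacts.MM.GlueK
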