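import Cfsg.Agent.KFacts.MM.Sub

/-!
# Facts inside the Sylow 2-subgroup `S = VW⟨c⟩` of `M22`
-/

set_option autoImplicit false

namespace Cfsg.Agent.KFacts.MM.Int

open Cfsg El Data Cfsg.Agent.KFacts.MM.Sub Cfsg.Agent.SporadicA.GolayBase Cfsg.Agent.SporadicA.GolayPerm
open Cfsg.Agent.OddHalf.MM (Nrm Cen El)

/-! ### The intersection -/

theorem mem_V0 {g : Equiv.Perm GolayPt} (hV : g ∈ V) (hW : g ∈ W) : ∃ P ∈ V0L, pm P = g := by
  obtain ⟨P, hP, rfl⟩ := hV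
  obtain ⟨Q, hQ, hPQ⟩ := hW
  have h : (VL.all fun P => WL.all fun Q => !weq [P] [Q] || V0L.any fun R => Nat.beq P R) = true := by
    decide +kernel
  have h1 := List.all_eq_true.1 (List.all_eq_true.1 h P hP) Q hQ
  rw [Bool.or_eq_true, Bool.not_eq_true'] at h1
  rcases h1 with h1 | h1
  · exact absurd (by rw [pr_one, pr_one, hPQ]) (pr_ne (okl1 (pV hP)) (okl1 (pW hQ)) h1)
  · obtain ⟨R, hR, h2⟩ := List.any_eq_true.1 h1
    rw [Nat.eq_of_beq_eq_true h2]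
    exact ⟨R, hR, rfl⟩

theorem V0_mem {P : ℕ} (h : P ∈ V0L) : P ∈ VL ∧ P ∈ WL := by
  have h1 : (V0L.all fun P => (VL.any fun R => Nat.beq P R) && WL.any fun R => Nat.beq P R) = true := by
    decide +kernel
  have h2 := List.all_eq_true.1 h1 P h
  rw [Bool.and_eq_true] at h2
  obtain ⟨R, hR, h3⟩ := List.any_eq_true.1 h2.1
  obtain ⟨T, hT, h4⟩ := List.any_eq_true.1 h2.2
  constructor
  · rw [Nat.eq_of_beq_eq_true h3]; exact hR
  · rw [Nat.eq_of_beq_eq_true h4]; exact hT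

theorem cardVW : Nat.card (V ⊓ W : Subgroup (Equiv.Perm GolayPt)) = 4 := by
  have h0 : ∀ l ∈ V0L.map fun P => [P], okl l = true := by
    intro l hl
    obtain ⟨P, hP, rfl⟩ := List.mem_map.1 hl
    exact okl1 (pV (V0_mem hP).1)
  have h1 := card_of_list (L := V0L.map fun P => [P]) h0 (by decide +kernel)
    ((V ⊓ W : Subgroup (Equiv.Perm GolayPt)) : Set (Equiv.Perm GolayPt)) (by
    intro g
    rw [SetLike.mem_coe, Subgroup.mem_inf]
    constructor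
    · rintro ⟨hV, hW⟩
      obtain ⟨P, hP, rfl⟩ := mem_V0 hV hW
      exact ⟨[P], List.mem_map.2 ⟨P, hP, rfl⟩, pr_one P⟩
    · rintro ⟨l, hl, rfl⟩
      obtain ⟨P, hP, rfl⟩ := List.mem_map.1 hl
      rw [pr_one]
      exact ⟨⟨P, (V0_mem hP).1, rfl⟩, ⟨P, (V0_mem hP).2, rfl⟩⟩)
  exact h1

theorem zV : z ∈ V := ⟨zP, by decide +kernel, rfl⟩

theorem zW : z ∈ W := ⟨zP, by decide +kernel, rfl⟩

theorem z1 : z ≠ 1 := by
  have h := pr_ne (l := [zP]) (m := []) (by decide +kernel) rfl (by decide +kernel)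
  rwa [pr_one, pr_nil] at h

theorem cN : ∀ v ∈ V, ∀ w ∈ W, c ≠ v * w := by
  rintro _ ⟨P, hP, rfl⟩ _ ⟨Q, hQ, rfl⟩
  have h : (VL.all fun P => WL.all fun Q => !weq [cP] [P, Q]) = true := by decide +kernel
  have h1 := List.all_eq_true.1 (List.all_eq_true.1 h P hP) Q hQ
  rw [Bool.not_eq_true'] at h1
  have h2 := pr_ne (okl1 permc) (okl2 (pV hP) (pW hQ)) h1
  rwa [pr_one, pr_two] at h2

theorem comm_mem : ∀ v ∈ V, ∀ w ∈ W, v * w = w * v → v ∈ W ∨ w ∈ V := by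
  rintro _ ⟨P, hP, rfl⟩ _ ⟨Q, hQ, rfl⟩ hc
  have h : (VL.all fun P => WL.all fun Q => !weq [P, Q] [Q, P] ||
      ((V0L.any fun R => Nat.beq P R) || V0L.any fun R => Nat.beq Q R)) = true := by decide +kernel
  have h1 := List.all_eq_true.1 (List.all_eq_true.1 h P hP) Q hQ
  rw [Bool.or_eq_true, Bool.not_eq_true', Bool.or_eq_true] at h1
  rcases h1 with h1 | h1 | h1
  · exact absurd (by rw [pr_two, pr_two, hc]) (pr_ne (okl2 (pV hP) (pW hQ)) (okl2 (pW hQ) (pV hP)) h1)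
  · obtain ⟨R, hR, h2⟩ := List.any_eq_true.1 h1
    rw [Nat.eq_of_beq_eq_true h2]
    exact Or.inl ⟨R, (V0_mem hR).2, rfl⟩
  · obtain ⟨R, hR, h2⟩ := List.any_eq_true.1 h1
    rw [Nat.eq_of_beq_eq_true h2]
    exact Or.inr ⟨R, (V0_mem hR).1, rfl⟩

theorem cVW : ∀ v ∈ V, v ∉ W → ∀ w ∈ W, v * w = w * v → w ∈ V :=
  fun v hv hvW w hw h => (comm_mem v hv w hw h).resolve_left hvW

theorem cWV : ∀ w ∈ W, w ∉ V → ∀ v ∈ V, v * w = w * v → v ∈ W :=
  fun w hw hwV v hv h => (comm_mem v hv w hw h).resolve_right hwV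

/-! ### The centre -/

theorem cen : ∀ y ∈ S, (∀ s ∈ S, s * y = y * s) → y = 1 ∨ y = z := by
  have key : ∀ l : List ℕ, okl l = true →
      (weq l [] || (weq l [zP] || (!weq (cP :: l) (l ++ [cP]) || ((VL.any fun P => !weq (P :: l) (l ++ [P])) ||
        WL.any fun P => !weq (P :: l) (l ++ [P]))))) = true →
      (∀ s ∈ S, s * pr l = pr l * s) → pr l = 1 ∨ pr l = z := by
    intro l hl h hc
    have hap : ∀ P, isPerm P = true → okl (P :: l) = true ∧ okl (l ++ [P]) = true := by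
      intro P hP
      unfold okl at hl ⊢
      rw [List.all_cons, List.all_append, List.all_cons, hl, hP]
      exact ⟨rfl, rfl⟩
    rw [Bool.or_eq_true, Bool.or_eq_true, Bool.or_eq_true, Bool.or_eq_true, Bool.not_eq_true'] at h
    rcases h with h | h | h | h | h
    · exact Or.inl (pr_of_weq hl rfl h)
    · right
      have := pr_of_weq hl (okl1 permz) h
      rwa [pr_one] at this
    · have h1 := pr_ne (hap _ permc).1 (hap _ permc).2 h
      rw [pr_cons, pr_append, pr_one] at h1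
      exact absurd (hc _ c_mem) h1
    · obtain ⟨P, hP, h2⟩ := List.any_eq_true.1 h
      rw [Bool.not_eq_true'] at h2
      have h1 := pr_ne (hap _ (pV hP)).1 (hap _ (pV hP)).2 h2
      rw [pr_cons, pr_append, pr_one] at h1
      exact absurd (hc _ (V_le ⟨P, hP, rfl⟩)) h1
    · obtain ⟨P, hP, h2⟩ := List.any_eq_true.1 h
      rw [Bool.not_eq_true'] at h2
      have h1 := pr_ne (hap _ (pW hP)).1 (hap _ (pW hP)).2 h2
      rw [pr_cons, pr_append, pr_one] at h1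
      exact absurd (hc _ (W_le ⟨P, hP, rfl⟩)) h1
  have k1 : (VL.all fun P => WL.all fun Q => (fun l => (weq l [] || (weq l [zP] ||
      (!weq (cP :: l) (l ++ [cP]) || ((VL.any fun P => !weq (P :: l) (l ++ [P])) ||
        WL.any fun P => !weq (P :: l) (l ++ [P])))))) [P, Q]) = true := by decide +kernel
  have k2 : (VL.all fun P => WL.all fun Q => (fun l => (weq l [] || (weq l [zP] ||
      (!weq (cP :: l) (l ++ [cP]) || ((VL.any fun P => !weq (P :: l) (l ++ [P])) ||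
        WL.any fun P => !weq (P :: l) (l ++ [P])))))) [P, Q, cP]) = true := by decide +kernel
  rintro _ ⟨_, ⟨P, hP, rfl⟩, _, ⟨Q, hQ, rfl⟩, rfl | rfl⟩ hc
  · have := key [P, Q] (okl2 (pV hP) (pW hQ)) (List.all_eq_true.1 (List.all_eq_true.1 k1 P hP) Q hQ)
    rw [pr_two] at this
    exact this hc
  · have := key [P, Q, cP] (okl3 (pV hP) (pW hQ) permc)
      (List.all_eq_true.1 (List.all_eq_true.1 k2 P hP) Q hQ)
    rw [pr_three] at this
    exact this hc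

/-! ### The action of `c` -/

theorem c0 : ∃ x ∈ V, x ∈ W ∧ c * x ≠ x * c := by
  have h : (V0L.any fun P => !weq [cP, P] [P, cP]) = true := by decide +kernel
  obtain ⟨P, hP, h1⟩ := List.any_eq_true.1 h
  rw [Bool.not_eq_true'] at h1
  have h2 := pr_ne (okl2 permc (pV (V0_mem hP).1)) (okl2 (pV (V0_mem hP).1) permc) h1
  rw [pr_two, pr_two] at h2
  exact ⟨pm P, ⟨P, (V0_mem hP).1, rfl⟩, ⟨P, (V0_mem hP).2, rfl⟩, h2⟩

/-- `c x ≠ r x c` for all `r ∈ V ∩ W` -/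
theorem c_layer (L : List ℕ) (hL : ∀ P ∈ L, isPerm P = true)
    (h : (L.any fun P => V0L.all fun R => !weq [cP, P] [R, P, cP]) = true) :
    ∃ P ∈ L, ∀ R ∈ V0L, c * pm P * c⁻¹ * (pm P)⁻¹ ≠ pm R := by
  obtain ⟨P, hP, h1⟩ := List.any_eq_true.1 h
  refine ⟨P, hP, fun R hR e => ?_⟩
  have h2 := List.all_eq_true.1 h1 R hR
  rw [Bool.not_eq_true'] at h2
  have h3 := pr_ne (okl2 permc (hL P hP)) (okl3 (pV (V0_mem hR).1) (hL P hP) permc) h2
  rw [pr_two, pr_three] at h3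
  apply h3
  rw [← e]
  show pm cP * pm P = c * pm P * c⁻¹ * (pm P)⁻¹ * pm P * pm cP
  unfold c
  group

theorem cV' : ∃ v ∈ V, c * v * c⁻¹ * v⁻¹ ∉ W := by
  obtain ⟨P, hP, h⟩ := c_layer VL (fun P hP => pV hP) (by decide +kernel)
  have hPV : pm P ∈ V := ⟨P, hP, rfl⟩
  refine ⟨pm P, hPV, fun hW => ?_⟩
  obtain ⟨R, hR, e⟩ := mem_V0 (mul_mem (cV _ hPV) (inv_mem hPV)) hW
  exact h R hR e.symm

theorem cW' : ∃ w ∈ W, c * w * c⁻¹ * w⁻¹ ∉ V := by
  obtain ⟨P, hP, h⟩ := c_layer WL (fun P hP => pW hP) (by decide +kernel)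
  have hPV : pm P ∈ W := ⟨P, hP, rfl⟩
  refine ⟨pm P, hPV, fun hV => ?_⟩
  obtain ⟨R, hR, e⟩ := mem_V0 hV (mul_mem (cW _ hPV) (inv_mem hPV))
  exact h R hR e.symm

/-- `z` is a commutator of elements of `V`, `W` -/
theorem z_comm : ∃ v ∈ V, ∃ w ∈ W, v * w * v⁻¹ * w⁻¹ = z := by
  have h : (VL.any fun P => WL.any fun Q => weq [P, Q] [zP, Q, P]) = true := by decide +kernel
  obtain ⟨P, hP, h1⟩ := List.any_eq_true.1 h
  obtain ⟨Q, hQ, h2⟩ := List.any_eq_true.1 h1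
  have h3 := pr_of_weq (okl2 (pV hP) (pW hQ)) (okl3 permz (pW hQ) (pV hP)) h2
  rw [pr_two, pr_three] at h3
  refine ⟨pm P, ⟨P, hP, rfl⟩, pm Q, ⟨Q, hQ, rfl⟩, ?_⟩
  rw [h3]
  show pm zP * pm Q * pm P * (pm P)⁻¹ * (pm Q)⁻¹ = pm zP
  group

/-- `z` is central in `S` -/
theorem z_central : ∀ s ∈ S, s * z = z * s := by
  have h1 : (VL.all fun P => weq [P, zP] [zP, P]) = true := by decide +kernel
  have h2 : (WL.all fun P => weq [P, zP] [zP, P]) = true := by decide +kernel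
  have h3 : weq [cP, zP] [zP, cP] = true := by decide +kernel
  have hv : ∀ v ∈ V, v * z = z * v := by
    rintro _ ⟨P, hP, rfl⟩
    have := pr_of_weq (okl2 (pV hP) permz) (okl2 permz (pV hP)) (List.all_eq_true.1 h1 P hP)
    rwa [pr_two, pr_two] at this
  have hw : ∀ v ∈ W, v * z = z * v := by
    rintro _ ⟨P, hP, rfl⟩
    have := pr_of_weq (okl2 (pW hP) permz) (okl2 permz (pW hP)) (List.all_eq_true.1 h2 P hP)
    rwa [pr_two, pr_two] at this
  have hc : c * z = z * c := by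
    have := pr_of_weq (okl2 permc permz) (okl2 permz permc) h3
    rwa [pr_two, pr_two] at this
  rintro _ ⟨v, hv', w, hw', rfl | rfl⟩
  · rw [mul_assoc, hw w hw', ← mul_assoc, hv v hv', mul_assoc]
  · rw [mul_assoc, hc, ← mul_assoc, mul_assoc v, hw w hw', ← mul_assoc, hv v hv', mul_assoc, mul_assoc,
      mul_assoc]

/-! ### `V` and `W` are normal in `S` -/

theorem S_V : ∀ s ∈ S, ∀ x ∈ V, s * x * s⁻¹ ∈ V := by
  rintro _ ⟨v, hv, w, hw, rfl | rfl⟩ x hx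
  · have := mul_mem (mul_mem hv (WV w hw x hx)) (inv_mem hv)
    have e : v * w * x * (v * w)⁻¹ = v * (w * x * w⁻¹) * v⁻¹ := by group
    rwa [e]
  · have := mul_mem (mul_mem hv (WV w hw _ (cV x hx))) (inv_mem hv)
    have e : v * w * c * x * (v * w * c)⁻¹ = v * (w * (c * x * c⁻¹) * w⁻¹) * v⁻¹ := by group
    rwa [e]

theorem S_W : ∀ s ∈ S, ∀ x ∈ W, s * x * s⁻¹ ∈ W := by
  rintro _ ⟨v, hv, w, hw, rfl | rfl⟩ x hx
  · have := VW v hv _ (mul_mem (mul_mem hw hx) (inv_mem hw))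
    have e : v * w * x * (v * w)⁻¹ = v * (w * x * w⁻¹) * v⁻¹ := by group
    rwa [e]
  · have := VW v hv _ (mul_mem (mul_mem hw (cW x hx)) (inv_mem hw))
    have e : v * w * c * x * (v * w * c)⁻¹ = v * (w * (c * x * c⁻¹) * w⁻¹) * v⁻¹ := by group
    rwa [e]

end Cfsg.Agent.KFacts.MM.Int
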