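import Cfsg.Agent.KFacts.MM.El
import Cfsg.Agent.KFacts.MM.Data
import Cfsg.Agent.J4.M24Invol

/-!
# M22 and M23 have one class of involutions (helper969)

`inv22`, `inv23`: every involution of `Spor.M22` (`Spor.M23`) is conjugate in that group to the
involution packed in `Data.zP`.
-/

set_option autoImplicit false

namespace Cfsg.Agent.KFacts.MM.InvM22

open Cfsg Cfsg.Agent.SporadicA.GolayBase Cfsg.Agent.SporadicA.GolayPerm
open Cfsg.Agent.SporadicStructure.M24El

/-- the test for the tables -/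
def row (i : ℕ) (P : ℕ) : Bool :=
  ok P && El.weq [P, Data.zP] [Data.zP, P] && Nat.beq (papp P 23) i

def row2 (i : ℕ) (P : ℕ) : Bool :=
  ok P && El.weq [P, Data.zP] [Data.zP, P] && Nat.beq (papp P 23) 23 && Nat.beq (papp P 0) i

theorem ok_z : ok Data.zP = true := by decide +kernel

theorem tab1 : (El.pts.all fun i => !(Nat.beq (papp Data.zP i) i) || Data.h1L.any (row i)) = true := by
  decide +kernel

theorem tab2 : (El.pts.all fun i => !(Nat.beq (papp Data.zP i) i) || Nat.beq i 23 ||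
    Data.h2L.any (row2 i)) = true := by
  decide +kernel

theorem P2_free : (El.pts.all fun i => !(Nat.beq (papp J4.M24InvolData.P2 i) i)) = true := by
  decide +kernel

theorem z_ne : ¬ (papp Data.zP 4 = 4) := by decide +kernel

theorem z_sq : El.weq [Data.zP, Data.zP] [] = true := by decide +kernel

theorem isPerm_of_ok {P : ℕ} (h : ok P = true) : isPerm P = true := (ok_iff.1 h).1

theorem pm_mem {P : ℕ} (h : ok P = true) : El.pm P ∈ M24 :=
  El.pm_mem_M24 (ok_iff.1 h).1 (ok_iff.1 h).2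

theorem pm_sq : El.pm Data.zP * El.pm Data.zP = 1 := by
  have h := El.pr_of_weq (l := [Data.zP, Data.zP]) (m := []) (by decide +kernel) rfl z_sq
  rwa [El.pr_cons, El.pr_one, El.pr_nil] at h

theorem pm_ne : El.pm Data.zP ≠ 1 := by
  intro e
  apply z_ne
  rw [← El.val_pm (isPerm_of_ok ok_z) (by norm_num : 4 < 24), e, El.val_one (by norm_num)]

theorem comm_of_row {P : ℕ} (hP : ok P = true) (h : El.weq [P, Data.zP] [Data.zP, P] = true) :
    El.pm P * El.pm Data.zP = El.pm Data.zP * El.pm P := by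
  have h1 := isPerm_of_ok hP
  have h2 := isPerm_of_ok ok_z
  have hl : ∀ {A B : ℕ}, isPerm A = true → isPerm B = true → El.okl [A, B] = true := by
    intro A B hA hB
    unfold El.okl
    rw [List.all_cons, List.all_cons, List.all_nil, hA, hB]
    rfl
  have h3 := El.pr_of_weq (hl h1 h2) (hl h2 h1) h
  rwa [El.pr_cons, El.pr_one, El.pr_cons, El.pr_one] at h3

/-- an involution of `M24` with a fixed point is conjugate to `el P1` -/
theorem conj_P1 {u : Equiv.Perm GolayPt} (hu : u ∈ M24) (h2 : u * u = 1) (h1 : u ≠ 1)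
    {p : GolayPt} (hp : u p = p) :
    ∃ g ∈ M24, g * u * g⁻¹ = ((el J4.M24InvolData.P1 : M24) : Equiv.Perm GolayPt) := by
  obtain ⟨g, hg | hg⟩ := J4.M24Invol.invol_conj ⟨u, hu⟩ (Subtype.ext h2)
    (fun e => h1 (congrArg Subtype.val e))
  · exact ⟨g, g.2, congrArg Subtype.val hg⟩
  · exfalso
    have hg' : (g : Equiv.Perm GolayPt) * u * (g : Equiv.Perm GolayPt)⁻¹ =
      ((el J4.M24InvolData.P2 : M24) : Equiv.Perm GolayPt) := congrArg Subtype.val hg
    have hok : isPerm J4.M24InvolData.P2 = true := isPerm_of_ok J4.M24Invol.ok_P2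
    have h3 : El.pm J4.M24InvolData.P2 (pt (idx ((g : Equiv.Perm GolayPt) p))) =
        pt (idx ((g : Equiv.Perm GolayPt) p)) := by
      rw [← El.coe_el J4.M24Invol.ok_P2, ← hg', pt_idx]
      show (g : Equiv.Perm GolayPt) (u ((g : Equiv.Perm GolayPt)⁻¹ ((g : Equiv.Perm GolayPt) p))) = _
      rw [show (g : Equiv.Perm GolayPt)⁻¹ ((g : Equiv.Perm GolayPt) p) = p from
        (g : Equiv.Perm GolayPt).symm_apply_apply p, hp]
    have hlt := idx_lt ((g : Equiv.Perm GolayPt) p)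
    have h4 := El.val_pm hok hlt
    unfold El.val at h4
    rw [h3, idx_pt hlt] at h4
    have h5 := P2_free
    rw [List.all_eq_true] at h5
    have h6 := h5 _ (El.mem_pts hlt)
    rw [← h4, Nat.beq_refl] at h6
    exact absurd h6 (by decide)

/-- conjugacy in `M24` -/
theorem conj24 {u : Equiv.Perm GolayPt} (hu : u ∈ M24) (h2 : u * u = 1) (h1 : u ≠ 1)
    {p : GolayPt} (hp : u p = p) : ∃ g ∈ M24, u = g * El.pm Data.zP * g⁻¹ := by
  obtain ⟨g, hg, e⟩ := conj_P1 hu h2 h1 hp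
  have hz : El.pm Data.zP (pt 23) = pt 23 := by
    rw [← El.pt_val, El.val_pm (isPerm_of_ok ok_z) (by norm_num),
      show papp Data.zP 23 = 23 by decide +kernel]
  obtain ⟨k, hk, e'⟩ := conj_P1 (pm_mem ok_z) pm_sq pm_ne hz
  refine ⟨g⁻¹ * k, M24.mul_mem (M24.inv_mem hg) hk, ?_⟩
  have h3 : g⁻¹ * k * El.pm Data.zP * (g⁻¹ * k)⁻¹ = g⁻¹ * (k * El.pm Data.zP * k⁻¹) * g := by group
  rw [h3, e', ← e]
  group

/-- adjusting a conjugating element by an element of the centraliser -/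
theorem adjust {u g h : Equiv.Perm GolayPt} (e : u = g * El.pm Data.zP * g⁻¹)
    (hc : h * El.pm Data.zP = El.pm Data.zP * h) : u = (g * h) * El.pm Data.zP * (g * h)⁻¹ := by
  have h3 : (g * h) * El.pm Data.zP * (g * h)⁻¹ = g * (h * El.pm Data.zP * h⁻¹) * g⁻¹ := by group
  rw [h3, hc, mul_assoc (El.pm Data.zP) h, mul_inv_cancel, mul_one, e]

/-- a fixed point of `u` is moved by `g⁻¹` to a fixed point of `z` -/
theorem papp_fix {u g : Equiv.Perm GolayPt} (e : u = g * El.pm Data.zP * g⁻¹) {p : GolayPt}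
    (hp : u p = p) : papp Data.zP (idx (g⁻¹ p)) = idx (g⁻¹ p) := by
  have hlt := idx_lt (g⁻¹ p)
  rw [← El.val_pm (isPerm_of_ok ok_z) hlt]
  unfold El.val
  rw [pt_idx]
  have h1 : g (El.pm Data.zP (g⁻¹ p)) = p := by
    have h2 : (g * El.pm Data.zP * g⁻¹) p = p := by rw [← e]; exact hp
    exact h2
  congr 1
  rw [Equiv.Perm.eq_inv_iff_eq]
  exact h1

theorem inv23 (u : Equiv.Perm GolayPt) (hu : u ∈ Spor.M23) (h2 : u * u = 1) (h1 : u ≠ 1) :
    ∃ g ∈ Spor.M23, u = g * El.pm Data.zP * g⁻¹ := by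
  have hu24 : u ∈ M24 := hu.1
  have hun : u none = none := hu.2
  obtain ⟨g, hg, e⟩ := conj24 hu24 h2 h1 hun
  have hfix := papp_fix e hun
  have hlt := idx_lt (g⁻¹ none)
  have h3 := tab1
  rw [List.all_eq_true] at h3
  have h4 := h3 _ (El.mem_pts hlt)
  rw [hfix, Nat.beq_refl, Bool.not_true, Bool.false_or, List.any_eq_true] at h4
  obtain ⟨P, -, hP⟩ := h4
  unfold row at hP
  rw [Bool.and_eq_true, Bool.and_eq_true, Nat.beq_eq] at hP
  obtain ⟨⟨hok, hw⟩, hv⟩ := hP
  refine ⟨g * El.pm P, ⟨M24.mul_mem hg (pm_mem hok), ?_⟩, adjust e (comm_of_row hok hw)⟩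
  show (g * El.pm P) none = none
  rw [Equiv.Perm.mul_apply]
  have h5 : El.pm P none = g⁻¹ none := by
    have h6 : El.pm P (pt 23) = pt (idx (g⁻¹ none)) := by
      rw [← El.pt_val, El.val_pm (isPerm_of_ok hok) (by norm_num), hv]
    rw [pt_idx] at h6
    exact h6
  rw [h5]
  exact g.apply_symm_apply none

theorem inv22 (u : Equiv.Perm GolayPt) (hu : u ∈ Spor.M22) (h2 : u * u = 1) (h1 : u ≠ 1) :
    ∃ g ∈ Spor.M22, u = g * El.pm Data.zP * g⁻¹ := by
  obtain ⟨g, hg, e⟩ := inv23 u hu.1 h2 h1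
  have hgn : g none = none := hg.2
  have hu0 : u (some 0) = some 0 := hu.2
  have hfix := papp_fix e hu0
  have hlt := idx_lt (g⁻¹ (some 0))
  have hne : idx (g⁻¹ (some 0)) ≠ 23 := by
    intro h
    have h3 : g⁻¹ (some 0) = none := by
      rw [← pt_idx (g⁻¹ (some 0)), h]
      rfl
    have h4 : g none = some 0 := by
      rw [← h3]
      exact g.apply_symm_apply _
    rw [hgn] at h4
    cases h4
  have h3 := tab2
  rw [List.all_eq_true] at h3
  have h4 := h3 _ (El.mem_pts hlt)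
  have h5 : Nat.beq (idx (g⁻¹ (some 0))) 23 = false := by
    rw [Bool.eq_false_iff]
    intro h
    exact hne (Nat.eq_of_beq_eq_true h)
  rw [hfix, Nat.beq_refl, Bool.not_true, Bool.false_or, h5, Bool.false_or, List.any_eq_true] at h4
  obtain ⟨P, -, hP⟩ := h4
  unfold row2 at hP
  rw [Bool.and_eq_true, Bool.and_eq_true, Bool.and_eq_true, Nat.beq_eq, Nat.beq_eq] at hP
  obtain ⟨⟨⟨hok, hw⟩, hv⟩, hv0⟩ := hP
  have hPn : El.pm P none = none := by
    have h6 : El.pm P (pt 23) = pt 23 := by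
      rw [← El.pt_val, El.val_pm (isPerm_of_ok hok) (by norm_num), hv]
    exact h6
  refine ⟨g * El.pm P, ⟨⟨M24.mul_mem hg.1 (pm_mem hok), ?_⟩, ?_⟩, adjust e (comm_of_row hok hw)⟩
  · show (g * El.pm P) none = none
    rw [Equiv.Perm.mul_apply, hPn, hgn]
  · show (g * El.pm P) (some 0) = some 0
    rw [Equiv.Perm.mul_apply]
    have h6 : El.pm P (some 0) = g⁻¹ (some 0) := by
      have h7 : El.pm P (pt 0) = pt (idx (g⁻¹ (some 0))) := by
        rw [← El.pt_val, El.val_pm (isPerm_of_ok hok) (by norm_num), hv0]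
      rw [pt_idx] at h7
      have h8 : pt 0 = (some 0 : GolayPt) := by
        unfold pt
        simp
      rw [h8] at h7
      exact h7
    rw [h6]
    exact g.apply_symm_apply _

end Cfsg.Agent.KFacts.MM.InvM22
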