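import Cfsg.Agent.KFacts.MM.InvM22
import Cfsg.Agent.J4Type.Aut22

/-!
# The involutions of `D22 = M22:2` outside `M22`

`inv_out`: an involution of `D22` outside `M22` is conjugate under `M22` to the involution packed in `bP` (type
`1^8 2^8`) or in `cP` (type `2^12`).
-/

set_option autoImplicit false

namespace Cfsg.Agent.KFacts.MM.InvOut

open Cfsg Cfsg.Agent.SporadicA.GolayBase Cfsg.Agent.SporadicA.GolayPerm
open Cfsg.Agent.SporadicStructure.M24El Cfsg.Agent.J4Type.Aut22

/-- the outer involution of type `1^8 2^8` -/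
def bP : ℕ := 1914911924472243136386796373820119

/-- the outer involution of type `2^12` -/
def cP : ℕ := 2808583293512710820028439172831447

/-- conjugates `bP` to `P1` -/
def gB : ℕ := 13611335312783174011501912370040194

/-- conjugates `cP` to `P2` -/
def gC : ℕ := 13068822485206276655119513267290345

/-- elements commuting with `P1` -/
def hB : List ℕ := [
  984818244535754528103549039458486304,
  970538992418718774876113737513730146,
  362553560939886452458423999101196399,
  726274566604616959877276909464296072,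
  402854394882367549375522275057576108,
  395230050926030335011804381491844141,
  975099167367143997163366438976733835,
  426459968842163354966003995949380757,
  797117087383379987268938402487219381,
  626529360229392337751241354014826598,
  722599214209702036400997348453505263,
  91418665656170596029373900940041681,
  428005751152569428841304981052113483,
  517954811042232104866764635160753269,
  789642024137996312745770922860303405,
  8219904618265178018076044327765047]

/-- elements commuting with `P2` -/
def hC : List ℕ := [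
  984818244535754528103549039458486304,
  845562451063237962141214594532844545,
  430289677500563459901050217871147303,
  215523871887267654656452078338069155,
  632823936864421362313402385466576452,
  560899977264012701353748373599604293,
  729770052312259887028432911302152869,
  648165856980067828296190326473793639,
  216821814841571607943162603773418893,
  307063742377302892088443783070518537,
  317448172600573089658662660941910186,
  894023391476413076539280837281681579,
  375898311782299089124720176526499952,
  891427435103578941198294460303741101,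
  419865819865328127076742742516308213,
  722021470091843795583957749464470671,
  546621653344898351491873544087443696,
  344531599915761785167087668833638031,
  187005441136687628521564002233800338,
  423798424789463348983954760474448562,
  809066245619727178530535045698986100,
  802221438777449412053025386908037858,
  83246204287815833858999822285745591,
  4688664803823436492535327677919974]

/-- the tests for the tables -/
def row (P i h : ℕ) : Bool := ok h && El.weq [h, P] [P, h] && Nat.beq (papp h i) 0

def chk (P rep g0 : ℕ) (H : List ℕ) : Bool :=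
  (El.pts.all fun i => Nat.beq (papp P i) i || H.any (row P i)) &&
    (ok P && ok rep && ok g0 && Nat.beq (papp g0 23) 0 && Nat.beq (papp g0 0) (papp P 0) &&
      El.weq [P, g0] [g0, rep])

theorem chk1 : chk J4.M24InvolData.P1 bP gB hB = true := by decide +kernel

theorem chk2 : chk J4.M24InvolData.P2 cP gC hC = true := by decide +kernel

theorem okl_two {A B : ℕ} (hA : ok A = true) (hB : ok B = true) : El.okl [A, B] = true := by
  unfold El.okl
  rw [List.all_cons, List.all_cons, List.all_nil, InvM22.isPerm_of_ok hA, InvM22.isPerm_of_ok hB]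
  rfl

theorem pm_of_weq {A B C D : ℕ} (hA : ok A = true) (hB : ok B = true) (hC : ok C = true)
    (hD : ok D = true) (h : El.weq [A, B] [C, D] = true) :
    El.pm A * El.pm B = El.pm C * El.pm D := by
  have h3 := El.pr_of_weq (okl_two hA hB) (okl_two hC hD) h
  rwa [El.pr_cons, El.pr_one, El.pr_cons, El.pr_one] at h3

theorem pm_pt {P : ℕ} (h : ok P = true) {i : ℕ} (hi : i < 24) : El.pm P (pt i) = pt (papp P i) := by
  rw [← El.pt_val, El.val_pm (InvM22.isPerm_of_ok h) hi]

theorem pt_23 : pt 23 = (none : GolayPt) := rfl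

theorem pt_0 : pt 0 = (some 0 : GolayPt) := by
  unfold pt
  simp

/-- the conjugation step -/
theorem conj_step {P rep g0 : ℕ} {H : List ℕ} (hc : chk P rep g0 H = true)
    {u g : Equiv.Perm GolayPt} (hg : g ∈ M24) (e : g * u * g⁻¹ = El.pm P)
    (hu : u none = some 0) : ∃ m ∈ Spor.M22, u = m * El.pm rep * m⁻¹ := by
  unfold chk at hc
  rw [Bool.and_eq_true, Bool.and_eq_true, Bool.and_eq_true, Bool.and_eq_true, Bool.and_eq_true,
    Bool.and_eq_true, Nat.beq_eq, Nat.beq_eq, List.all_eq_true] at hc
  obtain ⟨hrow, ⟨⟨⟨⟨hP, hrep⟩, hg0⟩, h23⟩, h0⟩, hw⟩ := hc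
  have hw' := pm_of_weq hP hg0 hg0 hrep hw
  -- `P` moves `g none`
  have hPg : El.pm P (g none) = g (some 0) := by
    rw [← e, ← hu]
    show g (u (g⁻¹ (g none))) = g (u none)
    rw [show g⁻¹ (g none) = none from g.symm_apply_apply _]
  have hlt := idx_lt (g none)
  have hPg' : pt (papp P (idx (g none))) = g (some 0) := by
    rw [← pm_pt hP hlt, pt_idx, hPg]
  have h4 := hrow _ (El.mem_pts hlt)
  have h5 : Nat.beq (papp P (idx (g none))) (idx (g none)) = false := by
    rw [Bool.eq_false_iff]
    intro h
    have h6 := Nat.eq_of_beq_eq_true h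
    rw [h6, pt_idx] at hPg'
    have h7 := g.injective hPg'
    cases h7
  rw [h5, Bool.false_or, List.any_eq_true] at h4
  obtain ⟨h, -, hh⟩ := h4
  unfold row at hh
  rw [Bool.and_eq_true, Bool.and_eq_true, Nat.beq_eq] at hh
  obtain ⟨⟨hok, hhw⟩, hv⟩ := hh
  have hcomm := pm_of_weq hok hP hP hok hhw
  have e1 : El.pm h (g none) = pt 0 := by
    rw [← pt_idx (g none), pm_pt hok hlt, hv]
  have e2 : El.pm h (g (some 0)) = pt (papp P 0) := by
    rw [← hPg]
    show (El.pm h * El.pm P) (g none) = _
    rw [hcomm]
    show El.pm P (El.pm h (g none)) = _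
    rw [e1, pm_pt hP (by norm_num)]
  have e3 : El.pm g0 none = pt 0 := by
    rw [← pt_23, pm_pt hg0 (by norm_num), h23]
  have e4 : El.pm g0 (some 0) = pt (papp P 0) := by
    rw [← pt_0, pm_pt hg0 (by norm_num), h0]
  refine ⟨g⁻¹ * (El.pm h)⁻¹ * El.pm g0, ⟨⟨M24.mul_mem (M24.mul_mem (M24.inv_mem hg)
    (M24.inv_mem (InvM22.pm_mem hok))) (InvM22.pm_mem hg0), ?_⟩, ?_⟩, ?_⟩
  · show g⁻¹ ((El.pm h)⁻¹ (El.pm g0 none)) = none
    rw [e3, ← e1, show (El.pm h)⁻¹ (El.pm h (g none)) = g none from (El.pm h).symm_apply_apply _]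
    exact g.symm_apply_apply _
  · show g⁻¹ ((El.pm h)⁻¹ (El.pm g0 (some 0))) = some 0
    rw [e4, ← e2, show (El.pm h)⁻¹ (El.pm h (g (some 0))) = g (some 0) from
      (El.pm h).symm_apply_apply _]
    exact g.symm_apply_apply _
  · have h8 : g⁻¹ * (El.pm h)⁻¹ * El.pm g0 * El.pm rep * (g⁻¹ * (El.pm h)⁻¹ * El.pm g0)⁻¹ =
        g⁻¹ * (El.pm h)⁻¹ * (El.pm g0 * El.pm rep) * (El.pm g0)⁻¹ * El.pm h * g := by group
    rw [h8, ← hw']
    have h9 : g⁻¹ * (El.pm h)⁻¹ * (El.pm P * El.pm g0) * (El.pm g0)⁻¹ * El.pm h * g =
        g⁻¹ * (El.pm h)⁻¹ * (El.pm P * El.pm h) * g := by group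
    rw [h9, ← hcomm]
    have h10 : g⁻¹ * (El.pm h)⁻¹ * (El.pm h * El.pm P) * g = g⁻¹ * El.pm P * g := by group
    rw [h10, ← e]
    group

theorem ok_b : ok bP = true := by decide +kernel

theorem ok_c : ok cP = true := by decide +kernel

/-- **(M2)** -/
theorem inv_out {u : Equiv.Perm GolayPt} (hu : u ∈ D22) (hu' : u ∉ Spor.M22) (h2 : u * u = 1) :
    ∃ m ∈ Spor.M22, u = m * El.pm bP * m⁻¹ ∨ u = m * El.pm cP * m⁻¹ := by
  have h3 := (mem_D22_iff u).1 hu
  have h4 : u none = some 0 := by
    rcases h3.2 with h | h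
    · exact absurd ((Cfsg.Agent.SporadicA.MathieuRecog.mem_M22_iff u).2 ⟨h3.1, h⟩) hu'
    · exact h.1
  have h1 : u ≠ 1 := fun h => by
    rw [h, Equiv.Perm.one_apply] at h4
    cases h4
  obtain ⟨g, hg | hg⟩ := J4.M24Invol.invol_conj ⟨u, h3.1⟩ (Subtype.ext h2)
    (fun e => h1 (congrArg Subtype.val e))
  · have hg' : (g : Equiv.Perm GolayPt) * u * (g : Equiv.Perm GolayPt)⁻¹ =
        ((el J4.M24InvolData.P1 : M24) : Equiv.Perm GolayPt) := congrArg Subtype.val hg
    rw [El.coe_el J4.M24Invol.ok_P1] at hg'
    obtain ⟨m, hm, e⟩ := conj_step chk1 g.2 hg' h4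
    exact ⟨m, hm, Or.inl e⟩
  · have hg' : (g : Equiv.Perm GolayPt) * u * (g : Equiv.Perm GolayPt)⁻¹ =
        ((el J4.M24InvolData.P2 : M24) : Equiv.Perm GolayPt) := congrArg Subtype.val hg
    rw [El.coe_el J4.M24Invol.ok_P2] at hg'
    obtain ⟨m, hm, e⟩ := conj_step chk2 g.2 hg' h4
    exact ⟨m, hm, Or.inr e⟩

end Cfsg.Agent.KFacts.MM.InvOut
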