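import Cfsg.Agent.KFacts.MM.Cent

/-!
# Transitivity of `N(V)` on `V#`, of `N(W)` on `W#` (helper259)

Ambient forms of the fields `trV`, `trW`, `sq`, `del` of `Cfsg.Agent.OddHalf.MM.Sheet`.
-/

set_option autoImplicit false

namespace Cfsg.Agent.KFacts.MM.Tr

open Cfsg Cfsg.Agent.KFacts.MM.El Cfsg.Agent.KFacts.MM.Data Cfsg.Agent.KFacts.MM.Sub
open Cfsg.Agent.KFacts.MM.Int Cfsg.Agent.KFacts.MM.El16 Cfsg.Agent.KFacts.MM.Cent
open Cfsg.Agent.SporadicA.GolayBase Cfsg.Agent.SporadicA.GolayPerm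
open Cfsg.Agent.OddHalf.MM (Nrm Cen El)

theorem nrm_of_cj {L : List ℕ} {h : chk L = true} {Q : ℕ} (hQ : isPerm Q = true) (hc : cj [Q] L = true) :
    Nrm (pm Q) (ofList L h) := by
  apply nrm_of
  intro x hx
  have := conj_mem (okl1 hQ) hc hx
  rwa [pr_one] at this

/-- the elements of the list `k` conjugate `z` to all nontrivial elements of `L` -/
def trk (L k : List ℕ) : Bool :=
  L.all fun P => weq [P] [] || k.any fun Q => weq [Q, zP] [P, Q] && (ok22 Q && cj [Q] L)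

theorem tr_of {L k : List ℕ} {h : chk L = true} (hk : trk L k = true) :
    ∀ v ∈ ofList L h, v ≠ 1 → ∃ k ∈ Spor.M22, Nrm k (ofList L h) ∧ k * z * k⁻¹ = v := by
  rintro _ ⟨P, hP, rfl⟩ hv
  have hp := okl_of h hP
  have h1 := List.all_eq_true.1 hk P hP
  rw [Bool.or_eq_true] at h1
  rcases h1 with h1 | h1
  · exfalso
    apply hv
    have h2 := pr_of_weq (okl1 hp) rfl h1
    rwa [pr_one, pr_nil] at h2
  · obtain ⟨Q, -, h2⟩ := List.any_eq_true.1 h1
    rw [Bool.and_eq_true, Bool.and_eq_true] at h2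
    obtain ⟨h5, h3, h4⟩ := h2
    obtain ⟨hq, hM⟩ := mem_of_ok22 h3
    refine ⟨pm Q, hM, nrm_of_cj hq h4, ?_⟩
    have h6 := pr_of_weq (okl2 hq permz) (okl2 hp hq) h5
    rw [pr_two, pr_two] at h6
    show pm Q * pm zP * (pm Q)⁻¹ = pm P
    rw [h6, mul_inv_cancel_right]

theorem trV : ∀ v ∈ V, v ≠ 1 → ∃ k ∈ Spor.M22, Nrm k V ∧ k * z * k⁻¹ = v :=
  tr_of (k := kV) (by decide +kernel)

theorem trW : ∀ w ∈ W, w ≠ 1 → ∃ k ∈ Spor.M22, Nrm k W ∧ k * z * k⁻¹ = w :=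
  tr_of (k := kW) (by decide +kernel)

/-- every element of `V` outside `⟨z⟩` is moved out of its coset of `⟨z⟩` by `k1P` or `k2P` -/
def sqk (P : ℕ) : Bool :=
  weq [P] [] || (weq [P] [zP] || ([k1P, k2P].any fun Q => !weq [Q, P] [P, Q] && !weq [Q, P] [P, zP, Q]))

theorem sq : ∀ r ∈ V, (∀ k ∈ Spor.M22, Nrm k V → k * z = z * k → k * r * k⁻¹ = r ∨ k * r * k⁻¹ = r * z) →
    r = 1 ∨ r = z := by
  rintro _ ⟨P, hP, rfl⟩ hr
  have hp := pV hP
  have h0 : ([k1P, k2P].all fun Q => ok22 Q && (cj [Q] VL && weq [Q, zP] [zP, Q])) = true := by decide +kernel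
  have h1 : (VL.all sqk) = true := by decide +kernel
  have h2 := List.all_eq_true.1 h1 P hP
  unfold sqk at h2
  rw [Bool.or_eq_true, Bool.or_eq_true] at h2
  rcases h2 with h2 | h2 | h2
  · left
    have h3 := pr_of_weq (okl1 hp) rfl h2
    rwa [pr_one, pr_nil] at h3
  · right
    have h3 := pr_of_weq (okl1 hp) (okl1 permz) h2
    rwa [pr_one, pr_one] at h3
  · exfalso
    obtain ⟨Q, hQ, h3⟩ := List.any_eq_true.1 h2
    have h4 := List.all_eq_true.1 h0 Q hQ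
    rw [Bool.and_eq_true, Bool.and_eq_true] at h4
    obtain ⟨h5, h6, h7⟩ := h4
    obtain ⟨hq, hM⟩ := mem_of_ok22 h5
    have h8 := pr_of_weq (okl2 hq permz) (okl2 permz hq) h7
    rw [pr_two, pr_two] at h8
    rw [Bool.and_eq_true, Bool.not_eq_true', Bool.not_eq_true'] at h3
    rcases hr (pm Q) hM (nrm_of_cj hq h6) h8 with e | e
    · apply pr_ne (okl2 hq hp) (okl2 hp hq) h3.1
      rw [pr_two, pr_two]
      calc pm Q * pm P = pm Q * pm P * (pm Q)⁻¹ * pm Q := by group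
        _ = pm P * pm Q := by rw [e]
    · apply pr_ne (okl2 hq hp) (okl3 hp permz hq) h3.2
      rw [pr_two, pr_three]
      calc pm Q * pm P = pm Q * pm P * (pm Q)⁻¹ * pm Q := by group
        _ = pm P * pm zP * pm Q := by rw [e]; rfl

theorem del : ∃ d ∈ Spor.M22, Nrm d V ∧ Nrm d W ∧ d * z * d⁻¹ ≠ z := by
  have h0 : (ok22 dP && (cj [dP] VL && (cj [dP] WL && !weq [dP, zP] [zP, dP]))) = true := by decide +kernel
  rw [Bool.and_eq_true, Bool.and_eq_true, Bool.and_eq_true, Bool.not_eq_true'] at h0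
  obtain ⟨h1, h2, h3, h4⟩ := h0
  obtain ⟨hq, hM⟩ := mem_of_ok22 h1
  refine ⟨pm dP, hM, nrm_of_cj hq h2, nrm_of_cj hq h3, ?_⟩
  intro e
  apply pr_ne (okl2 hq permz) (okl2 permz hq) h4
  rw [pr_two, pr_two]
  have e' : pm dP * pm zP * (pm dP)⁻¹ = pm zP := e
  nth_rewrite 2 [← e']
  group

end Cfsg.Agent.KFacts.MM.Tr
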