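import Cfsg.Agent.KFacts.MM.NormS
import Cfsg.Agent.KFacts.MM.InvM22
import Cfsg.Agent.KFacts.MM.Tr

/-!
# The sheets of `M22` and `M23`
-/

set_option autoImplicit false

namespace Cfsg.Agent.KFacts.MM.Main

open Cfsg Cfsg.Agent.KFacts.MM.El Cfsg.Agent.KFacts.MM.Data Cfsg.Agent.KFacts.MM.Sub
open Cfsg.Agent.KFacts.MM.Int Cfsg.Agent.KFacts.MM.El16 Cfsg.Agent.KFacts.MM.Cent
open Cfsg.Agent.OddHalf.MM (Nrm Cen El Sheet)

section gen

variable {A : Type*} [Group A] {K : Subgroup A}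

theorem nrm_iff {U : Subgroup A} (hU : U ≤ K) (k : K) : Nrm k (U.subgroupOf K) ↔ Nrm (k : A) U := by
  constructor
  · intro h x
    constructor
    · intro hx
      have hxK : x ∈ K := by
        have h1 := K.mul_mem (K.mul_mem (K.inv_mem k.2) (hU hx)) k.2
        have e : (k : A)⁻¹ * (k * x * (k : A)⁻¹) * k = x := by group
        rwa [e] at h1
      exact (h ⟨x, hxK⟩).1 hx
    · intro hx
      exact (h ⟨x, hU hx⟩).2 hx
  · intro h x
    exact h x

theorem cen_iff {U : Subgroup A} (hU : U ≤ K) (k : K) : Cen k (U.subgroupOf K) ↔ Cen (k : A) U := by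
  constructor
  · intro h x hx
    exact congrArg Subtype.val (h ⟨x, hU hx⟩ hx)
  · intro h x hx
    exact Subtype.ext (h x hx)

theorem card_sub {U : Subgroup A} (hU : U ≤ K) : Nat.card (U.subgroupOf K) = Nat.card U :=
  Nat.card_congr (Subgroup.subgroupOfEquivOfLe hU).toEquiv

end gen

theorem sheet_of {K : Subgroup (Equiv.Perm GolayPt)} (h22 : Spor.M22 ≤ K) (h23 : K ≤ Spor.M23)
    {m : ℕ} (hm : Odd m) (hcard : Nat.card K = 2 ^ 7 * m)
    (inv : ∀ u ∈ K, u * u = 1 → u ≠ 1 → ∃ g ∈ K, u = g * z * g⁻¹) :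
    Sheet (S.subgroupOf K) (V.subgroupOf K) (W.subgroupOf K) (⟨z, h22 (V_le22 zV)⟩ : K)
      ⟨c, h22 c_mem22⟩ where
  two := isPGroup.comap_of_injective K.subtype K.subtype_injective
  max := by
    intro P hP hle
    symm
    apply Subgroup.eq_of_le_of_card_ge hle
    obtain ⟨n, hn⟩ := IsPGroup.iff_card.1 hP
    have h1 : 2 ^ n ∣ 2 ^ 7 * m := by
      rw [← hn, ← hcard]
      exact Subgroup.card_subgroup_dvd_card P
    have h2 : 2 ^ n ∣ 2 ^ 7 := by
      apply Nat.Coprime.dvd_of_dvd_mul_right _ h1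
      exact Nat.Coprime.pow_left n (Nat.coprime_two_left.2 hm)
    rw [hn, card_sub (S_le22.trans h22)]
    exact (Nat.le_of_dvd (by norm_num) h2).trans card_S_ge
  VS := fun x hx => V_le hx
  WS := fun x hx => W_le hx
  cardV := by rw [card_sub (V_le22.trans h22), cardV]
  cardW := by rw [card_sub (W_le22.trans h22), cardW]
  cardVW := by
    have h1 : V.subgroupOf K ⊓ W.subgroupOf K = (V ⊓ W).subgroupOf K := rfl
    rw [h1, card_sub (inf_le_left.trans (V_le22.trans h22)), cardVW]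
  elV := fun x hx => Subtype.ext (elV x hx)
  elW := fun x hx => Subtype.ext (elW x hx)
  nV := fun s hs => (nrm_iff (V_le22.trans h22) s).2 (nrm_of (S_V s hs))
  nW := fun s hs => (nrm_iff (W_le22.trans h22) s).2 (nrm_of (S_W s hs))
  zV := zV
  zW := zW
  z1 := fun h => z1 (congrArg Subtype.val h)
  cS := c_mem
  cc := Subtype.ext cc
  cN := fun v hv w hw h => cN v hv w hw (congrArg Subtype.val h)
  gen := by
    intro s hs
    obtain ⟨v, hv, w, hw, h⟩ := mem_S.1 hs
    refine ⟨⟨v, h22 (V_le22 hv)⟩, hv, ⟨w, h22 (W_le22 hw)⟩, hw, ?_⟩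
    rcases h with h | h
    · exact Or.inl (Subtype.ext h)
    · exact Or.inr (Subtype.ext h)
  cVW := fun v hv hvW w hw h => cVW v hv hvW w hw (congrArg Subtype.val h)
  cWV := fun w hw hwV v hv h => cWV w hw hwV v hv (congrArg Subtype.val h)
  cen := by
    intro y hy h
    rcases cen y hy (fun s hs => congrArg Subtype.val (h ⟨s, h22 (S_le22 hs)⟩ hs)) with h1 | h1
    · exact Or.inl (Subtype.ext h1)
    · exact Or.inr (Subtype.ext h1)
  inv := by
    intro k hk h1
    obtain ⟨g, hg, h2⟩ := inv k k.2 (congrArg Subtype.val hk) (fun h => h1 (Subtype.ext h))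
    exact ⟨⟨g, hg⟩, Subtype.ext h2⟩
  trV := by
    intro v hv h1
    obtain ⟨k, hk, hN, h2⟩ := Tr.trV v hv (fun h => h1 (Subtype.ext h))
    exact ⟨⟨k, h22 hk⟩, (nrm_iff (V_le22.trans h22) _).2 hN, Subtype.ext h2⟩
  trW := by
    intro v hv h1
    obtain ⟨k, hk, hN, h2⟩ := Tr.trW v hv (fun h => h1 (Subtype.ext h))
    exact ⟨⟨k, h22 hk⟩, (nrm_iff (W_le22.trans h22) _).2 hN, Subtype.ext h2⟩
  CV := fun k h => CV (M23_le24 (h23 k.2)) ((cen_iff (V_le22.trans h22) k).1 h)
  CW := fun k h => CW (h23 k.2) ((cen_iff (W_le22.trans h22) k).1 h)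
  el16 := by
    intro E hE hel h16
    have h1 : Subgroup.comap K.subtype (E.map K.subtype) = E :=
      Subgroup.comap_map_eq_self_of_injective K.subtype_injective E
    have h2 : E.map K.subtype ≤ S := by
      rintro _ ⟨x, hx, rfl⟩
      exact hE hx
    have h3 : El (E.map K.subtype) := by
      rintro _ ⟨x, hx, rfl⟩
      exact congrArg Subtype.val (hel x hx)
    have h4 : 16 ≤ Nat.card (E.map K.subtype) := by
      rwa [Subgroup.card_map_of_injective K.subtype_injective]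
    rcases el16 _ h2 h3 h4 with h | h
    · left
      rw [← h1, h]
      rfl
    · right
      rw [← h1, h]
      rfl
  sq := by
    intro r hr h
    rcases Tr.sq r hr (by
      intro k hk hN hz
      have h1 := h ⟨k, h22 hk⟩ ((nrm_iff (V_le22.trans h22) _).2 hN) (Subtype.ext hz)
      rcases h1 with h1 | h1
      · exact Or.inl (congrArg Subtype.val h1)
      · exact Or.inr (congrArg Subtype.val h1)) with h1 | h1
    · exact Or.inl (Subtype.ext h1)
    · exact Or.inr (Subtype.ext h1)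
  nS := by
    intro k hN hC
    obtain ⟨v, hv, w, hw, h⟩ := mem_R.1 (NormS.nS (h23 k.2) ((nrm_iff (S_le22.trans h22) k).1 hN)
      (fun x hV hW => congrArg Subtype.val (hC ⟨x, h22 (V_le22 hV)⟩ hV hW)))
    exact ⟨⟨v, h22 (V_le22 hv)⟩, hv, ⟨w, h22 (W_le22 hw)⟩, hw, Subtype.ext h⟩
  del := by
    obtain ⟨d, hd, h1, h2, h3⟩ := Tr.del
    exact ⟨⟨d, h22 hd⟩, (nrm_iff (V_le22.trans h22) _).2 h1, (nrm_iff (W_le22.trans h22) _).2 h2,
      fun h => h3 (congrArg Subtype.val h)⟩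
  zD := by
    obtain ⟨v, hv, w, hw, h⟩ := z_comm
    have hvz : (⟨v, h22 (V_le22 hv)⟩ : K) ∈ Subgroup.centralizer
        ({(⟨z, h22 (V_le22 zV)⟩ : K)} : Set K) := by
      rw [Subgroup.mem_centralizer_singleton_iff]
      exact Subtype.ext (z_central v (V_le hv))
    have hwz : (⟨w, h22 (W_le22 hw)⟩ : K) ∈ Subgroup.centralizer
        ({(⟨z, h22 (V_le22 zV)⟩ : K)} : Set K) := by
      rw [Subgroup.mem_centralizer_singleton_iff]
      exact Subtype.ext (z_central w (W_le hw))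
    have h1 := Subgroup.commutator_mem_commutator hvz hwz
    convert h1 using 1
    exact Subtype.ext h.symm
  c0 := by
    obtain ⟨x, hV, hW, h⟩ := c0
    exact ⟨⟨x, h22 (V_le22 hV)⟩, hV, hW, fun h' => h (congrArg Subtype.val h')⟩
  cV := by
    obtain ⟨x, hV, h⟩ := cV'
    exact ⟨⟨x, h22 (V_le22 hV)⟩, hV, fun h' => h h'⟩
  cW := by
    obtain ⟨x, hW, h⟩ := cW'
    exact ⟨⟨x, h22 (W_le22 hW)⟩, hW, fun h' => h h'⟩

/-- **the sheet of `M22`** -/
theorem sheet22 : ∃ (SK V W : Subgroup Spor.M22) (z c : Spor.M22), Sheet SK V W z c :=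
  ⟨_, _, _, _, _, sheet_of (K := Spor.M22) le_rfl SporadicA.MathieuRecog.M22_le (m := 3465) (by decide)
    (by rw [SporadicA.MathieuRecog.card_M22]; norm_num) InvM22.inv22⟩

/-- **the sheet of `M23`** -/
theorem sheet23 : ∃ (SK V W : Subgroup Spor.M23) (z c : Spor.M23), Sheet SK V W z c :=
  ⟨_, _, _, _, _, sheet_of (K := Spor.M23) SporadicA.MathieuRecog.M22_le le_rfl (m := 79695) (by decide)
    (by rw [SporadicA.MathieuRecog.card_M23]; norm_num) InvM22.inv23⟩

end Cfsg.Agent.KFacts.MM.Main
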