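import Cfsg.Agent.KFacts.MM.Cent

/-!
# The normaliser of `S`: `N(S) ∩ C(V ∩ W) ≤ VW`
-/

set_option autoImplicit false

namespace Cfsg.Agent.KFacts.MM.NormS

open Cfsg Cfsg.Agent.KFacts.MM.El Cfsg.Agent.KFacts.MM.Data Cfsg.Agent.KFacts.MM.Sub
open Cfsg.Agent.KFacts.MM.Int Cfsg.Agent.KFacts.MM.El16 Cfsg.Agent.KFacts.MM.Cent
open Cfsg.Agent.SporadicA.GolayBase Cfsg.Agent.SporadicA.GolayPerm Cfsg.Agent.SporadicA.M24Frames
open Cfsg.Agent.OddHalf.MM (Nrm Cen El)

/-- the fixed points of `z` -/
def oct : List ℕ := [0, 1, 2, 3, 5, 14, 17, 23]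

theorem mem_SL (l : List ℕ) (hl : l ∈ SL) : okl l = true ∧ pr l ∈ S := by
  unfold SL at hl
  rw [List.mem_append, List.mem_flatMap, List.mem_flatMap] at hl
  rcases hl with ⟨P, hP, hl⟩ | ⟨P, hP, hl⟩ <;> obtain ⟨Q, hQ, rfl⟩ := List.mem_map.1 hl
  · refine ⟨okl2 (pV hP) (pW (W4_sub hQ)), pm P, ⟨P, hP, rfl⟩, pm Q, ⟨Q, W4_sub hQ, rfl⟩, Or.inl ?_⟩
    rw [pr_two]
  · refine ⟨okl3 (pV hP) (pW (W4_sub hQ)) permc, pm P, ⟨P, hP, rfl⟩, pm Q, ⟨Q, W4_sub hQ, rfl⟩, Or.inr ?_⟩
    rw [pr_three]
    rfl

/-- `N(S) ∩ C(V ∩ W) ≤ VW` -/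
theorem nS {k : Equiv.Perm GolayPt} (hk : k ∈ Spor.M23) (hN : Nrm k S)
    (hC : ∀ x ∈ V, x ∈ W → k * x = x * k) : k ∈ R := by
  have v23 := val23 hk
  -- the image of a point fixed by `S` is fixed by `S`
  have hfixS : ∀ i, i < 24 → (∀ s ∈ S, val s i = i) → ∀ s ∈ S, val s (val k i) = val k i := by
    intro i hi h s hs
    have h1 := h _ (nrm_inv hN hs)
    have h2 : val k (val (k⁻¹ * s * k) i) = val s (val k i) := by
      rw [← val_mul, ← val_mul]
      congr 1
      group
    rw [← h2, h1]
  -- `k` normalises `R`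
  have hNR : ∀ x ∈ R, k⁻¹ * x * k ∈ R := by
    intro x hx
    apply mem_R_of_cent (nrm_inv hN (R_le hx))
    intro y hyV hyW
    have h1 := hC y hyV hyW
    have h2 := R_cent hx hyV hyW
    calc k⁻¹ * x * k * y = k⁻¹ * x * (k * y) := by group
      _ = k⁻¹ * (x * y) * k := by rw [h1]; group
      _ = k⁻¹ * y * x * k := by rw [h2]; group
      _ = k⁻¹ * y * k * (k⁻¹ * x * k) := by group
      _ = y * (k⁻¹ * x * k) := by
        have h3 : k⁻¹ * y * k = y := by rw [mul_assoc, ← h1]; group
        rw [h3]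
  have hfixR : ∀ i, i < 24 → (∀ s ∈ R, val s i = i) → ∀ s ∈ R, val s (val k i) = val k i := by
    intro i hi h s hs
    have h1 := h _ (hNR s hs)
    have h2 : val k (val (k⁻¹ * s * k) i) = val s (val k i) := by
      rw [← val_mul, ← val_mul]
      congr 1
      group
    rw [← h2, h1]
  -- points fixed by `S`, `R`
  have hS23 : ∀ s ∈ S, val s 0 = 0 := fun s hs => val0 (S_le22 hs)
  have hR1 : ∀ i ∈ [1, 2], ∀ s ∈ R, val s i = i := by
    intro i hi s hs
    obtain ⟨_, ⟨P, hP, rfl⟩, _, ⟨Q, hQ, rfl⟩, rfl⟩ := mem_R.1 hs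
    have h1 : ([1, 2].all fun i => VL.all fun P => Nat.beq (papp P i) i) = true := by decide +kernel
    have h2 : ([1, 2].all fun i => WL.all fun P => Nat.beq (papp P i) i) = true := by decide +kernel
    have hi24 : i < 24 := by
      simp only [List.mem_cons, List.not_mem_nil, or_false] at hi; omega
    rw [val_mul, val_pm (pW hQ) hi24,
      Nat.eq_of_beq_eq_true (List.all_eq_true.1 (List.all_eq_true.1 h2 i hi) Q hQ), val_pm (pV hP) hi24,
      Nat.eq_of_beq_eq_true (List.all_eq_true.1 (List.all_eq_true.1 h1 i hi) P hP)]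
  have fixS : ∀ q, q < 24 → (∀ s ∈ S, val s q = q) → q = 0 ∨ q = 23 := by
    intro q hq h
    have h1 : (pts.all fun q => (Nat.beq q 0 || Nat.beq q 23) || (!Nat.beq (papp cP q) q ||
        (VL.any fun P => !Nat.beq (papp P q) q) || WL.any fun P => !Nat.beq (papp P q) q)) = true := by
      decide +kernel
    have h2 := List.all_eq_true.1 h1 q (mem_pts hq)
    rw [Bool.or_eq_true, Bool.or_eq_true] at h2
    rcases h2 with (h2 | h2) | h2
    · exact Or.inl (Nat.eq_of_beq_eq_true h2)
    · exact Or.inr (Nat.eq_of_beq_eq_true h2)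
    · exfalso
      rw [Bool.or_eq_true, Bool.or_eq_true, Bool.not_eq_true'] at h2
      rcases h2 with (h2 | h2) | h2
      · have h3 := h c c_mem
        unfold c at h3
        rw [val_pm permc hq] at h3
        rw [h3, Nat.beq_refl] at h2
        cases h2
      · obtain ⟨P, hP, h4⟩ := List.any_eq_true.1 h2
        have h3 := h _ (V_le ⟨P, hP, rfl⟩)
        rw [val_pm (pV hP) hq] at h3
        rw [h3, Nat.beq_refl] at h4
        cases h4
      · obtain ⟨P, hP, h4⟩ := List.any_eq_true.1 h2
        have h3 := h _ (W_le ⟨P, hP, rfl⟩)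
        rw [val_pm (pW hP) hq] at h3
        rw [h3, Nat.beq_refl] at h4
        cases h4
  have fixR : ∀ q, q < 24 → (∀ s ∈ R, val s q = q) → q = 0 ∨ q = 23 ∨ q = 1 ∨ q = 2 := by
    intro q hq h
    have h1 : (pts.all fun q => (Nat.beq q 0 || (Nat.beq q 23 || (Nat.beq q 1 || Nat.beq q 2))) ||
        ((VL.any fun P => !Nat.beq (papp P q) q) || WL.any fun P => !Nat.beq (papp P q) q)) = true := by
      decide +kernel
    have h2 := List.all_eq_true.1 h1 q (mem_pts hq)
    rw [Bool.or_eq_true, Bool.or_eq_true, Bool.or_eq_true, Bool.or_eq_true] at h2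
    rcases h2 with (h2 | h2 | h2 | h2) | h2
    · exact Or.inl (Nat.eq_of_beq_eq_true h2)
    · exact Or.inr (Or.inl (Nat.eq_of_beq_eq_true h2))
    · exact Or.inr (Or.inr (Or.inl (Nat.eq_of_beq_eq_true h2)))
    · exact Or.inr (Or.inr (Or.inr (Nat.eq_of_beq_eq_true h2)))
    · exfalso
      rw [Bool.or_eq_true] at h2
      rcases h2 with h2 | h2
      · obtain ⟨P, hP, h4⟩ := List.any_eq_true.1 h2
        have h3 := h _ (mem_R.2 ⟨pm P, ⟨P, hP, rfl⟩, 1, one_mem _, (mul_one _).symm⟩)
        rw [val_pm (pV hP) hq] at h3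
        rw [h3, Nat.beq_refl] at h4
        cases h4
      · obtain ⟨P, hP, h4⟩ := List.any_eq_true.1 h2
        have h3 := h _ (mem_R.2 ⟨1, one_mem _, pm P, ⟨P, hP, rfl⟩, (one_mul _).symm⟩)
        rw [val_pm (pW hP) hq] at h3
        rw [h3, Nat.beq_refl] at h4
        cases h4
  have v0 : val k 0 = 0 := by
    rcases fixS _ (val_lt _ _) (hfixS 0 (by norm_num) hS23) with h | h
    · exact h
    · exfalso
      rw [← v23] at h
      exact absurd (val_inj (by norm_num) (by norm_num) h) (by norm_num)
  have v12 : ∀ i ∈ [1, 2], val k i = 1 ∨ val k i = 2 := by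
    intro i hi
    have hi24 : i < 24 := by
      simp only [List.mem_cons, List.not_mem_nil, or_false] at hi; omega
    rcases fixR _ (val_lt _ _) (hfixR i hi24 (hR1 i hi)) with h | h | h | h
    · exfalso
      have h' := h.trans v0.symm
      rw [val_inj hi24 (by norm_num) h'] at hi
      exact absurd hi (by decide)
    · exfalso
      have h' := h.trans v23.symm
      rw [val_inj hi24 (by norm_num) h'] at hi
      exact absurd hi (by decide)
    · exact Or.inl h
    · exact Or.inr h
  -- `k` commutes with `z`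
  have hkz : ∀ g : Equiv.Perm GolayPt, g * z = z * g → ∀ i, i < 24 →
      (papp zP i = i ↔ papp zP (val g i) = val g i) := by
    intro g hg i hi
    rw [← val_comm permz hg hi]
    constructor
    · intro h1; rw [h1]
    · intro h1
      exact val_inj (papp_lt permz hi) hi h1
  have kz : (pts.all fun i => !Nat.beq (papp zP i) i || oct.any fun j => Nat.beq i j) = true := by
    decide +kernel
  have kz' : (oct.all fun i => Nat.beq (papp zP i) i) = true := by decide +kernel
  have octlt : ∀ i ∈ oct, i < 24 := by decide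
  have inoct : ∀ g : Equiv.Perm GolayPt, g * z = z * g → ∀ i ∈ oct, val g i ∈ oct := by
    intro g hg i hi
    have h1 := (hkz g hg i (octlt i hi)).1 (Nat.eq_of_beq_eq_true (List.all_eq_true.1 kz' i hi))
    have h2 := List.all_eq_true.1 kz _ (mem_pts (val_lt g i))
    rw [h1, Nat.beq_refl, Bool.not_true, Bool.false_or] at h2
    obtain ⟨j, hj, h3⟩ := List.any_eq_true.1 h2
    rw [Nat.eq_of_beq_eq_true h3]
    exact hj
  have outoct : ∀ g : Equiv.Perm GolayPt, g * z = z * g → ∀ i, i < 24 → i ∉ oct → val g i ∉ oct := by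
    intro g hg i hi hio h
    have h1 := (hkz g hg i hi).2 (Nat.eq_of_beq_eq_true (List.all_eq_true.1 kz' _ h))
    have h2 := List.all_eq_true.1 kz _ (mem_pts hi)
    rw [h1, Nat.beq_refl, Bool.not_true, Bool.false_or] at h2
    obtain ⟨j, hj, h3⟩ := List.any_eq_true.1 h2
    rw [Nat.eq_of_beq_eq_true h3] at hio
    exact hio hj
  have hkz' := hC z zV zW
  have v1 := v12 1 (by decide)
  have v2 := v12 2 (by decide)
  have v12ne : val k 1 ≠ val k 2 := fun h => absurd (val_inj (by norm_num) (by norm_num) h) (by norm_num)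
  have v3 : val k 3 ∈ [3, 5, 14, 17] := by
    have h := inoct k hkz' 3 (by decide)
    have n0 : val k 3 ≠ 0 := fun h =>
      absurd (val_inj (by norm_num) (by norm_num) (h.trans v0.symm)) (by norm_num)
    have n23 : val k 3 ≠ 23 := fun h =>
      absurd (val_inj (by norm_num) (by norm_num) (h.trans v23.symm)) (by norm_num)
    have n1 : val k 3 ≠ val k 1 := fun h => absurd (val_inj (by norm_num) (by norm_num) h) (by norm_num)
    have n2 : val k 3 ≠ val k 2 := fun h => absurd (val_inj (by norm_num) (by norm_num) h) (by norm_num)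
    unfold oct at h
    simp only [List.mem_cons, List.not_mem_nil, or_false] at h ⊢
    omega
  have v4 := outoct k hkz' 4 (by norm_num) (by decide)
  -- an element of `S` with the same images of `1, 2, 3, 4`
  obtain ⟨s, hs, s1, s2, s3, s4⟩ : ∃ s ∈ S, val s 1 = val k 1 ∧ val s 2 = val k 2 ∧ val s 3 = val k 3 ∧
      val s 4 = val k 4 := by
    have kk : ([1, 2].all fun a => [3, 5, 14, 17].all fun b => pts.all fun d => (oct.any fun j =>
        Nat.beq d j) || SL.any fun l => Nat.beq (ev l 1) a && (Nat.beq (ev l 2) (3 - a) &&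
          (Nat.beq (ev l 3) b && Nat.beq (ev l 4) d))) = true := by decide +kernel
    have ha : val k 1 ∈ [1, 2] := by
      simp only [List.mem_cons, List.not_mem_nil, or_false]; exact v1
    have h1 := List.all_eq_true.1 (List.all_eq_true.1 (List.all_eq_true.1 kk _ ha) _ v3) _
      (mem_pts (val_lt k 4))
    rw [Bool.or_eq_true] at h1
    rcases h1 with h1 | h1
    · exfalso
      obtain ⟨j, hj, h3⟩ := List.any_eq_true.1 h1
      rw [← Nat.eq_of_beq_eq_true h3] at hj
      exact v4 hj
    · obtain ⟨l, hl, h2⟩ := List.any_eq_true.1 h1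
      rw [Bool.and_eq_true, Bool.and_eq_true, Bool.and_eq_true] at h2
      obtain ⟨e1, e2, e3, e4⟩ := h2
      obtain ⟨okl, hS⟩ := mem_SL l hl
      refine ⟨pr l, hS, ?_, ?_, ?_, ?_⟩
      · rw [val_pr okl (by norm_num), Nat.eq_of_beq_eq_true e1]
      · rw [val_pr okl (by norm_num), Nat.eq_of_beq_eq_true e2]
        omega
      · rw [val_pr okl (by norm_num), Nat.eq_of_beq_eq_true e3]
      · rw [val_pr okl (by norm_num), Nat.eq_of_beq_eq_true e4]
  have hs22 := S_le22 hs
  have hs23 := M22_le23 hs22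
  have s0 : val s 0 = val k 0 := by rw [v0, val0 hs22]
  have s23 : val s 23 = val k 23 := by rw [v23, val23 hs23]
  -- `g = s⁻¹ k`
  have back : ∀ i, i < 24 → val s i = val k i → val (s⁻¹ * k) i = i := by
    intro i hi h
    rw [val_mul, ← h, ← val_mul, inv_mul_cancel, val_one hi]
  have g23 := back 23 (by norm_num) s23
  have g0 := back 0 (by norm_num) s0
  have g1 := back 1 (by norm_num) s1
  have g2 := back 2 (by norm_num) s2
  have g3 := back 3 (by norm_num) s3
  have g4 := back 4 (by norm_num) s4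
  set g := s⁻¹ * k with hg
  have hg23 : g ∈ Spor.M23 := mul_mem (inv_mem hs23) hk
  have hgz : g * z = z * g := by
    have h1 := z_central s hs
    have h2 : s⁻¹ * z = z * s⁻¹ := by
      rw [inv_mul_eq_iff_eq_mul, ← mul_assoc, h1, mul_inv_cancel_right]
    rw [hg, mul_assoc, hkz', ← mul_assoc, h2, mul_assoc]
  have hgN : Nrm g S := nrm_mul (nrm_S_of_mem (S.inv_mem hs)) hN
  have g5 : val g 5 ∈ [5, 14, 17] := by
    have h := inoct g hgz 5 (by decide)
    have n : ∀ i, i < 24 → i ≠ 5 → val g i = i → val g 5 ≠ i := fun i hi hne h1 h2 =>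
      hne (val_inj hi (by norm_num) (h1.trans h2.symm))
    have n0 := n 0 (by norm_num) (by norm_num) g0
    have n1 := n 1 (by norm_num) (by norm_num) g1
    have n2 := n 2 (by norm_num) (by norm_num) g2
    have n3 := n 3 (by norm_num) (by norm_num) g3
    have n23 := n 23 (by norm_num) (by norm_num) g23
    unfold oct at h
    simp only [List.mem_cons, List.not_mem_nil, or_false] at h ⊢
    omega
  -- `g` is one of three elements
  have three : ∀ P, isPerm P = true → isAut P = true → papp P 23 = 23 → papp P 0 = 0 → papp P 1 = 1 →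
      papp P 2 = 2 → papp P 3 = 3 → papp P 4 = 4 → papp P 5 = val g 5 → g = pm P := by
    intro P hP hA p23 p0 p1 p2 p3 p4 p5
    apply eq_of_val adm_base7 (M23_le24 hg23) (pm_mem_M24 hP hA)
    refine forall_base7 (p := fun i => val g i = val (pm P) i) ?_
    intro i hi
    show val g i = val (pm P) i
    have hi24 : i < 24 := by
      simp only [List.mem_cons, List.not_mem_nil, or_false] at hi; omega
    rw [val_pm hP hi24]
    simp only [List.mem_cons, List.not_mem_nil, or_false] at hi
    rcases hi with rfl | rfl | rfl | rfl | rfl | rfl | rfl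
    · rw [g23, p23]
    · rw [g0, p0]
    · rw [g1, p1]
    · rw [g2, p2]
    · rw [g3, p3]
    · rw [p5]
    · rw [g4, p4]
  -- the last two do not normalise `S`
  have bad : ∀ P, isPerm P = true → (VL.all fun A => WL.all fun B => !weq [P, cP] [A, B, P] &&
      !weq [P, cP] [A, B, cP, P]) = true → g ≠ pm P := by
    intro P hP h1 h2
    have h3 := (hgN c).2 c_mem
    rw [h2] at h3
    obtain ⟨_, ⟨A, hA, rfl⟩, _, ⟨B, hB, rfl⟩, h4⟩ := mem_S.1 h3
    have h5 := List.all_eq_true.1 (List.all_eq_true.1 h1 A hA) B hB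
    rw [Bool.and_eq_true, Bool.not_eq_true', Bool.not_eq_true'] at h5
    rcases h4 with h4 | h4
    · apply pr_ne (okl2 hP permc) (okl3 (pV hA) (pW hB) hP) h5.1
      rw [pr_two, pr_three, ← h4]
      show pm P * c = pm P * c * (pm P)⁻¹ * pm P
      group
    · apply pr_ne (okl2 hP permc) (okl4 (pV hA) (pW hB) permc hP) h5.2
      rw [pr_two, pr_four]
      show pm P * c = pm A * pm B * c * pm P
      rw [← h4]
      group
  have hks : k = s * g := by rw [hg]; group
  simp only [List.mem_cons, List.not_mem_nil, or_false] at g5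
  rcases g5 with h5 | h5 | h5
  · have h1 := three SporadicStructure.M24El.idP (by decide +kernel) (by decide +kernel) (by decide +kernel)
      (by decide +kernel) (by decide +kernel) (by decide +kernel) (by decide +kernel) (by decide +kernel)
      (by rw [h5]; decide +kernel)
    have h2 : pm SporadicStructure.M24El.idP = 1 := by
      have := pr_of_weq (l := [SporadicStructure.M24El.idP]) (m := []) (by decide +kernel) rfl
        (by decide +kernel)
      rwa [pr_one, pr_nil] at this
    rw [h2] at h1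
    rw [h1, mul_one] at hks
    rw [hks] at hC ⊢
    exact mem_R_of_cent hs hC
  · exfalso
    exact bad t1P (by decide +kernel) (by decide +kernel) (three t1P (by decide +kernel) (by decide +kernel)
      (by decide +kernel) (by decide +kernel) (by decide +kernel) (by decide +kernel) (by decide +kernel)
      (by decide +kernel) (by rw [h5]; decide +kernel))
  · exfalso
    exact bad t2P (by decide +kernel) (by decide +kernel) (three t2P (by decide +kernel) (by decide +kernel)
      (by decide +kernel) (by decide +kernel) (by decide +kernel) (by decide +kernel) (by decide +kernel)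
      (by decide +kernel) (by rw [h5]; decide +kernel))

end Cfsg.Agent.KFacts.MM.NormS
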