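import Cfsg.Agent.KFacts.MM.OutI

/-!
# The automorphism group of a group isomorphic to `M22` is `D22` (helper969)

`exists_iota` : for `K` isomorphic to `M22` there is an injective homomorphism `ι` of `MulAut K` into the
permutations of the 24 points, with range `D22`; the inner automorphisms are the preimage of `M22`.
-/

set_option autoImplicit false
set_option Elab.async false

namespace Cfsg.Agent.KFacts.MM.OutAut

open Cfsg
open Cfsg.Agent.J4Type.Aut22 (D22 mem_D22_iff M22_le_D22 mem_M22_iff_D22 exists_conj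
  eq_one_of_centralizes)

/-- the permutation inducing an automorphism of `M22` -/
noncomputable def ind (α : MulAut Spor.M22) : Equiv.Perm GolayPt := (exists_conj α).choose

theorem ind_mem (α : MulAut Spor.M22) : ind α ∈ D22 := (exists_conj α).choose_spec.1

theorem ind_apply (α : MulAut Spor.M22) (m : Spor.M22) :
    (α m : Equiv.Perm GolayPt) = ind α * m * (ind α)⁻¹ := (exists_conj α).choose_spec.2 m

/-- uniqueness -/
theorem ind_eq {α : MulAut Spor.M22} {g : Equiv.Perm GolayPt} (hg : g ∈ D22)
    (h : ∀ m : Spor.M22, (α m : Equiv.Perm GolayPt) = g * m * g⁻¹) : ind α = g := by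
  have h1 : g⁻¹ * ind α = 1 := by
    apply eq_one_of_centralizes (mul_mem (inv_mem hg) (ind_mem α))
    intro m
    have h2 := h m
    rw [ind_apply α m] at h2
    calc g⁻¹ * ind α * m * (g⁻¹ * ind α)⁻¹ = g⁻¹ * (ind α * m * (ind α)⁻¹) * g := by group
      _ = g⁻¹ * (g * m * g⁻¹) * g := by rw [h2]
      _ = m := by group
  exact (inv_mul_eq_one.1 h1).symm

/-- the embedding of the automorphism group of `M22` -/
noncomputable def emb : MulAut Spor.M22 →* Equiv.Perm GolayPt where
  toFun := ind
  map_one' := by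
    apply ind_eq (one_mem _)
    intro m
    rw [one_mul, inv_one, mul_one]
    rfl
  map_mul' α β := by
    apply ind_eq (mul_mem (ind_mem α) (ind_mem β))
    intro m
    rw [MulAut.mul_apply, ind_apply α, ind_apply β]
    group

theorem emb_inj : Function.Injective emb := by
  intro α β h
  have h1 : ind α = ind β := h
  apply MulEquiv.ext
  intro m
  apply Subtype.ext
  rw [ind_apply α, ind_apply β, h1]

theorem conj_mem22 {g m : Equiv.Perm GolayPt} (hg : g ∈ D22) (hm : m ∈ Spor.M22) :
    g * m * g⁻¹ ∈ Spor.M22 := by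
  rw [mem_M22_iff_D22]
  refine ⟨mul_mem (mul_mem hg (M22_le_D22 hm)) (inv_mem hg), ?_⟩
  have hm' := (mem_D22_iff m).1 (M22_le_D22 hm)
  have hmn := ((mem_M22_iff_D22 m).1 hm).2
  have hm0 : m (some 0) = some 0 := by
    rcases hm'.2 with h | h
    · exact h.2
    · rw [hmn] at h
      simp at h
  rcases ((mem_D22_iff g).1 hg).2 with h | h
  · have h1 : g⁻¹ none = none := by
      rw [Equiv.Perm.inv_eq_iff_eq]
      exact h.1.symm
    rw [Equiv.Perm.mul_apply, Equiv.Perm.mul_apply, h1, hmn, h.1]
  · have h1 : g⁻¹ none = some 0 := by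
      rw [Equiv.Perm.inv_eq_iff_eq]
      exact h.2.symm
    rw [Equiv.Perm.mul_apply, Equiv.Perm.mul_apply, h1, hm0, h.2]

/-- the automorphism induced by an element of `D22` -/
noncomputable def autOf (g : Equiv.Perm GolayPt) (hg : g ∈ D22) : MulAut Spor.M22 where
  toFun m := ⟨g * m * g⁻¹, conj_mem22 hg m.2⟩
  invFun m := ⟨g⁻¹ * m * g, by
    have := conj_mem22 (inv_mem hg) m.2
    rwa [inv_inv] at this⟩
  left_inv m := by
    apply Subtype.ext
    show g⁻¹ * (g * m * g⁻¹) * g = m
    group
  right_inv m := by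
    apply Subtype.ext
    show g * (g⁻¹ * m * g) * g⁻¹ = m
    group
  map_mul' m n := by
    apply Subtype.ext
    show g * (m * n) * g⁻¹ = (g * m * g⁻¹) * (g * n * g⁻¹)
    group

theorem emb_range : emb.range = D22 := by
  apply le_antisymm
  · rintro _ ⟨α, rfl⟩
    exact ind_mem α
  · intro g hg
    exact ⟨autOf g hg, ind_eq hg fun m => rfl⟩

theorem emb_conj (m : Spor.M22) : emb (MulAut.conj m) = m :=
  ind_eq (M22_le_D22 m.2) fun n => by
    rw [MulAut.conj_apply]
    rfl

theorem of_emb_mem {α : MulAut Spor.M22} (h : emb α ∈ Spor.M22) : α = MulAut.conj ⟨emb α, h⟩ :=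
  emb_inj (emb_conj ⟨emb α, h⟩).symm

theorem exists_iota {K : Type*} [Group K] (hK : Spor.IsoM22 K) :
    ∃ ι : MulAut K →* Equiv.Perm GolayPt, Function.Injective ι ∧ ι.range = D22 ∧
      (Spor.M22).comap ι = (MulAut.conj : K →* MulAut K).range := by
  obtain ⟨e⟩ := hK
  refine ⟨emb.comp (MulAut.congr e).toMonoidHom, ?_, ?_, ?_⟩
  · intro α β h
    exact (MulAut.congr e).injective (emb_inj h)
  · rw [← emb_range]
    ext x
    constructor
    · rintro ⟨α, rfl⟩
      exact ⟨MulAut.congr e α, rfl⟩
    · rintro ⟨β, rfl⟩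
      refine ⟨(MulAut.congr e).symm β, ?_⟩
      show emb (MulAut.congr e ((MulAut.congr e).symm β)) = emb β
      rw [MulEquiv.apply_symm_apply]
  · have hc : ∀ k : K, MulAut.congr e (MulAut.conj k) = MulAut.conj (e k) := by
      intro k
      apply MulEquiv.ext
      intro m
      show e (k * e.symm m * k⁻¹) = e k * m * (e k)⁻¹
      rw [map_mul, map_mul, map_inv, e.apply_symm_apply]
    ext α
    constructor
    · intro h
      have h1 : emb (MulAut.congr e α) ∈ Spor.M22 := h
      refine ⟨e.symm ⟨_, h1⟩, ?_⟩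
      apply (MulAut.congr e).injective
      rw [hc, e.apply_symm_apply]
      exact (of_emb_mem h1).symm
    · rintro ⟨k, rfl⟩
      show emb (MulAut.congr e (MulAut.conj k)) ∈ Spor.M22
      rw [hc, emb_conj]
      exact (e k).2

end Cfsg.Agent.KFacts.MM.OutAut
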