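import Cfsg.Agent.KFacts.MM.OutS

/-!
# The centraliser of `z` in `M22:2`: `[C(z), C(z)]` centralises `b`
-/

set_option autoImplicit false

namespace Cfsg.Agent.KFacts.MM.OutC

open Cfsg Cfsg.Agent.KFacts.MM.El Cfsg.Agent.KFacts.MM.Data Cfsg.Agent.KFacts.MM.DataO
open Cfsg.Agent.KFacts.MM.Sub Cfsg.Agent.KFacts.MM.Int Cfsg.Agent.KFacts.MM.El16
open Cfsg.Agent.KFacts.MM.Cent Cfsg.Agent.KFacts.MM.OutP Cfsg.Agent.KFacts.MM.NormS
open Cfsg.Agent.KFacts.MM.OutS
open Cfsg.Agent.SporadicA.GolayBase Cfsg.Agent.SporadicA.GolayPerm Cfsg.Agent.SporadicA.M24Frames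
open Cfsg.Agent.J4Type.Aut22 (D22 mem_D22_iff M22_le_D22 mem_M22_iff_D22 card_D22)
open Cfsg.Agent.OddHalf.MM (Nrm Cen El)

/-- membership in the octad -/
def memO (i : ℕ) : Bool := oct.any fun j => Nat.beq i j

theorem memO_iff {i : ℕ} : memO i = true ↔ i ∈ oct := by
  unfold memO
  rw [List.any_eq_true]
  constructor
  · rintro ⟨j, hj, h⟩
    rw [Nat.eq_of_beq_eq_true h]
    exact hj
  · intro h
    exact ⟨i, h, Nat.beq_refl i⟩

/-- `x` preserves the octad -/
def Pres (x : Equiv.Perm GolayPt) : Prop := ∀ i < 24, memO (val x i) = memO i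

/-- the table `T` maps `p` to all the points of `al`, fixes `fx` and preserves the octad -/
def stp (T fx al : List ℕ) (p : ℕ) : Bool :=
  al.all fun q => T.any fun t => ok22 t && (Nat.beq (papp t p) q && ((fx.all fun i => Nat.beq (papp t i) i) &&
    pts.all fun i => (memO (papp t i) == memO i)))

theorem step {T fx al : List ℕ} {p : ℕ} (hT : stp T fx al p = true) (hp : p < 24) (hfx : ∀ i ∈ fx, i < 24)
    {x : Equiv.Perm GolayPt} (hx : x ∈ Spor.M22) (hO : Pres x) (hf : ∀ i ∈ fx, val x i = i)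
    (hq : val x p ∈ al) :
    ∃ t ∈ T, ∃ y ∈ Spor.M22, x = pm t * y ∧ Pres y ∧ ∀ i ∈ p :: fx, val y i = i := by
  obtain ⟨t, ht, h⟩ := List.any_eq_true.1 (List.all_eq_true.1 hT _ hq)
  rw [Bool.and_eq_true, Bool.and_eq_true, Bool.and_eq_true] at h
  obtain ⟨h1, h2, h3, h4⟩ := h
  obtain ⟨hperm, h22⟩ := mem_of_ok22 h1
  have hval : ∀ i, i < 24 → papp t (val ((pm t)⁻¹ * x) i) = val x i := by
    intro i hi
    rw [← val_pm hperm (val_lt _ _), ← val_mul, mul_inv_cancel_left]
  refine ⟨t, ht, (pm t)⁻¹ * x, mul_mem (inv_mem h22) hx, by group, ?_, ?_⟩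
  · intro i hi
    have h5 := List.all_eq_true.1 h4 _ (mem_pts (val_lt ((pm t)⁻¹ * x) i))
    rw [hval i hi, hO i hi] at h5
    exact (beq_iff_eq.1 h5).symm
  · intro i hi
    rcases List.mem_cons.1 hi with rfl | hi
    · apply papp_injOn hperm (val_lt _ _) hp
      rw [hval i hp, Nat.eq_of_beq_eq_true h2]
    · have hi24 := hfx i hi
      apply papp_injOn hperm (val_lt _ _) hi24
      rw [hval i hi24, hf i hi, Nat.eq_of_beq_eq_true (List.all_eq_true.1 h3 i hi)]

/-- the elements of `M22` preserving the octad are products of elements of the chain -/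
theorem exists_chain {x : Equiv.Perm GolayPt} (hx : x ∈ Spor.M22) (hO : Pres x) :
    ∃ a ∈ T1, ∃ d ∈ T2, ∃ e ∈ T3, ∃ f ∈ T5, ∃ v ∈ VL, x = pm a * pm d * pm e * pm f * pm v := by
  have hne : ∀ (y : Equiv.Perm GolayPt) (p : ℕ) (fx : List ℕ), p < 24 → (∀ i ∈ fx, i < 24) → Pres y →
      (∀ i ∈ fx, val y i = i) → p ∉ fx → p ∈ oct → val y p ∈ oct ∧ val y p ∉ fx := by
    intro y p fx hp hfx hO hf hpf hpo
    refine ⟨?_, ?_⟩
    · rw [← memO_iff, hO p hp, memO_iff]; exact hpo
    · intro h
      apply hpf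
      have h1 := hf _ h
      have h2 := val_inj (val_lt _ _) hp h1
      rwa [h2] at h
  have e0 := val0 hx
  have e23 := val23 (M22_le23 hx)
  -- first step
  obtain ⟨h1, h2⟩ := hne x 1 [0, 23] (by norm_num) (by decide) hO (by
    intro i hi
    simp only [List.mem_cons, List.not_mem_nil, or_false] at hi
    rcases hi with rfl | rfl
    · exact e0
    · exact e23) (by decide) (by decide)
  obtain ⟨a, ha, x1, hx1, rfl, hO1, hf1⟩ := step (T := T1) (fx := [0, 23]) (al := [1, 2, 3, 5, 14, 17])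
    (p := 1) (by decide +kernel) (by norm_num) (by decide) hx hO (by
      intro i hi
      simp only [List.mem_cons, List.not_mem_nil, or_false] at hi
      rcases hi with rfl | rfl
      · exact e0
      · exact e23) (by
      unfold oct at h1
      simp only [List.mem_cons, List.not_mem_nil, or_false, not_or] at h1 h2 ⊢
      omega)
  obtain ⟨h1, h2⟩ := hne x1 2 [1, 0, 23] (by norm_num) (by decide) hO1 hf1 (by decide) (by decide)
  obtain ⟨d, hd, x2, hx2, rfl, hO2, hf2⟩ := step (T := T2) (fx := [1, 0, 23]) (al := [2, 3, 5, 14, 17])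
    (p := 2) (by decide +kernel) (by norm_num) (by decide) hx1 hO1 hf1 (by
      unfold oct at h1
      simp only [List.mem_cons, List.not_mem_nil, or_false, not_or] at h1 h2 ⊢
      omega)
  obtain ⟨h1, h2⟩ := hne x2 3 [2, 1, 0, 23] (by norm_num) (by decide) hO2 hf2 (by decide) (by decide)
  obtain ⟨e, he, x3, hx3, rfl, hO3, hf3⟩ := step (T := T3) (fx := [2, 1, 0, 23]) (al := [3, 5, 14, 17])
    (p := 3) (by decide +kernel) (by norm_num) (by decide) hx2 hO2 hf2 (by
      unfold oct at h1
      simp only [List.mem_cons, List.not_mem_nil, or_false, not_or] at h1 h2 ⊢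
      omega)
  obtain ⟨h1, h2⟩ := hne x3 5 [3, 2, 1, 0, 23] (by norm_num) (by decide) hO3 hf3 (by decide) (by decide)
  obtain ⟨f, hf, x4, hx4, rfl, hO4, hf4⟩ := step (T := T5) (fx := [3, 2, 1, 0, 23]) (al := [5, 14, 17])
    (p := 5) (by decide +kernel) (by norm_num) (by decide) hx3 hO3 hf3 (by
      unfold oct at h1
      simp only [List.mem_cons, List.not_mem_nil, or_false, not_or] at h1 h2 ⊢
      omega)
  -- the last step
  have kk : (pts.all fun q => memO q || VL.any fun P => Nat.beq (papp P 4) q) = true := by decide +kernel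
  have h3 := List.all_eq_true.1 kk _ (mem_pts (val_lt x4 4))
  have h4 : memO (val x4 4) = false := by rw [hO4 4 (by norm_num)]; decide +kernel
  rw [h4, Bool.false_or] at h3
  obtain ⟨v, hv, h5⟩ := List.any_eq_true.1 h3
  have h5 := Nat.eq_of_beq_eq_true h5
  have k6 : (VL.all fun P => [23, 0, 1, 2, 3, 5].all fun i => Nat.beq (papp P i) i) = true := by
    decide +kernel
  have h6 : x4 = pm v := by
    apply eq_of_val adm_base7 (M22_le24 hx4) (M22_le24 (V_le22 ⟨v, hv, rfl⟩))
    refine forall_base7 (p := fun i => val x4 i = val (pm v) i) ?_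
    intro i hi
    show val x4 i = val (pm v) i
    by_cases hi' : i ∈ [23, 0, 1, 2, 3, 5]
    · have hi24 : i < 24 := by
        simp only [List.mem_cons, List.not_mem_nil, or_false] at hi'; omega
      rw [val_pm (pV hv) hi24, Nat.eq_of_beq_eq_true (List.all_eq_true.1 (List.all_eq_true.1 k6 v hv) i hi')]
      apply hf4
      simp only [List.mem_cons, List.not_mem_nil, or_false] at hi' ⊢
      tauto
    · have hi4 : i = 4 := by
        simp only [List.mem_cons, List.not_mem_nil, or_false] at hi hi'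
        omega
      rw [hi4, val_pm (pV hv) (by norm_num), h5]
  refine ⟨a, ha, d, hd, e, he, f, hf, v, hv, ?_⟩
  rw [h6]
  simp only [mul_assoc]

theorem pres_of_comm {x : Equiv.Perm GolayPt} (h : x * z = z * x) : Pres x := by
  have kz : (pts.all fun i => (Nat.beq (papp zP i) i == memO i)) = true := by decide +kernel
  intro i hi
  have h1 : (papp zP i = i ↔ papp zP (val x i) = val x i) := by
    rw [← val_comm permz h hi]
    constructor
    · intro h1; rw [h1]
    · intro h1
      exact val_inj (papp_lt permz hi) hi h1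
  have h2 := beq_iff_eq.1 (List.all_eq_true.1 kz i (mem_pts hi))
  have h3 := beq_iff_eq.1 (List.all_eq_true.1 kz _ (mem_pts (val_lt x i)))
  rw [← h2, ← h3]
  cases h4 : Nat.beq (papp zP i) i
  · cases h5 : Nat.beq (papp zP (val x i)) (val x i)
    · rfl
    · have h6 := h1.2 (Nat.eq_of_beq_eq_true h5)
      rw [h6, Nat.beq_refl] at h4
      cases h4
  · have h6 := h1.1 (Nat.eq_of_beq_eq_true h4)
    rw [h6, Nat.beq_refl]

/-- `x` commutes with `z` and maps `b` to `b` or `bz` -/
def HB (x : Equiv.Perm GolayPt) : Prop := x * z = z * x ∧ (x * b = b * x ∨ x * b = b * z * x)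

theorem HB.mul {x y : Equiv.Perm GolayPt} (hx : HB x) (hy : HB y) : HB (x * y) := by
  obtain ⟨h1, h2⟩ := hx
  obtain ⟨h3, h4⟩ := hy
  have zz : z * z = 1 := elV z zV
  refine ⟨by rw [mul_assoc, h3, ← mul_assoc, h1, mul_assoc], ?_⟩
  rcases h2 with h2 | h2 <;> rcases h4 with h4 | h4
  · left; rw [mul_assoc, h4, ← mul_assoc, h2, mul_assoc]
  · right
    calc x * y * b = x * (y * b) := mul_assoc _ _ _
      _ = (x * b) * z * y := by rw [h4]; group
      _ = b * (x * z) * y := by rw [h2]; group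
      _ = b * z * (x * y) := by rw [h1]; group
  · right
    calc x * y * b = x * (y * b) := mul_assoc _ _ _
      _ = (x * b) * y := by rw [h4]; group
      _ = b * z * (x * y) := by rw [h2]; group
  · left
    calc x * y * b = x * (y * b) := mul_assoc _ _ _
      _ = (x * b) * z * y := by rw [h4]; group
      _ = b * z * (x * z) * y := by rw [h2]; group
      _ = b * (z * z) * (x * y) := by rw [h1]; group
      _ = b * (x * y) := by rw [zz, mul_one]

theorem tab : (T1.all fun a => T2.all fun d => T3.all fun e => T5.all fun f =>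
    !weq [a, d, e, f, zP] [zP, a, d, e, f] || (weq [a, d, e, f, bP] [bP, a, d, e, f] ||
      weq [a, d, e, f, bP] [bP, zP, a, d, e, f])) = true := by decide +kernel

theorem permT {L : List ℕ} (h : L.all isPerm = true) {P : ℕ} (hP : P ∈ L) : isPerm P = true :=
  List.all_eq_true.1 h P hP

/-- every element of `C(z)` in `M22:2` maps `b` to `b` or `bz` -/
theorem hb {x : Equiv.Perm GolayPt} (hx : x ∈ D22) (hz : x * z = z * x) : HB x := by
  have hb0 : HB b := ⟨b_comm_z, Or.inl rfl⟩
  have key : ∀ y ∈ Spor.M22, y * z = z * y → HB y := by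
    intro y hy hyz
    obtain ⟨a, ha, d, hd, e, he, f, hf, v, hv, rfl⟩ := exists_chain hy (pres_of_comm hyz)
    have hvz : pm v * z = z * pm v := comm_of_El elV ⟨v, hv, rfl⟩ zV
    have pa := permT (L := T1) (by decide +kernel) ha
    have pd := permT (L := T2) (by decide +kernel) hd
    have pe := permT (L := T3) (by decide +kernel) he
    have pf := permT (L := T5) (by decide +kernel) hf
    have hr : pm a * pm d * pm e * pm f * z = z * (pm a * pm d * pm e * pm f) := by
      apply mul_right_cancel (b := pm v)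
      calc pm a * pm d * pm e * pm f * z * pm v = pm a * pm d * pm e * pm f * (z * pm v) := by group
        _ = pm a * pm d * pm e * pm f * pm v * z := by rw [← hvz]; group
        _ = _ := by rw [hyz]; group
    have hrb : HB (pm a * pm d * pm e * pm f) := by
      refine ⟨hr, ?_⟩
      have h1 := List.all_eq_true.1 (List.all_eq_true.1 (List.all_eq_true.1 (List.all_eq_true.1 tab a ha) d hd)
        e he) f hf
      have okr : okl [a, d, e, f] = true := by
        unfold okl
        rw [List.all_cons, List.all_cons, List.all_cons, List.all_cons, pa, pd, pe, pf]; rfl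
      have hpr : pr [a, d, e, f] = pm a * pm d * pm e * pm f := pr_four _ _ _ _
      have p1 : ∀ Q, pr [a, d, e, f, Q] = pm a * pm d * pm e * pm f * pm Q := by
        intro Q
        have := pr_append [a, d, e, f] [Q]
        rw [hpr, pr_one] at this
        exact this
      have p2 : ∀ Q, pr [Q, a, d, e, f] = pm Q * (pm a * pm d * pm e * pm f) := by
        intro Q
        rw [pr_cons, hpr]
      have p3 : ∀ Q R, pr [Q, R, a, d, e, f] = pm Q * pm R * (pm a * pm d * pm e * pm f) := by
        intro Q R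
        rw [pr_cons, pr_cons, hpr, ← mul_assoc]
      have o1 : ∀ Q, isPerm Q = true → okl [a, d, e, f, Q] = true := by
        intro Q hQ
        exact okl_append okr (okl1 hQ)
      have o2 : ∀ Q, isPerm Q = true → okl [Q, a, d, e, f] = true := by
        intro Q hQ
        exact okl_append (okl1 hQ) okr
      rw [Bool.or_eq_true, Bool.or_eq_true, Bool.not_eq_true'] at h1
      rcases h1 with h1 | h1 | h1
      · exfalso
        apply pr_ne (o1 _ permz) (o2 _ permz) h1
        rw [p1, p2]
        exact hr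
      · left
        have := pr_of_weq (o1 _ permb) (o2 _ permb) h1
        rwa [p1, p2] at this
      · right
        have := pr_of_weq (o1 _ permb) (okl_append (okl2 permb permz) okr) h1
        rw [p1] at this
        rw [show ([bP, zP] ++ [a, d, e, f]) = [bP, zP, a, d, e, f] from rfl, p3] at this
        exact this
    refine hrb.mul ⟨hvz, ?_⟩
    have kv : (VL.all fun P => weq [P, bP] [bP, P] || weq [P, bP] [bP, zP, P]) = true := by decide +kernel
    have h1 := List.all_eq_true.1 kv v hv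
    rw [Bool.or_eq_true] at h1
    rcases h1 with h1 | h1
    · left
      have := pr_of_weq (okl2 (pV hv) permb) (okl2 permb (pV hv)) h1
      rwa [pr_two, pr_two] at this
    · right
      have := pr_of_weq (okl2 (pV hv) permb) (okl3 permb permz (pV hv)) h1
      rwa [pr_two, pr_three] at this
  by_cases h22 : x ∈ Spor.M22
  · exact key x h22 hz
  · have h1 : HB (x * b) := key _ (out_b hx h22) (by
      rw [mul_assoc, b_comm_z, ← mul_assoc, hz, mul_assoc])
    have h2 := h1.mul hb0
    rwa [mul_assoc, bb, mul_one] at h2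

theorem mulw {G : Type*} [Group G] {b w w' x y : G} (hx : x * b = b * w * x) (hy : y * b = b * w' * y)
    (hxw : x * w' = w' * x) (_ : w' * b = b * w') (_ : w * w' = w' * w) :
    x * y * b = b * (w * w') * (x * y) := by
  calc x * y * b = x * (y * b) := mul_assoc _ _ _
    _ = (x * b) * w' * y := by rw [hy]; group
    _ = b * w * (x * w') * y := by rw [hx]; group
    _ = b * (w * w') * (x * y) := by rw [hxw]; group

theorem commw {G : Type*} [Group G] {b w X Y : G} (hX : X * b = b * w * X) (hY : Y * b = b * w * Y)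
    (hXw : X * w = w * X) (hYw : Y * w = w * Y) : b * (X * Y⁻¹) = X * Y⁻¹ * b := by
  have h1 : Y⁻¹ * w = w * Y⁻¹ := by
    rw [inv_mul_eq_iff_eq_mul, ← mul_assoc, hYw, mul_inv_cancel_right]
  have h2 : Y⁻¹ * (b * w) = b * Y⁻¹ := by
    rw [inv_mul_eq_iff_eq_mul, ← mul_assoc, hY, mul_inv_cancel_right]
  apply mul_right_cancel (b := w)
  calc b * (X * Y⁻¹) * w = b * X * (Y⁻¹ * w) := by group
    _ = b * (X * w) * Y⁻¹ := by rw [h1]; group
    _ = (b * w * X) * Y⁻¹ := by rw [hXw]; group
    _ = X * (b * Y⁻¹) := by rw [← hX]; group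
    _ = X * Y⁻¹ * b * w := by rw [← h2]; group

/-- `b` centralises the commutators of `C(z)` -/
theorem comm_b {x y : Equiv.Perm GolayPt} (hx : x ∈ D22) (hy : y ∈ D22) (hxz : x * z = z * x)
    (hyz : y * z = z * y) : b * (x * y * x⁻¹ * y⁻¹) = x * y * x⁻¹ * y⁻¹ * b := by
  have h1 : ∃ w, (w = 1 ∨ w = z) ∧ x * b = b * w * x := by
    rcases (hb hx hxz).2 with h | h
    · exact ⟨1, Or.inl rfl, by rw [mul_one]; exact h⟩
    · exact ⟨z, Or.inr rfl, h⟩
  have h2 : ∃ w, (w = 1 ∨ w = z) ∧ y * b = b * w * y := by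
    rcases (hb hy hyz).2 with h | h
    · exact ⟨1, Or.inl rfl, by rw [mul_one]; exact h⟩
    · exact ⟨z, Or.inr rfl, h⟩
  obtain ⟨w, hw, h1⟩ := h1
  obtain ⟨w', hw', h2⟩ := h2
  have hxw : ∀ u, (u = 1 ∨ u = z) → x * u = u * x := by
    rintro u (rfl | rfl)
    · group
    · exact hxz
  have hyw : ∀ u, (u = 1 ∨ u = z) → y * u = u * y := by
    rintro u (rfl | rfl)
    · group
    · exact hyz
  have hbw : ∀ u, (u = 1 ∨ u = z) → u * b = b * u := by
    rintro u (rfl | rfl)
    · group
    · exact b_comm_z.symm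
  have hww : w * w' = w' * w := by
    rcases hw with rfl | rfl <;> rcases hw' with rfl | rfl <;> group
  have hX := mulw h1 h2 (hxw _ hw') (hbw _ hw') hww
  have hY := mulw h2 h1 (hyw _ hw) (hbw _ hw) hww.symm
  rw [← hww] at hY
  have e : x * y * x⁻¹ * y⁻¹ = (x * y) * (y * x)⁻¹ := by group
  rw [e]
  apply commw hX hY
  · rw [mul_assoc, ← mul_assoc y, hyw _ hw, mul_assoc w, hyw _ hw', ← mul_assoc, hxw _ hw]
    simp only [mul_assoc]
    rw [← mul_assoc x w', hxw _ hw']
    simp only [mul_assoc]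
  · rw [mul_assoc, ← mul_assoc x, hxw _ hw, mul_assoc w, hxw _ hw', ← mul_assoc, hyw _ hw]
    simp only [mul_assoc]
    rw [← mul_assoc y w', hyw _ hw']
    simp only [mul_assoc]

/-- an element of `V` commuting with the commutators of `C(z)` lies in `⟨z⟩` -/
theorem cD {v : Equiv.Perm GolayPt} (hv : v ∈ V) (h : ∀ x ∈ D22, ∀ y ∈ D22, x * z = z * x →
    y * z = z * y → v * (x * y * x⁻¹ * y⁻¹) = x * y * x⁻¹ * y⁻¹ * v) : v = 1 ∨ v = z := by
  obtain ⟨P, hP, rfl⟩ := hv
  have p0 : isPerm x0P = true ∧ isPerm y0P = true ∧ isPerm g0P = true := by decide +kernel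
  have p1 : isPerm x1P = true ∧ isPerm y1P = true ∧ isPerm g1P = true := by decide +kernel
  have k : (VL.all fun P => weq [P] [] || (weq [P] [zP] || (!weq [P, g0P] [g0P, P] ||
      !weq [P, g1P] [g1P, P]))) = true := by decide +kernel
  have h1 := List.all_eq_true.1 k P hP
  rw [Bool.or_eq_true, Bool.or_eq_true, Bool.or_eq_true, Bool.not_eq_true', Bool.not_eq_true'] at h1
  have key : ∀ X Y G, isPerm X = true → isPerm Y = true → isPerm G = true → isAut X = true →
      isAut Y = true → (papp X 23 = 23 ∧ papp X 0 = 0 ∨ papp X 23 = 0 ∧ papp X 0 = 23) →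
      (papp Y 23 = 23 ∧ papp Y 0 = 0 ∨ papp Y 23 = 0 ∧ papp Y 0 = 23) →
      weq [X, zP] [zP, X] = true → weq [Y, zP] [zP, Y] = true → weq [G, Y, X] [X, Y] = true →
      weq [P, G] [G, P] = false → False := by
    intro X Y G hX hY hG aX aY dX dY zX zY e hne
    have mem : ∀ X, isPerm X = true → isAut X = true →
        (papp X 23 = 23 ∧ papp X 0 = 0 ∨ papp X 23 = 0 ∧ papp X 0 = 23) → pm X ∈ D22 := by
      intro X hX aX dX
      rw [mem_D22_iff]
      refine ⟨pm_mem_M24 hX aX, ?_⟩
      have q23 := pt_val (pm X) 23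
      have q0 := pt_val (pm X) 0
      rw [val_pm hX (by norm_num)] at q23 q0
      rcases dX with ⟨d1, d2⟩ | ⟨d1, d2⟩
      · rw [d1] at q23; rw [d2] at q0
        exact Or.inl ⟨q23.symm, q0.symm⟩
      · rw [d1] at q23; rw [d2] at q0
        exact Or.inr ⟨q23.symm, q0.symm⟩
    have zX' := pr_of_weq (okl2 hX permz) (okl2 permz hX) zX
    have zY' := pr_of_weq (okl2 hY permz) (okl2 permz hY) zY
    have e' := pr_of_weq (okl3 hG hY hX) (okl2 hX hY) e
    rw [pr_two, pr_two] at zX' zY'
    rw [pr_three, pr_two] at e'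
    have hGe : pm G = pm X * pm Y * (pm X)⁻¹ * (pm Y)⁻¹ := by
      rw [← e']; group
    apply pr_ne (okl2 (pV hP) hG) (okl2 hG (pV hP)) hne
    rw [pr_two, pr_two, hGe]
    exact h _ (mem X hX aX dX) _ (mem Y hY aY dY) zX' zY'
  rcases h1 with h1 | h1 | h1 | h1
  · left
    have := pr_of_weq (okl1 (pV hP)) rfl h1
    rwa [pr_one, pr_nil] at this
  · right
    have := pr_of_weq (okl1 (pV hP)) (okl1 permz) h1
    rwa [pr_one, pr_one] at this
  · exact (key x0P y0P g0P p0.1 p0.2.1 p0.2.2 (by decide +kernel) (by decide +kernel) (by decide +kernel)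
      (by decide +kernel) (by decide +kernel) (by decide +kernel) (by decide +kernel) h1).elim
  · exact (key x1P y1P g1P p1.1 p1.2.1 p1.2.2 (by decide +kernel) (by decide +kernel) (by decide +kernel)
      (by decide +kernel) (by decide +kernel) (by decide +kernel) (by decide +kernel) h1).elim

/-- an element of `W` commuting with `N(W) ∩ C(z)` lies in `⟨z⟩` -/
theorem stab {r : Equiv.Perm GolayPt} (hr : r ∈ W) (h : ∀ k ∈ Spor.M22, (∀ x ∈ W, k * x * k⁻¹ ∈ W) →
    k * z = z * k → k * r = r * k) : r = 1 ∨ r = z := by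
  by_cases hV : r ∈ V
  · have hc := h c c_mem22 cW (z_central c c_mem)
    apply Int.cen r (V_le hV)
    rintro _ ⟨v, hv, w, hw, rfl | rfl⟩
    · rw [mul_assoc, comm_of_El elW hw hr, ← mul_assoc, comm_of_El elV hv hV, mul_assoc]
    · rw [mul_assoc, hc, ← mul_assoc, mul_assoc v, comm_of_El elW hw hr, ← mul_assoc,
        comm_of_El elV hv hV, mul_assoc r, mul_assoc r]
  · exfalso
    -- some `v ∈ V` outside `W` does not commute with `r`
    obtain ⟨v, hv, w, hw, hvw⟩ := z_comm
    have hvW : v ∉ W := by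
      intro hvW
      have : v * w = w * v := comm_of_El elW hvW hw
      apply z1
      rw [← hvw, this]
      group
    have h1 := h v (V_le22 hv) (VW v hv) (z_central v (V_le hv))
    exact hV (cVW v hv hvW r hr h1)

/-- `N(SA) ∩ C(V ∩ W) ≤ V P` -/
theorem nSA {k : Equiv.Perm GolayPt} (hk : k ∈ D22) (hN : Nrm k SA)
    (hC : ∀ x ∈ V, x ∈ W → k * x = x * k) : ∃ v ∈ V, ∃ w ∈ P, k = v * w := by
  have key : ∀ g ∈ Spor.M22, Nrm g SA → (∀ x ∈ V, x ∈ W → g * x = x * g) → ∃ v ∈ V, ∃ w ∈ W, g = v * w := by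
    intro g hg hgN hgC
    apply mem_R.1
    apply nS (M22_le23 hg) _ hgC
    apply nrm_of
    intro x hx
    apply SA_M22 ((hgN x).2 (OutS.S_le hx))
    exact mul_mem (mul_mem hg (S_le22 hx)) (inv_mem hg)
  by_cases h22 : k ∈ Spor.M22
  · obtain ⟨v, hv, w, hw, h⟩ := key k h22 hN hC
    exact ⟨v, hv, w, W_le_P hw, h⟩
  · have hbN : Nrm b SA := nrm_of fun x hx => mul_mem (mul_mem b_SA hx) (inv_mem b_SA)
    obtain ⟨v, hv, w, hw, h⟩ := key (k * b) (out_b hk h22) (nrm_mul hN hbN) (by
      intro x hV hW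
      rw [mul_assoc, b_comm_W x hW, ← mul_assoc, hC x hV hW, mul_assoc])
    refine ⟨v, hv, w * b, mul_mem (W_le_P hw) b_mem, ?_⟩
    have e : k = k * b * b := by rw [mul_assoc, bb, mul_one]
    rw [e, h, mul_assoc]

end Cfsg.Agent.KFacts.MM.OutC
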