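import Cfsg.Agent.KFacts.MM.OutSheet
import Cfsg.Agent.KFacts.MM.OutC

/-!
# The sheet of `M22:2` (helper969)

`sfacts` : the ambient facts on the Sylow 2-subgroup `SA` of `D22 = M22:2`;
`sheet` : for every group `K` isomorphic to `M22` the structure `MMOut.Sheet` holds for `A = MulAut K`
and the inner automorphisms.
-/

set_option autoImplicit false

namespace Cfsg.Agent.KFacts.MM.OutEnd

open Cfsg Cfsg.Agent.KFacts.MM.El Cfsg.Agent.KFacts.MM.Data
open Cfsg.Agent.KFacts.MM.Sub Cfsg.Agent.KFacts.MM.Int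
open Cfsg.Agent.KFacts.MM.El16 Cfsg.Agent.KFacts.MM.Cent Cfsg.Agent.KFacts.MM.OutP
open Cfsg.Agent.KFacts.MM.OutS Cfsg.Agent.KFacts.MM.OutSheet
open Cfsg.Agent.J4Type.Aut22 (D22 mem_D22_iff M22_le_D22 mem_M22_iff_D22 card_D22)
open Cfsg.Agent.OddHalf.MM (Nrm Cen El)

theorem z_central_SA : ∀ s ∈ SA, s * z = z * s := by
  rintro s (hs | hs)
  · exact z_central s hs
  · have h1 := z_central _ hs
    have e : s = s * b * b⁻¹ := by group
    rw [e, mul_assoc (s * b), b_inv, b_comm_z, ← mul_assoc (s * b), h1, mul_assoc]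

theorem stab : ∀ r ∈ W, (∀ k ∈ D22, Nrm k W → k * z = z * k → k * r = r * k) → r = 1 ∨ r = z :=
  fun r hr h => cen_SA r (S_le (W_le hr)) fun s hs =>
    h s (SA_le hs) (nrm_of (SA_W s hs)) (z_central_SA s hs)

theorem sfacts : SFacts SA where
  le := SA_le
  two := isPGroup_SA
  card := card_SA
  VS := fun _ hx => S_le (V_le hx)
  PS := P_le_SA
  nV := fun s hs => nrm_of (SA_V s hs)
  nW := fun s hs => nrm_of (SA_W s hs)
  cen := cen_SA
  self16 := fun E hE hel h16 hN hC => self16 E hE hel h16 (fun s hs x hx => (hN s hs x).2 hx) hC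
  bD := fun _ hc hcz _ hd hdz => OutC.comm_b hc hd hcz hdz
  cD := fun _ hv h => OutC.cD hv fun x hx y hy hxz hyz => h x hx hxz y hy hyz
  el32 := el32
  stab := stab
  nS := fun _ hk hN hC => OutC.nSA hk hN hC

/-- **the sheet of `M22:2`** -/
theorem sheet {K : Type*} [Group K] (hK : Spor.IsoM22 K) :
    ∃ (SA V W P : Subgroup (MulAut K)) (z : MulAut K),
      OddHalf.MMOut.Sheet (MulAut.conj : K →* MulAut K).range SA V W P z :=
  sheet_mulAut sfacts hK

end Cfsg.Agent.KFacts.MM.OutEnd
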