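import Cfsg.Agent.KFacts.MM.OutM
import Mathlib.GroupTheory.Perm.Fin

/-!
# `M22:2`: the action of `N(W)` on the five tetrads and other fields over `ι : A →* Perm GolayPt`, injective
with range `D22` (helper969)
-/

set_option autoImplicit false
set_option Elab.async false

namespace Cfsg.Agent.KFacts.MM.OutI

open Cfsg Cfsg.Agent.KFacts.MM.El Cfsg.Agent.KFacts.MM.Data Cfsg.Agent.KFacts.MM.DataO
open Cfsg.Agent.KFacts.MM.DataT Cfsg.Agent.KFacts.MM.Sub Cfsg.Agent.KFacts.MM.Int
open Cfsg.Agent.KFacts.MM.El16 Cfsg.Agent.KFacts.MM.Cent Cfsg.Agent.KFacts.MM.OutP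
open Cfsg.Agent.KFacts.MM.OutT Cfsg.Agent.KFacts.MM.OutN Cfsg.Agent.KFacts.MM.OutM
open Cfsg.Agent.SporadicA.GolayBase Cfsg.Agent.SporadicA.GolayPerm
open Cfsg.Agent.J4Type.Aut22 (D22 mem_D22_iff M22_le_D22 mem_M22_iff_D22)
open Cfsg.Agent.OddHalf.MM (Nrm Cen El)
open Subgroup

variable {A : Type*} [Group A] {ι : A →* Equiv.Perm GolayPt}

theorem mem_D (hr : ι.range = D22) (a : A) : ι a ∈ D22 := by
  rw [← hr]
  exact ⟨a, rfl⟩

theorem lift (hr : ι.range = D22) {x : Equiv.Perm GolayPt} (hx : x ∈ D22) : ∃ a : A, ι a = x := by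
  rw [← hr] at hx
  exact hx

theorem lift22 (hr : ι.range = D22) {x : Equiv.Perm GolayPt} (hx : x ∈ Spor.M22) : ∃ a : A, ι a = x :=
  lift hr (M22_le_D22 hx)

theorem W_leD : W ≤ D22 := W_le22.trans M22_le_D22

theorem V_leD : V ≤ D22 := V_le22.trans M22_le_D22

/-- normalising in `A` and in the image -/
theorem nrm_comap (hr : ι.range = D22) {U : Subgroup (Equiv.Perm GolayPt)} (hU : U ≤ D22) (a : A) :
    Nrm a (U.comap ι) ↔ Nrm (ι a) U := by
  constructor
  · intro h x
    have key : ∀ y : A, ι a * ι y * (ι a)⁻¹ ∈ U ↔ ι y ∈ U := by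
      intro y
      have h1 := h y
      rw [mem_comap, mem_comap, map_mul, map_mul, map_inv] at h1
      exact h1
    constructor
    · intro hx
      have h1 : x ∈ D22 := by
        have h2 := mul_mem (mul_mem (inv_mem (mem_D hr a)) (hU hx)) (mem_D hr a)
        have e : (ι a)⁻¹ * (ι a * x * (ι a)⁻¹) * ι a = x := by group
        rwa [e] at h2
      obtain ⟨y, rfl⟩ := lift hr h1
      exact (key y).1 hx
    · intro hx
      obtain ⟨y, rfl⟩ := lift hr (hU hx)
      exact (key y).2 hx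
  · intro h y
    rw [mem_comap, mem_comap, map_mul, map_mul, map_inv]
    exact h (ι y)

theorem cen_comap (hin : Function.Injective ι) (hr : ι.range = D22)
    {U : Subgroup (Equiv.Perm GolayPt)} (hU : U ≤ D22) (a : A) :
    Cen a (U.comap ι) ↔ Cen (ι a) U := by
  constructor
  · intro h x hx
    obtain ⟨y, rfl⟩ := lift hr (hU hx)
    have h1 := h y hx
    rw [← map_mul, ← map_mul, h1]
  · intro h y hy
    apply hin
    rw [map_mul, map_mul]
    exact h (ι y) hy

theorem card_comap (hin : Function.Injective ι) (hr : ι.range = D22)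
    {U : Subgroup (Equiv.Perm GolayPt)} (hU : U ≤ D22) : Nat.card (U.comap ι) = Nat.card U := by
  have h1 : (U.comap ι).map ι = U := by
    rw [map_comap_eq, hr]
    exact inf_eq_right.2 hU
  rw [Nat.card_congr ((U.comap ι).equivMapOfInjective ι hin).toEquiv, h1]

/-! ### The index -/

theorem idx (hr : ι.range = D22) : ((Spor.M22).comap ι).index = 2 := by
  rw [index_eq_two_iff_exists_notMem_and]
  obtain ⟨b', hb⟩ := lift hr b_D22
  refine ⟨b', ?_, fun a => ?_⟩
  · rw [mem_comap, hb]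
    exact b_not_M22
  · by_cases h : ι a ∈ Spor.M22
    · exact Or.inr h
    · left
      rw [mem_comap, map_mul, hb]
      exact out_b (mem_D hr a) h

/-! ### The action on the tetrads -/

section act

variable (hr : ι.range = D22)

include hr

theorem nrmW (a : normalizer ((W.comap ι : Subgroup A) : Set A)) : Nrm (ι (a : A)) W := by
  apply (nrm_comap hr W_leD _).1
  intro x
  exact (mem_normalizer_iff.1 a.2 x).symm

/-- the action of `N(W)` on the five tetrads -/
@[reducible]
noncomputable def act : MulAction (normalizer ((W.comap ι : Subgroup A) : Set A)) (Fin 5) where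
  smul a j := ⟨T (val (ι (a : A)) (rp j)), T_lt (nrmW hr a) j.2⟩
  one_smul j := by
    apply Fin.ext
    show T (val (ι ((1 : normalizer ((W.comap ι : Subgroup A) : Set A)) : A)) (rp j)) = j
    rw [OneMemClass.coe_one, map_one, val_one (rp_lt j.2), T_rp j.2]
  mul_smul a c j := by
    apply Fin.ext
    show T (val (ι ((a * c : normalizer ((W.comap ι : Subgroup A) : Set A)) : A)) (rp j)) =
      T (val (ι (a : A)) (rp (T (val (ι (c : A)) (rp j)))))
    have h1 := T_lt (nrmW hr c) j.2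
    rw [MulMemClass.coe_mul, map_mul, val_mul]
    exact T_congr (nrmW hr a) (val_lt _ _) (rp_lt h1) (by omega) (T_rp h1).symm

/-- the homomorphism onto `S5` -/
noncomputable def ρ : normalizer ((W.comap ι : Subgroup A) : Set A) →* Equiv.Perm (Fin 5) :=
  @MulAction.toPermHom _ _ _ (act hr)

theorem ρ_apply (a : normalizer ((W.comap ι : Subgroup A) : Set A)) (j : Fin 5) :
    ((ρ hr a j : Fin 5) : ℕ) = T (val (ι (a : A)) (rp j)) := rfl

theorem ρ_eq_one (a : normalizer ((W.comap ι : Subgroup A) : Set A)) :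
    ρ hr a = 1 ↔ (a : A) ∈ P.comap ι := by
  constructor
  · intro h
    apply ker (mem_D hr _) (nrmW hr a)
    intro j hj
    have h1 := ρ_apply hr a ⟨j, hj⟩
    rw [h] at h1
    exact h1.symm
  · intro h
    apply Equiv.ext
    intro j
    apply Fin.ext
    rw [ρ_apply, T_P h (rp_lt j.2), T_rp j.2]
    rfl

/-- an element of `N(W)` from a packed permutation -/
theorem lift_nrm {Q : ℕ} (hQ : ok22 Q = true) (hc : cj [Q] WL = true) :
    ∃ a : normalizer ((W.comap ι : Subgroup A) : Set A), ι (a : A) = pm Q := by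
  obtain ⟨hp, hM⟩ := mem_of_ok22 hQ
  obtain ⟨a, ha⟩ := lift22 hr hM
  have h1 : Nrm a (W.comap ι) := by
    rw [nrm_comap hr W_leD, ha]
    exact Tr.nrm_of_cj hp hc
  exact ⟨⟨a, mem_normalizer_iff.2 fun x => (h1 x).symm⟩, ha⟩

theorem ρ_surj : Function.Surjective (ρ hr) := by
  rw [← MonoidHom.range_eq_top]
  have hr1 : ok22 rP = true ∧ cj [rP] WL = true ∧ ok22 sP = true ∧ cj [sP] WL = true := by
    decide +kernel
  obtain ⟨k1, k2, k3, k4⟩ := hr1
  obtain ⟨r, hr2⟩ := lift_nrm hr k1 k2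
  obtain ⟨s, hs2⟩ := lift_nrm hr k3 k4
  have e1 : ρ hr r = (finRotate 5)⁻¹ := by
    rw [eq_inv_iff_mul_eq_one]
    apply Equiv.ext
    intro j
    apply Fin.ext
    rw [Equiv.Perm.mul_apply, ρ_apply, hr2, val_pm (mem_of_ok22 k1).1 (rp_lt (Fin.is_lt _))]
    have h : ∀ j : Fin 5, T (papp rP (rp (finRotate 5 j))) = j := by decide +kernel
    exact h j
  have e2 : ρ hr s = Equiv.swap 0 1 := by
    apply Equiv.ext
    intro j
    apply Fin.ext
    rw [ρ_apply, hs2, val_pm (mem_of_ok22 k3).1 (rp_lt j.2)]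
    have h : ∀ j : Fin 5, T (papp sP (rp j)) = (Equiv.swap (0 : Fin 5) 1 j : Fin 5) := by decide +kernel
    exact h j
  have h1 : closure ({(finRotate 5)⁻¹, Equiv.swap 0 1} : Set (Equiv.Perm (Fin 5))) = ⊤ := by
    apply Equiv.Perm.closure_prime_cycle_swap
    · rw [Fintype.card_fin]
      norm_num
    · exact (isCycle_finRotate (n := 3)).inv
    · rw [Equiv.Perm.support_inv]
      exact support_finRotate (n := 3)
    · exact ⟨0, 1, by decide, rfl⟩
  rw [eq_top_iff, ← h1, closure_le]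
  rintro x (rfl | rfl)
  · exact ⟨r, e1⟩
  · exact ⟨s, e2⟩

theorem s5 : ∃ ρ : normalizer ((W.comap ι : Subgroup A) : Set A) →* Equiv.Perm (Fin 5),
    Function.Surjective ρ ∧ ∀ a, ρ a = 1 ↔ (a : A) ∈ P.comap ι :=
  ⟨ρ hr, ρ_surj hr, ρ_eq_one hr⟩

end act

end Cfsg.Agent.KFacts.MM.OutI
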