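import Cfsg.Agent.KFacts.MM.OutN

/-!
# `M22:2`: ambient forms of `invL`, `odd`, `five`, and the fields over `ι : A ≃ D22` (helper969)
-/

set_option autoImplicit false
set_option Elab.async false

namespace Cfsg.Agent.KFacts.MM.OutM

open Cfsg Cfsg.Agent.KFacts.MM.El Cfsg.Agent.KFacts.MM.Data Cfsg.Agent.KFacts.MM.DataO
open Cfsg.Agent.KFacts.MM.DataT Cfsg.Agent.KFacts.MM.Sub Cfsg.Agent.KFacts.MM.Int
open Cfsg.Agent.KFacts.MM.El16 Cfsg.Agent.KFacts.MM.Cent Cfsg.Agent.KFacts.MM.OutP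
open Cfsg.Agent.KFacts.MM.OutT Cfsg.Agent.KFacts.MM.OutN
open Cfsg.Agent.SporadicA.GolayBase Cfsg.Agent.SporadicA.GolayPerm
open Cfsg.Agent.J4Type.Aut22 (D22 mem_D22_iff M22_le_D22 mem_M22_iff_D22)
open Cfsg.Agent.OddHalf.MM (Nrm Cen El)

/-! ### Involutions of `N(W)/P` -/

/-- the five indices -/
def r5 : List ℕ := [0, 1, 2, 3, 4]

theorem mem_r5 {j : ℕ} (hj : j < 5) : j ∈ r5 := by
  unfold r5
  interval_cases j <;> simp

/-- the test for `f = (a, b, c, d, e)` -/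
def tst (l : List ℕ) : Bool :=
  !(r5.all fun j => Nat.beq (l.getD (l.getD j 0) 0) j) || ((r5.all fun j => Nat.beq (l.getD j 0) j) ||
    iL.any fun w => r5.all fun j => Nat.beq (T (papp w (rp j))) (l.getD j 0))

theorem tst_all : (r5.all fun a => r5.all fun b => r5.all fun c => r5.all fun d => r5.all fun e =>
    tst [a, b, c, d, e]) = true := by decide +kernel

/-- the test for the elements of `iL` -/
def itst (w : ℕ) : Bool :=
  ok22 w && (cj [w] WL && (weq [w, w] [] && ((WL.all fun x => !weq [w, x] [x, w] ||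
    WL.any fun u => weq [x, u, w] [w, u]) && PO.any fun q => weq [w, q] [q, w])))

theorem itst_all : iL.all itst = true := by decide +kernel

theorem PO_PL {Q : ℕ} (hQ : Q ∈ PO) : Q ∈ PL ∧ pm Q ∉ W := by
  have h : (PO.all fun Q => (PL.any fun R => Nat.beq Q R) && WL.all (fun R => !weq [Q] [R])) = true := by
    decide +kernel
  have h1 := List.all_eq_true.1 h Q hQ
  rw [Bool.and_eq_true] at h1
  obtain ⟨R, hR, h2⟩ := List.any_eq_true.1 h1.1
  have h3 : Q ∈ PL := by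
    rw [Nat.eq_of_beq_eq_true h2]
    exact hR
  exact ⟨h3, out_of h3 h1.2⟩

theorem mem_PO {Q : ℕ} (hQ : Q ∈ PL) (h : pm Q ∉ W) : Q ∈ PO := by
  have h0 : (PL.all fun Q => (WL.any fun R => Nat.beq Q R) || PO.any (fun R => Nat.beq Q R)) = true := by
    decide +kernel
  have h1 := List.all_eq_true.1 h0 Q hQ
  rw [Bool.or_eq_true] at h1
  rcases h1 with h1 | h1
  · obtain ⟨R, hR, h2⟩ := List.any_eq_true.1 h1
    rw [Nat.eq_of_beq_eq_true h2] at h
    exact absurd ⟨R, hR, rfl⟩ h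
  · obtain ⟨R, hR, h2⟩ := List.any_eq_true.1 h1
    rw [Nat.eq_of_beq_eq_true h2]
    exact hR

theorem invL {g : Equiv.Perm GolayPt} (hg : g ∈ D22) (hN : Nrm g W) (hP : g ∉ P) (h2 : g * g ∈ P) :
    ∃ w ∈ Spor.M22, w * w = 1 ∧ Nrm w W ∧ w⁻¹ * g ∈ P ∧
      (∀ x ∈ W, w * x = x * w → ∃ u ∈ W, x = w * u * w⁻¹ * u⁻¹) ∧ ∃ b0 ∈ P, b0 ∉ W ∧ w * b0 = b0 * w := by
  have hf : ∀ j < 5, T (val g (rp j)) < 5 := fun j hj => T_lt hN hj
  have hff : ∀ j < 5, T (val g (rp (T (val g (rp j))))) = j := by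
    intro j hj
    have h3 := T_P h2 (rp_lt hj)
    rw [val_mul, T_rp hj] at h3
    rw [T_congr hN (rp_lt (hf j hj)) (val_lt g _) (by rw [T_rp (hf j hj)]; have := hf j hj; omega)
      (T_rp (hf j hj)), h3]
  let l : List ℕ := [T (val g (rp 0)), T (val g (rp 1)), T (val g (rp 2)), T (val g (rp 3)),
    T (val g (rp 4))]
  have hl : ∀ j < 5, l.getD j 0 = T (val g (rp j)) := by
    intro j hj
    interval_cases j <;> rfl
  have h3 : tst l = true :=
    List.all_eq_true.1 (List.all_eq_true.1 (List.all_eq_true.1 (List.all_eq_true.1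
      (List.all_eq_true.1 tst_all _ (mem_r5 (hf 0 (by norm_num)))) _ (mem_r5 (hf 1 (by norm_num)))) _
      (mem_r5 (hf 2 (by norm_num)))) _ (mem_r5 (hf 3 (by norm_num)))) _ (mem_r5 (hf 4 (by norm_num)))
  have hr5 : ∀ j ∈ r5, j < 5 := by decide +kernel
  have h4 : (r5.all fun j => Nat.beq (l.getD (l.getD j 0) 0) j) = true := by
    rw [List.all_eq_true]
    intro j hj
    have hj := hr5 j hj
    rw [hl j hj, hl _ (hf j hj), hff j hj]
    exact Nat.beq_refl _
  unfold tst at h3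
  rw [h4, Bool.not_true, Bool.false_or, Bool.or_eq_true] at h3
  rcases h3 with h3 | h3
  · exfalso
    apply hP
    apply ker hg hN
    intro j hj
    have h5 := Nat.eq_of_beq_eq_true (List.all_eq_true.1 h3 j (mem_r5 hj))
    rwa [hl j hj] at h5
  obtain ⟨w, hw, h5⟩ := List.any_eq_true.1 h3
  have h6 : ∀ j < 5, T (papp w (rp j)) = T (val g (rp j)) := by
    intro j hj
    rw [← hl j hj]
    exact Nat.eq_of_beq_eq_true (List.all_eq_true.1 h5 j (mem_r5 hj))
  have h7 := List.all_eq_true.1 itst_all w hw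
  unfold itst at h7
  rw [Bool.and_eq_true, Bool.and_eq_true, Bool.and_eq_true, Bool.and_eq_true] at h7
  obtain ⟨k1, k2, k3, k4, k5⟩ := h7
  obtain ⟨hp, hM⟩ := mem_of_ok22 k1
  have hww : pm w * pm w = 1 := by
    have := pr_of_weq (okl2 hp hp) rfl k3
    rwa [pr_two, pr_nil] at this
  have hwi : (pm w)⁻¹ = pm w := inv_eq_of_mul_eq_one_left hww
  have hwN : Nrm (pm w) W := Tr.nrm_of_cj hp k2
  refine ⟨pm w, hM, hww, hwN, ?_, ?_, ?_⟩
  · rw [hwi]
    apply ker (mul_mem (M22_le_D22 hM) hg) (nrm_mul hwN hN)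
    intro j hj
    rw [val_mul, ← T_congr hwN (rp_lt (hf j hj)) (val_lt g _)
      (by rw [T_rp (hf j hj)]; have := hf j hj; omega) (T_rp (hf j hj)),
      val_pm hp (rp_lt (hf j hj)), h6 _ (hf j hj), hff j hj]
  · rintro _ ⟨X, hX, rfl⟩ hc
    have k6 := List.all_eq_true.1 k4 X hX
    rw [Bool.or_eq_true, Bool.not_eq_true'] at k6
    rcases k6 with k6 | k6
    · exfalso
      apply pr_ne (okl2 hp (pW hX)) (okl2 (pW hX) hp) k6
      rw [pr_two, pr_two, hc]
    · obtain ⟨U, hU, k7⟩ := List.any_eq_true.1 k6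
      have k8 := pr_of_weq (okl3 (pW hX) (pW hU) hp) (okl2 hp (pW hU)) k7
      rw [pr_three, pr_two] at k8
      have hUW : pm U ∈ W := ⟨U, hU, rfl⟩
      refine ⟨pm U, hUW, ?_⟩
      have e : pm X = pm X * pm U * pm w * (pm w)⁻¹ * (pm U)⁻¹ := by group
      rw [e, k8]
  · obtain ⟨Q, hQ, k6⟩ := List.any_eq_true.1 k5
    obtain ⟨hQL, hQW⟩ := PO_PL hQ
    have k7 := pr_of_weq (okl2 hp (pP hQL)) (okl2 (pP hQL) hp) k6
    rw [pr_two, pr_two] at k7
    exact ⟨pm Q, ⟨Q, hQL, rfl⟩, hQW, k7⟩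

/-! ### Elements of odd order -/

def otst (Q : ℕ) (d : ℕ) : Bool :=
  ok22 d && (cj [d] WL && (weq [d, Q] [Q, d] && ((weq [d, d, d] [] || weq [d, d, d, d, d] []) &&
    PL.all fun x => !weq [d, x] [x, d] || (weq [x] [] || weq [x] [Q]))))

theorem otst_all : (PO.all fun Q => oL.any (otst Q)) = true := by decide +kernel

theorem odd {u : Equiv.Perm GolayPt} (hu : u ∈ P) (hW : u ∉ W) : ∃ d ∈ Spor.M22, Nrm d W ∧
    Odd (orderOf d) ∧ d * u = u * d ∧ ∀ x ∈ P, d * x = x * d → x = 1 ∨ x = u := by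
  obtain ⟨Q, hQ, rfl⟩ := hu
  obtain ⟨d, -, h1⟩ := List.any_eq_true.1 (List.all_eq_true.1 otst_all Q (mem_PO hQ hW))
  unfold otst at h1
  rw [Bool.and_eq_true, Bool.and_eq_true, Bool.and_eq_true, Bool.and_eq_true] at h1
  obtain ⟨k1, k2, k3, k4, k5⟩ := h1
  obtain ⟨hp, hM⟩ := mem_of_ok22 k1
  refine ⟨pm d, hM, Tr.nrm_of_cj hp k2, ?_, ?_, ?_⟩
  · have h15 : pm d ^ 15 = 1 := by
      rw [Bool.or_eq_true] at k4
      rcases k4 with k4 | k4
      · have h3 := pr_of_weq (l := [d, d, d]) (m := []) (okl3 hp hp hp) rfl k4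
        rw [pr_three, pr_nil] at h3
        have h4 : pm d ^ 3 = 1 := by rw [pow_succ, pow_two, h3]
        rw [show 15 = 3 * 5 by norm_num, pow_mul, h4, one_pow]
      · have h3 := pr_of_weq (l := [d, d, d, d, d]) (m := []) (by
          unfold okl
          simp only [List.all_cons, hp, List.all_nil]
          rfl) rfl k4
        rw [pr_cons, pr_four, pr_nil] at h3
        have h4 : pm d ^ 5 = 1 := by
          rw [← h3]
          simp only [pow_succ, pow_zero, one_mul, mul_assoc]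
        rw [show 15 = 5 * 3 by norm_num, pow_mul, h4, one_pow]
    exact Odd.of_dvd_nat (by decide) (orderOf_dvd_of_pow_eq_one h15)
  · have := pr_of_weq (okl2 hp (pP hQ)) (okl2 (pP hQ) hp) k3
    rwa [pr_two, pr_two] at this
  · rintro _ ⟨X, hX, rfl⟩ hc
    have k6 := List.all_eq_true.1 k5 X hX
    rw [Bool.or_eq_true, Bool.or_eq_true, Bool.not_eq_true'] at k6
    rcases k6 with k6 | k6 | k6
    · exfalso
      apply pr_ne (okl2 hp (pP hX)) (okl2 (pP hX) hp) k6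
      rw [pr_two, pr_two, hc]
    · left
      have := pr_of_weq (okl1 (pP hX)) rfl k6
      rwa [pr_one, pr_nil] at this
    · right
      have := pr_of_weq (okl1 (pP hX)) (okl1 (pP hQ)) k6
      rwa [pr_one, pr_one] at this

theorem five : ∃ r ∈ Spor.M22, ∃ κ ∈ Spor.M22, orderOf r = 5 ∧ Nrm r W ∧ Nrm κ W ∧
    κ * r * κ⁻¹ = r * r := by
  have h : (ok22 rP && (ok22 kP && (cj [rP] WL && (cj [kP] WL && (weq [rP, rP, rP, rP, rP] [] &&
      (!weq [rP] [] && weq [kP, rP] [rP, rP, kP])))))) = true := by decide +kernel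
  rw [Bool.and_eq_true, Bool.and_eq_true, Bool.and_eq_true, Bool.and_eq_true, Bool.and_eq_true,
    Bool.and_eq_true, Bool.not_eq_true'] at h
  obtain ⟨k1, k2, k3, k4, k5, k6, k7⟩ := h
  obtain ⟨hr, hrM⟩ := mem_of_ok22 k1
  obtain ⟨hk, hkM⟩ := mem_of_ok22 k2
  refine ⟨pm rP, hrM, pm kP, hkM, ?_, Tr.nrm_of_cj hr k3, Tr.nrm_of_cj hk k4, ?_⟩
  · have : Fact (Nat.Prime 5) := ⟨by norm_num⟩
    apply orderOf_eq_prime
    · have h3 := pr_of_weq (l := [rP, rP, rP, rP, rP]) (m := []) (by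
        unfold okl
        simp only [List.all_cons, hr, List.all_nil]
        rfl) rfl k5
      rw [pr_cons, pr_four, pr_nil] at h3
      rw [← h3]
      simp only [pow_succ, pow_zero, one_mul, mul_assoc]
    · intro e
      apply pr_ne (l := [rP]) (m := []) (okl1 hr) rfl k6
      rw [pr_one, pr_nil, e]
  · have h3 := pr_of_weq (okl2 hk hr) (okl3 hr hr hk) k7
    rw [pr_two, pr_three] at h3
    rw [h3, mul_inv_cancel_right]

end Cfsg.Agent.KFacts.MM.OutM
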