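import Cfsg.Agent.KFacts.MM.OutT

/-!
# `M22:2`: the action of `N(W)` on the five tetrads (helper969)

`T i` : the number of the tetrad (orbit of `W`) of the point of index `i` (5 for the fixed points of `W`);
`rp j` : the least point of the tetrad `j < 5`.
-/

set_option autoImplicit false
set_option Elab.async false

namespace Cfsg.Agent.KFacts.MM.OutN

open Cfsg Cfsg.Agent.KFacts.MM.El Cfsg.Agent.KFacts.MM.Data Cfsg.Agent.KFacts.MM.DataO
open Cfsg.Agent.KFacts.MM.DataT Cfsg.Agent.KFacts.MM.Sub Cfsg.Agent.KFacts.MM.Int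
open Cfsg.Agent.KFacts.MM.El16 Cfsg.Agent.KFacts.MM.Cent Cfsg.Agent.KFacts.MM.OutP
open Cfsg.Agent.KFacts.MM.OutT
open Cfsg.Agent.SporadicA.GolayBase Cfsg.Agent.SporadicA.GolayPerm
open Cfsg.Agent.J4Type.Aut22 (D22 mem_D22_iff M22_le_D22 mem_M22_iff_D22)
open Cfsg.Agent.OddHalf.MM (Nrm Cen El)
open scoped Pointwise

/-- the number of the tetrad -/
def T (i : ℕ) : ℕ := papp TP i

/-- the least point of a tetrad -/
def rp (j : ℕ) : ℕ := papp RP j

theorem T_le {i : ℕ} (hi : i < 24) : T i ≤ 5 := by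
  have h : (pts.all fun i => Nat.ble (T i) 5) = true := by decide +kernel
  exact Nat.le_of_ble_eq_true (List.all_eq_true.1 h i (mem_pts hi))

theorem W_T {P : ℕ} (hP : P ∈ PL) {i : ℕ} (hi : i < 24) : T (papp P i) = T i := by
  have h : (PL.all fun P => pts.all fun i => Nat.beq (T (papp P i)) (T i)) = true := by decide +kernel
  exact Nat.eq_of_beq_eq_true (List.all_eq_true.1 (List.all_eq_true.1 h P hP) i (mem_pts hi))

theorem WP {P : ℕ} (hP : P ∈ WL) : P ∈ PL := by
  have h : (WL.all fun Q => PL.any fun R => Nat.beq Q R) = true := by decide +kernel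
  obtain ⟨R, hR, h2⟩ := List.any_eq_true.1 (List.all_eq_true.1 h P hP)
  rw [Nat.eq_of_beq_eq_true h2]
  exact hR

theorem W_tr {i j : ℕ} (hi : i < 24) (hj : j < 24) (h : T i = T j) (h5 : T i ≠ 5) :
    ∃ P ∈ WL, papp P i = j := by
  have h0 : (pts.all fun i => pts.all fun j => Nat.beq (T i) 5 || (!Nat.beq (T i) (T j) ||
      WL.any fun P => Nat.beq (papp P i) j)) = true := by decide +kernel
  have h1 := List.all_eq_true.1 (List.all_eq_true.1 h0 i (mem_pts hi)) j (mem_pts hj)
  rw [Bool.or_eq_true, Bool.or_eq_true] at h1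
  rcases h1 with h1 | h1 | h1
  · exact absurd (Nat.eq_of_beq_eq_true h1) h5
  · rw [← h, Nat.beq_refl] at h1
    cases h1
  · obtain ⟨P, hP, h2⟩ := List.any_eq_true.1 h1
    exact ⟨P, hP, Nat.eq_of_beq_eq_true h2⟩

theorem W_fix {i : ℕ} (hi : i < 24) (h : T i = 5) {P : ℕ} (hP : P ∈ WL) : papp P i = i := by
  have h0 : (pts.all fun i => !Nat.beq (T i) 5 || WL.all fun P => Nat.beq (papp P i) i) = true := by
    decide +kernel
  have h1 := List.all_eq_true.1 h0 i (mem_pts hi)
  rw [h, Nat.beq_refl, Bool.not_true, Bool.false_or] at h1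
  exact Nat.eq_of_beq_eq_true (List.all_eq_true.1 h1 P hP)

theorem W_mv {i : ℕ} (hi : i < 24) (h : T i ≠ 5) : ∃ P ∈ WL, papp P i ≠ i := by
  have h0 : (pts.all fun i => Nat.beq (T i) 5 || WL.any fun P => !Nat.beq (papp P i) i) = true := by
    decide +kernel
  have h1 := List.all_eq_true.1 h0 i (mem_pts hi)
  rw [Bool.or_eq_true] at h1
  rcases h1 with h1 | h1
  · exact absurd (Nat.eq_of_beq_eq_true h1) h
  · obtain ⟨P, hP, h2⟩ := List.any_eq_true.1 h1
    refine ⟨P, hP, fun h3 => ?_⟩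
    rw [h3, Nat.beq_refl] at h2
    cases h2

theorem rp_lt {j : ℕ} (hj : j < 5) : rp j < 24 := by
  have h : ∀ j < 5, rp j < 24 := by decide +kernel
  exact h j hj

theorem T_rp {j : ℕ} (hj : j < 5) : T (rp j) = j := by
  have h : ∀ j < 5, T (rp j) = j := by decide +kernel
  exact h j hj

section nrm

variable {g : Equiv.Perm GolayPt} (hg : Nrm g W)

include hg

/-- the conjugate of an element of `W` -/
theorem conj_val {P : ℕ} (hP : P ∈ WL) : ∃ R ∈ WL, ∀ i < 24, val g (papp P i) = papp R (val g i) := by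
  have hPW : pm P ∈ W := ⟨P, hP, rfl⟩
  obtain ⟨R, hR, h⟩ := (hg (pm P)).2 hPW
  refine ⟨R, hR, fun i hi => ?_⟩
  rw [← val_pm (pW hP) hi, ← val_mul, ← val_pm (pW hR) (val_lt g i), ← val_mul, h]
  congr 1
  group

theorem T_ne {i : ℕ} (hi : i < 24) (h5 : T i ≠ 5) : T (val g i) ≠ 5 := by
  intro h
  obtain ⟨P, hP, h1⟩ := W_mv hi h5
  obtain ⟨R, hR, h2⟩ := conj_val hg hP
  apply h1
  have h3 := h2 i hi
  rw [W_fix (val_lt g i) h hR] at h3
  exact val_inj (papp_lt (pW hP) hi) hi h3

theorem T_congr {i j : ℕ} (hi : i < 24) (hj : j < 24) (h5 : T i ≠ 5) (h : T i = T j) :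
    T (val g i) = T (val g j) := by
  obtain ⟨P, hP, h1⟩ := W_tr hi hj h h5
  obtain ⟨R, hR, h2⟩ := conj_val hg hP
  rw [← h1, h2 i hi, W_T (WP hR) (val_lt g i)]

theorem T_lt {j : ℕ} (hj : j < 5) : T (val g (rp j)) < 5 := by
  have h1 := T_le (val_lt g (rp j))
  have h2 := T_ne hg (rp_lt hj) (by rw [T_rp hj]; omega)
  omega

end nrm

/-! ### The kernel -/

/-- the octads through `23, 0, 4, 6` and `13`, `16`, `22` -/
def om (x : ℕ) : ℕ := match x with
  | 13 => 2 ^ 0 + 2 ^ 4 + 2 ^ 6 + 2 ^ 13 + 2 ^ 15 + 2 ^ 20 + 2 ^ 21 + 2 ^ 23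
  | 16 => 2 ^ 0 + 2 ^ 4 + 2 ^ 6 + 2 ^ 8 + 2 ^ 16 + 2 ^ 18 + 2 ^ 19 + 2 ^ 23
  | _ => 2 ^ 0 + 2 ^ 3 + 2 ^ 4 + 2 ^ 6 + 2 ^ 7 + 2 ^ 14 + 2 ^ 22 + 2 ^ 23

/-- the five common points -/
def fm (x : ℕ) : ℕ := 2 ^ 0 + 2 ^ 4 + 2 ^ 6 + 2 ^ 23 + 2 ^ x

theorem om_oct {x : ℕ} (hx : x ∈ [13, 16, 22]) : fin (om x) ∈ octads := by
  have h : ∀ x ∈ [13, 16, 22], om x < 2 ^ 24 ∧ isCode (om x) = true ∧ popcount (om x) = 8 := by
    decide +kernel
  obtain ⟨h1, h2, h3⟩ := h x hx
  exact (fin_mem_octads_iff h1).2 ⟨h2, h3⟩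

theorem fm_mem {x i : ℕ} (hx : x ∈ [13, 16, 22]) (hi : i < 24) (h : (fm x).testBit i = true) :
    i = 0 ∨ i = 4 ∨ i = 6 ∨ i = 23 ∨ i = x := by
  have h0 : ([13, 16, 22].all fun x => pts.all fun i => !(fm x).testBit i || (Nat.beq i 0 ||
      (Nat.beq i 4 || (Nat.beq i 6 || (Nat.beq i 23 || Nat.beq i x))))) = true := by decide +kernel
  have h1 := List.all_eq_true.1 (List.all_eq_true.1 h0 x hx) i (mem_pts hi)
  rw [h, Bool.not_true, Bool.false_or, Bool.or_eq_true, Bool.or_eq_true, Bool.or_eq_true,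
    Bool.or_eq_true] at h1
  rcases h1 with h1 | h1 | h1 | h1 | h1
  · exact Or.inl (Nat.eq_of_beq_eq_true h1)
  · exact Or.inr (Or.inl (Nat.eq_of_beq_eq_true h1))
  · exact Or.inr (Or.inr (Or.inl (Nat.eq_of_beq_eq_true h1)))
  · exact Or.inr (Or.inr (Or.inr (Or.inl (Nat.eq_of_beq_eq_true h1))))
  · exact Or.inr (Or.inr (Or.inr (Or.inr (Nat.eq_of_beq_eq_true h1))))

theorem fm_sub {x i : ℕ} (hx : x ∈ [13, 16, 22]) (hi : i = 0 ∨ i = 4 ∨ i = 6 ∨ i = 23 ∨ i = x) :
    (fm x).testBit i = true ∧ (om x).testBit i = true := by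
  have h0 : ∀ x ∈ [13, 16, 22], ∀ i ∈ [0, 4, 6, 23, x], (fm x).testBit i = true ∧
      (om x).testBit i = true := by decide +kernel
  apply h0 x hx i
  rcases hi with rfl | rfl | rfl | rfl | rfl <;> simp

/-- an element of `M24` fixing `0, 4, 6, 23` and mapping `x` to `y` maps the octad of `x` to that of `y` -/
theorem oct_img {h : Equiv.Perm GolayPt} (hM : h ∈ M24) (h0 : val h 0 = 0) (h4 : val h 4 = 4)
    (h6 : val h 6 = 6) (h23 : val h 23 = 23) {x y : ℕ} (hx : x ∈ [13, 16, 22]) (hy : y ∈ [13, 16, 22])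
    (hxy : val h x = y) {i : ℕ} (hi : i < 24) (hb : (om x).testBit i = true) :
    (om y).testBit (val h i) = true := by
  have hc : popcount (fm x) = 5 := by
    have : ∀ x ∈ [13, 16, 22], popcount (fm x) = 5 := by decide +kernel
    exact this x hx
  have hsub : h • fin (fm x) ⊆ h • fin (om x) ∩ fin (om y) := by
    intro q hq
    obtain ⟨p, hp, rfl⟩ := Finset.mem_smul_finset.1 hq
    rw [mem_fin] at hp
    have h1 := fm_mem hx (idx_lt p) hp
    rw [Finset.mem_inter]
    constructor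
    · apply Finset.smul_mem_smul_finset
      rw [mem_fin]
      exact (fm_sub hx h1).2
    · rw [mem_fin]
      have h2 : idx (h • p) = val h (idx p) := by
        unfold val
        rw [pt_idx]
        rfl
      rw [h2]
      apply (fm_sub hy _).2
      rcases h1 with h1 | h1 | h1 | h1 | h1 <;> rw [h1]
      · exact Or.inl h0
      · exact Or.inr (Or.inl h4)
      · exact Or.inr (Or.inr (Or.inl h6))
      · exact Or.inr (Or.inr (Or.inr (Or.inl h23)))
      · exact Or.inr (Or.inr (Or.inr (Or.inr hxy)))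
  have heq : h • fin (om x) = fin (om y) := by
    apply octad_unique (SporadicA.M24Frames.smul_mem_octads hM (om_oct hx)) (om_oct hy)
    rw [← hc, ← card_fin, ← Finset.card_smul_finset h]
    exact Finset.card_le_card hsub
  have h5 : h • pt i ∈ fin (om y) := by
    rw [← heq]
    apply Finset.smul_mem_smul_finset
    rw [mem_fin, idx_pt hi]
    exact hb
  rw [mem_fin] at h5
  exact h5

/-- an element of `M24` fixing `0, 4, 6, 23` and the tetrads is trivial -/
theorem eq_one {h : Equiv.Perm GolayPt} (hM : h ∈ M24) (h0 : val h 0 = 0) (h4 : val h 4 = 4)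
    (h6 : val h 6 = 6) (h23 : val h 23 = 23) (hT : ∀ i < 24, T i ≠ 5 → T (val h i) = T i) : h = 1 := by
  have hx : ∀ x ∈ [13, 16, 22], val h x = x := by
    intro x hx
    have k0 : ([13, 16, 22].all fun x => pts.all fun y => !Nat.beq (T y) (T x) || (Nat.beq y 4 ||
      (Nat.beq y 13 || (Nat.beq y 16 || Nat.beq y 22)))) = true := by decide +kernel
    have hx24 : x < 24 ∧ T x ≠ 5 ∧ x ≠ 4 := by
      have : ∀ x ∈ [13, 16, 22], x < 24 ∧ T x ≠ 5 ∧ x ≠ 4 := by decide +kernel
      exact this x hx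
    have k1 := List.all_eq_true.1 (List.all_eq_true.1 k0 x hx) (val h x) (mem_pts (val_lt h x))
    rw [hT x hx24.1 hx24.2.1, Nat.beq_refl, Bool.not_true, Bool.false_or, Bool.or_eq_true,
      Bool.or_eq_true, Bool.or_eq_true] at k1
    have hy : val h x ∈ [13, 16, 22] := by
      rcases k1 with k1 | k1 | k1 | k1
      · exfalso
        apply hx24.2.2
        have k2 := Nat.eq_of_beq_eq_true k1
        rw [← h4] at k2
        exact val_inj hx24.1 (by norm_num) k2
      · rw [Nat.eq_of_beq_eq_true k1]; simp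
      · rw [Nat.eq_of_beq_eq_true k1]; simp
      · rw [Nat.eq_of_beq_eq_true k1]; simp
    by_contra hne
    have k3 : ([13, 16, 22].all fun x => [13, 16, 22].all fun y => Nat.beq y x || pts.any fun u =>
        (om x).testBit u && (!Nat.beq (T u) 5 && pts.all fun q => !(om y).testBit q ||
          !Nat.beq (T q) (T u))) = true := by decide +kernel
    have k4 := List.all_eq_true.1 (List.all_eq_true.1 k3 x hx) _ hy
    rw [Bool.or_eq_true] at k4
    rcases k4 with k4 | k4
    · exact hne (Nat.eq_of_beq_eq_true k4)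
    · obtain ⟨u, hu, k5⟩ := List.any_eq_true.1 k4
      rw [Bool.and_eq_true, Bool.and_eq_true] at k5
      obtain ⟨k6, k7, k8⟩ := k5
      have hu24 := lt_of_mem_pts hu
      have k9 := List.all_eq_true.1 k8 (val h u) (mem_pts (val_lt h u))
      have hu5 : T u ≠ 5 := by
        intro hh
        rw [hh] at k7
        cases k7
      rw [oct_img hM h0 h4 h6 h23 hx hy rfl hu24 k6, hT u hu24 hu5, Nat.beq_refl] at k9
      cases k9
  have h13 := hx 13 (by simp)
  have h16 := hx 16 (by simp)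
  have h22 := hx 22 (by simp)
  have h7 : val h 7 = 7 := by
    have k0 : (pts.all fun y => !((om 22).testBit y && Nat.beq (T y) (T 7)) || (Nat.beq y 6 ||
      Nat.beq y 7)) = true := by decide +kernel
    have k1 := List.all_eq_true.1 k0 (val h 7) (mem_pts (val_lt h 7))
    rw [oct_img hM h0 h4 h6 h23 (x := 22) (y := 22) (by simp) (by simp) h22 (by norm_num)
      (by decide +kernel), hT 7 (by norm_num) (by decide +kernel), Nat.beq_refl, Bool.and_true,
      Bool.not_true, Bool.false_or, Bool.or_eq_true] at k1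
    rcases k1 with k1 | k1
    · exfalso
      have k2 := Nat.eq_of_beq_eq_true k1
      rw [← h6] at k2
      have := val_inj (by norm_num) (by norm_num) k2
      omega
    · exact Nat.eq_of_beq_eq_true k1
  apply eq_of_val adm_frW hM (one_mem _)
  refine forall_frW (p := fun i => val h i = val 1 i) ?_
  intro i hi
  show val h i = val 1 i
  have hi24 : i < 24 := by
    simp only [List.mem_cons, List.not_mem_nil, or_false] at hi
    omega
  rw [val_one hi24]
  simp only [List.mem_cons, List.not_mem_nil, or_false] at hi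
  rcases hi with rfl | rfl | rfl | rfl | rfl | rfl | rfl <;> assumption

/-- the kernel of the action on the tetrads, in `M22` -/
theorem ker22 {g : Equiv.Perm GolayPt} (hg : g ∈ Spor.M22) (hN : Nrm g W)
    (h : ∀ j < 5, T (val g (rp j)) = j) : g ∈ W := by
  have hT : ∀ i < 24, T i ≠ 5 → T (val g i) = T i := by
    intro i hi h5
    have h1 := T_le hi
    have h2 : T i < 5 := by omega
    rw [T_congr hN hi (rp_lt h2) h5 (T_rp h2).symm, h _ h2]
  have k1 : T 4 ≠ 5 ∧ T 6 ≠ 5 := by decide +kernel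
  have k3 : (pts.all fun q => pts.all fun r => !(Nat.beq (T q) (T 4) && Nat.beq (T r) (T 6)) ||
      WL.any fun P => Nat.beq (papp P 4) q && Nat.beq (papp P 6) r) = true := by decide +kernel
  have k4 := List.all_eq_true.1 (List.all_eq_true.1 k3 _ (mem_pts (val_lt g 4))) _
    (mem_pts (val_lt g 6))
  rw [hT 4 (by norm_num) k1.1, hT 6 (by norm_num) k1.2, Nat.beq_refl, Nat.beq_refl, Bool.and_true,
    Bool.not_true, Bool.false_or] at k4
  obtain ⟨P, hP, h7⟩ := List.any_eq_true.1 k4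
  rw [Bool.and_eq_true] at h7
  have e4 := Nat.eq_of_beq_eq_true h7.1
  have e6 := Nat.eq_of_beq_eq_true h7.2
  have hPW : pm P ∈ W := ⟨P, hP, rfl⟩
  have hp := pW hP
  -- `pm P * g` fixes 4 and 6
  have hPP : pm P * pm P = 1 := elW _ hPW
  have hval : ∀ i j, i < 24 → j < 24 → val g i = papp P j → val (pm P * g) i = j := by
    intro i j hi hj e
    rw [val_mul, e, ← val_pm hp hj, ← val_mul, hPP, val_one hj]
  have h1 : pm P * g = 1 := by
    apply eq_one (mul_mem (M22_le24 (W_le22 hPW)) (M22_le24 hg))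
    · exact hval 0 0 (by norm_num) (by norm_num) (by
        rw [val0 hg, W_fix (by norm_num) (by decide +kernel) hP])
    · exact hval 4 4 (by norm_num) (by norm_num) e4.symm
    · exact hval 6 6 (by norm_num) (by norm_num) e6.symm
    · exact hval 23 23 (by norm_num) (by norm_num) (by
        rw [val23 (M22_le23 hg), W_fix (by norm_num) (by decide +kernel) hP])
    · intro i hi h5
      rw [val_mul, val_pm hp (val_lt g i), W_T (WP hP) (val_lt g i), hT i hi h5]
  have h2 : g = pm P := by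
    calc g = pm P * pm P * g := by rw [hPP, one_mul]
      _ = pm P := by rw [mul_assoc, h1, mul_one]
  rw [h2]
  exact hPW

/-- an element of `P` fixes the tetrads -/
theorem T_P {g : Equiv.Perm GolayPt} (hg : g ∈ P) {i : ℕ} (hi : i < 24) : T (val g i) = T i := by
  obtain ⟨Q, hQ, rfl⟩ := hg
  rw [val_pm (pP hQ) hi, W_T hQ hi]

theorem nrm_P {g : Equiv.Perm GolayPt} (hg : g ∈ P) : Nrm g W := by
  apply nrm_of
  intro x hx
  have h := comm_of_El elP hg (W_le_P hx)
  rw [h, mul_inv_cancel_right]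
  exact hx

/-- the kernel of the action on the tetrads -/
theorem ker {g : Equiv.Perm GolayPt} (hg : g ∈ D22) (hN : Nrm g W)
    (h : ∀ j < 5, T (val g (rp j)) = j) : g ∈ P := by
  by_cases hK : g ∈ Spor.M22
  · exact W_le_P (ker22 hK hN h)
  · have h1 := out_b hg hK
    have h2 : g * b ∈ W := by
      apply ker22 h1 (nrm_mul hN (nrm_P b_mem))
      intro j hj
      have h3 := T_P b_mem (rp_lt hj)
      rw [val_mul, T_congr hN (val_lt b _) (rp_lt hj) (by rw [h3, T_rp hj]; omega) h3, h j hj]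
    have h3 := mul_mem (W_le_P h2) b_mem
    rwa [mul_assoc, bb, mul_one] at h3

end Cfsg.Agent.KFacts.MM.OutN
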