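import Cfsg.Agent.KFacts.MM.Cent
import Cfsg.Agent.KFacts.MM.DataO
import Cfsg.Agent.J4Type.Aut22

/-!
# `M22:2` as the stabiliser `D22` of the duad `{none, some 0}` in `M24`: the subgroup `P = C(W)` of order 32

`b` is an involution of `P` outside `M22`.
-/

set_option autoImplicit false

namespace Cfsg.Agent.KFacts.MM.OutP

open Cfsg Cfsg.Agent.KFacts.MM.El Cfsg.Agent.KFacts.MM.Data Cfsg.Agent.KFacts.MM.DataO
open Cfsg.Agent.KFacts.MM.Sub Cfsg.Agent.KFacts.MM.Int Cfsg.Agent.KFacts.MM.El16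
open Cfsg.Agent.KFacts.MM.Cent
open Cfsg.Agent.SporadicA.GolayBase Cfsg.Agent.SporadicA.GolayPerm
open Cfsg.Agent.J4Type.Aut22 (D22 mem_D22_iff M22_le_D22 mem_M22_iff_D22)
open Cfsg.Agent.OddHalf.MM (Nrm Cen El)

theorem chkP : chk PL = true := by decide +kernel

/-- `P = C(W)` in `M22:2` -/
def P : Subgroup (Equiv.Perm GolayPt) := ofList PL chkP

/-- `b` -/
noncomputable def b : Equiv.Perm GolayPt := pm bP

theorem permb : isPerm bP = true := by decide +kernel

theorem pP {Q : ℕ} (h : Q ∈ PL) : isPerm Q = true := okl_of chkP h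

theorem b_mem : b ∈ P := ⟨bP, by decide +kernel, rfl⟩

theorem W_le_P : W ≤ P := by
  rintro _ ⟨Q, hQ, rfl⟩
  have h : (WL.all fun Q => PL.any fun R => Nat.beq Q R) = true := by decide +kernel
  obtain ⟨R, hR, h2⟩ := List.any_eq_true.1 (List.all_eq_true.1 h Q hQ)
  rw [Nat.eq_of_beq_eq_true h2]
  exact ⟨R, hR, rfl⟩

theorem cardP : Nat.card P = 32 := card_ofList chkP (by decide +kernel)

theorem elP : El P := el_ofList chkP

theorem bb : b * b = 1 := elP b b_mem

theorem b_inv : b⁻¹ = b := inv_eq_of_mul_eq_one_left bb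

/-- an element of `P` lies in `W` or in `Wb` -/
theorem mem_P {x : Equiv.Perm GolayPt} : x ∈ P ↔ ∃ w ∈ W, x = w ∨ x = w * b := by
  constructor
  · rintro ⟨Q, hQ, rfl⟩
    have h : (PL.all fun Q => WL.any fun R => weq [Q] [R] || weq [Q] [R, bP]) = true := by decide +kernel
    obtain ⟨R, hR, h2⟩ := List.any_eq_true.1 (List.all_eq_true.1 h Q hQ)
    rw [Bool.or_eq_true] at h2
    refine ⟨pm R, ⟨R, hR, rfl⟩, ?_⟩
    rcases h2 with h2 | h2
    · left
      have := pr_of_weq (okl1 (pP hQ)) (okl1 (pW hR)) h2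
      rwa [pr_one, pr_one] at this
    · right
      have := pr_of_weq (okl1 (pP hQ)) (okl2 (pW hR) permb) h2
      rwa [pr_one, pr_two] at this
  · rintro ⟨w, hw, rfl | rfl⟩
    · exact W_le_P hw
    · exact mul_mem (W_le_P hw) b_mem

theorem b_none : b none = some 0 := by
  have h1 : val b 23 = 0 := by
    unfold b
    rw [val_pm permb (by norm_num)]
    decide +kernel
  have h2 := pt_val b 23
  rw [h1] at h2
  exact h2.symm

theorem b_zero : b (some 0) = none := by
  have h1 : val b 0 = 23 := by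
    unfold b
    rw [val_pm permb (by norm_num)]
    decide +kernel
  have h2 := pt_val b 0
  rw [h1] at h2
  exact h2.symm

theorem b_D22 : b ∈ D22 := by
  rw [mem_D22_iff]
  refine ⟨pm_mem_M24 permb (by decide +kernel), Or.inr ⟨b_none, b_zero⟩⟩

theorem b_not_M22 : b ∉ Spor.M22 := by
  intro h
  have h1 := ((SporadicA.MathieuRecog.mem_M22_iff _).1 h).2.1
  rw [b_none] at h1
  cases h1

/-- an element of `M22:2` outside `M22` lies in `M22 b` -/
theorem out_b {g : Equiv.Perm GolayPt} (hg : g ∈ D22) (h : g ∉ Spor.M22) : g * b ∈ Spor.M22 := by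
  rw [SporadicA.MathieuRecog.mem_M22_iff] at h ⊢
  have h1 := (mem_D22_iff g).1 hg
  have h2 : g none = some 0 ∧ g (some 0) = none := by
    rcases h1.2 with h3 | h3
    · exact absurd ⟨h1.1, h3⟩ h
    · exact h3
  refine ⟨mul_mem h1.1 ((mem_D22_iff b).1 b_D22).1, ?_, ?_⟩
  · rw [Equiv.Perm.mul_apply, b_none, h2.2]
  · rw [Equiv.Perm.mul_apply, b_zero, h2.1]

theorem P_le : P ≤ D22 := by
  intro x hx
  obtain ⟨w, hw, rfl | rfl⟩ := mem_P.1 hx
  · exact M22_le_D22 (W_le22 hw)
  · exact mul_mem (M22_le_D22 (W_le22 hw)) b_D22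

theorem PK {x : Equiv.Perm GolayPt} (hx : x ∈ P) (hK : x ∈ Spor.M22) : x ∈ W := by
  obtain ⟨w, hw, rfl | rfl⟩ := mem_P.1 hx
  · exact hw
  · exfalso
    apply b_not_M22
    have := mul_mem (inv_mem (W_le22 hw)) hK
    rwa [inv_mul_cancel_left] at this

/-- `C(W) = P` in `M22:2` -/
theorem CW' {k : Equiv.Perm GolayPt} (hk : k ∈ D22) (h : Cen k W) : k ∈ P := by
  by_cases hK : k ∈ Spor.M22
  · exact W_le_P (CW (M22_le23 hK) h)
  · have h1 := out_b hk hK
    have h2 : k * b ∈ W := by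
      apply CW (M22_le23 h1)
      intro x hx
      have h3 := h x hx
      have h4 : b * x = x * b := comm_of_El elP b_mem (W_le_P hx)
      rw [mul_assoc, h4, ← mul_assoc, h3, mul_assoc]
    have h3 := mul_mem (W_le_P h2) b_mem
    rwa [mul_assoc, bb, mul_one] at h3

end Cfsg.Agent.KFacts.MM.OutP
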