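import Cfsg.Agent.KFacts.MM.OutP
import Cfsg.Agent.KFacts.MM.NormS

/-!
# The Sylow 2-subgroup `SA = S⟨b⟩` of `M22:2` (ambient form)
-/

set_option autoImplicit false

namespace Cfsg.Agent.KFacts.MM.OutS

open Cfsg Cfsg.Agent.KFacts.MM.El Cfsg.Agent.KFacts.MM.Data Cfsg.Agent.KFacts.MM.DataO
open Cfsg.Agent.KFacts.MM.Sub Cfsg.Agent.KFacts.MM.Int Cfsg.Agent.KFacts.MM.El16
open Cfsg.Agent.KFacts.MM.Cent Cfsg.Agent.KFacts.MM.OutP Cfsg.Agent.KFacts.MM.NormS
open Cfsg.Agent.SporadicA.GolayBase Cfsg.Agent.SporadicA.GolayPerm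
open Cfsg.Agent.J4Type.Aut22 (D22 mem_D22_iff M22_le_D22 mem_M22_iff_D22 card_D22)
open Cfsg.Agent.OddHalf.MM (Nrm Cen El)

/-! ### The action of `b` -/

theorem bV : ∀ x ∈ V, b * x * b⁻¹ ∈ V := by
  intro x hx
  have := conj_mem (l := [bP]) (by decide +kernel) (by decide +kernel) hx
  rwa [pr_one] at this

theorem b_comm_W : ∀ x ∈ W, b * x = x * b := fun _ hx => comm_of_El elP b_mem (W_le_P hx)

theorem bW : ∀ x ∈ W, b * x * b⁻¹ ∈ W := by
  intro x hx
  rw [b_comm_W x hx, mul_inv_cancel_right]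
  exact hx

theorem b_comm_c : b * c = c * b := by
  have h := pr_of_weq (l := [bP, cP]) (m := [cP, bP]) (by decide +kernel) (by decide +kernel)
    (by decide +kernel)
  rwa [pr_two, pr_two] at h

theorem b_comm_z : b * z = z * b := b_comm_W z zW

theorem bS : ∀ s ∈ S, b * s * b⁻¹ ∈ S := by
  rintro _ ⟨v, hv, w, hw, rfl | rfl⟩
  · have e : b * (v * w) * b⁻¹ = (b * v * b⁻¹) * (b * w * b⁻¹) := by group
    rw [e]
    exact mul_mem (V_le (bV v hv)) (W_le (bW w hw))
  · have e : b * (v * w * c) * b⁻¹ = (b * v * b⁻¹) * (b * w * b⁻¹) * (b * c * b⁻¹) := by group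
    have hc : b * c * b⁻¹ = c := by rw [b_comm_c, mul_inv_cancel_right]
    rw [e, hc]
    exact mul_mem (mul_mem (V_le (bV v hv)) (W_le (bW w hw))) c_mem

/-- the Sylow 2-subgroup of `M22:2` -/
noncomputable def SA : Subgroup (Equiv.Perm GolayPt) where
  carrier := {g | g ∈ S ∨ g * b ∈ S}
  mul_mem' := by
    rintro g h (hg | hg) (hh | hh)
    · exact Or.inl (mul_mem hg hh)
    · right
      rw [mul_assoc]
      exact mul_mem hg hh
    · right
      have h1 := mul_mem hg (bS h hh)
      have e : g * b * (b * h * b⁻¹) = g * (b * b) * h * b⁻¹ := by group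
      rw [e, bb, mul_one, b_inv] at h1
      exact h1
    · left
      have h1 := mul_mem hg (bS _ hh)
      have e : g * b * (b * (h * b) * b⁻¹) = g * (b * b) * h := by group
      rw [e, bb, mul_one] at h1
      exact h1
  one_mem' := Or.inl (one_mem S)
  inv_mem' := by
    rintro g (hg | hg)
    · exact Or.inl (inv_mem hg)
    · right
      have h1 := bS _ (inv_mem hg)
      have e : b * (g * b)⁻¹ * b⁻¹ = (b * b⁻¹) * g⁻¹ * b⁻¹ := by group
      rw [e, mul_inv_cancel, one_mul, b_inv] at h1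
      exact h1

theorem mem_SA {g : Equiv.Perm GolayPt} : g ∈ SA ↔ g ∈ S ∨ g * b ∈ S := Iff.rfl

theorem S_le : S ≤ SA := fun _ h => Or.inl h

theorem b_SA : b ∈ SA := by
  right
  rw [bb]
  exact one_mem S

theorem P_le_SA : P ≤ SA := by
  intro x hx
  obtain ⟨w, hw, rfl | rfl⟩ := mem_P.1 hx
  · exact S_le (W_le hw)
  · exact mul_mem (S_le (W_le hw)) b_SA

theorem SA_le : SA ≤ D22 := by
  rintro g (hg | hg)
  · exact M22_le_D22 (S_le22 hg)
  · have h1 := mul_mem (M22_le_D22 (S_le22 hg)) (inv_mem b_D22)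
    rwa [mul_inv_cancel_right] at h1

/-- an element of `SA` in `M22` lies in `S` -/
theorem SA_M22 {g : Equiv.Perm GolayPt} (hg : g ∈ SA) (h : g ∈ Spor.M22) : g ∈ S := by
  rcases hg with hg | hg
  · exact hg
  · exfalso
    apply b_not_M22
    have := mul_mem (inv_mem h) (S_le22 hg)
    rwa [inv_mul_cancel_left] at this

theorem sq_SA {g : Equiv.Perm GolayPt} (hg : g ∈ SA) : g * g ∈ S := by
  rcases hg with hg | hg
  · exact mul_mem hg hg
  · have h1 := mul_mem hg (bS _ hg)
    have e : g * b * (b * (g * b) * b⁻¹) = g * (b * b) * g := by group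
    rwa [e, bb, mul_one] at h1

theorem isPGroup_SA : IsPGroup 2 SA := by
  intro g
  refine ⟨4, ?_⟩
  apply Subtype.ext
  have h1 := sq_S (sq_SA g.2)
  have h2 := elV _ (sq_R h1)
  have h3 : ((g : Equiv.Perm GolayPt)) ^ (2 ^ 4) = (g : Equiv.Perm GolayPt) * g * (g * g) *
      (g * g * (g * g)) * (g * g * (g * g) * (g * g * (g * g))) := by
    norm_num [pow_succ, mul_assoc]
  show ((g : Equiv.Perm GolayPt)) ^ (2 ^ 4) = 1
  rw [h3, h2]

theorem card_le_of_two {A : Subgroup (Equiv.Perm GolayPt)} (hA : Nat.card A = 887040) {Q : Subgroup A}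
    (hQ : IsPGroup 2 Q) : Nat.card Q ≤ 256 := by
  obtain ⟨n, hn⟩ := IsPGroup.iff_card.1 hQ
  have h1 : 2 ^ n ∣ 2 ^ 8 * 3465 := by
    rw [← hn, show 2 ^ 8 * 3465 = 887040 by norm_num, ← hA]
    exact Subgroup.card_subgroup_dvd_card Q
  have h2 : 2 ^ n ∣ 2 ^ 8 := by
    apply Nat.Coprime.dvd_of_dvd_mul_right _ h1
    exact Nat.Coprime.pow_left n (by norm_num)
  rw [hn]
  exact Nat.le_of_dvd (by norm_num) h2

theorem card_SA : Nat.card SA = 256 := by
  have hle : Nat.card SA ≤ 256 := by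
    have h1 : IsPGroup 2 (SA.subgroupOf D22) :=
      isPGroup_SA.comap_of_injective D22.subtype D22.subtype_injective
    have h2 := card_le_of_two card_D22 h1
    rwa [Nat.card_congr (Subgroup.subgroupOfEquivOfLe SA_le).toEquiv] at h2
  obtain ⟨n, hn⟩ := IsPGroup.iff_card.1 isPGroup_SA
  have hlt : Nat.card S < Nat.card SA := by
    by_contra hcon
    have h1 := Subgroup.eq_of_le_of_card_ge S_le (not_lt.1 hcon)
    apply b_not_M22
    apply S_le22
    rw [h1]
    exact b_SA
  have h128 := card_S_ge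
  rw [hn] at hlt hle ⊢
  have h7 : 7 < n := by
    by_contra hcon
    have := Nat.pow_le_pow_right (show 0 < 2 by norm_num) (not_lt.1 hcon)
    norm_num at this
    omega
  have h8 : n ≤ 8 := by
    by_contra hcon
    have := Nat.pow_le_pow_right (show 0 < 2 by norm_num) (show 9 ≤ n by omega)
    norm_num at this
    omega
  have : n = 8 := by omega
  rw [this]
  norm_num

/-! ### Normal subgroups, centre, elementary abelian subgroups -/

theorem SA_V : ∀ s ∈ SA, ∀ x ∈ V, s * x * s⁻¹ ∈ V := by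
  rintro s (hs | hs) x hx
  · exact S_V s hs x hx
  · have h1 := S_V _ hs _ (bV x hx)
    have e : s * b * (b * x * b⁻¹) * (s * b)⁻¹ = s * (b * b) * x * (b * b)⁻¹ * s⁻¹ := by group
    rwa [e, bb, mul_one, inv_one, mul_one] at h1

theorem SA_W : ∀ s ∈ SA, ∀ x ∈ W, s * x * s⁻¹ ∈ W := by
  rintro s (hs | hs) x hx
  · exact S_W s hs x hx
  · have h1 := S_W _ hs _ (bW x hx)
    have e : s * b * (b * x * b⁻¹) * (s * b)⁻¹ = s * (b * b) * x * (b * b)⁻¹ * s⁻¹ := by group
    rwa [e, bb, mul_one, inv_one, mul_one] at h1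

theorem D22_le24 {g : Equiv.Perm GolayPt} (h : g ∈ D22) : g ∈ M24 := ((mem_D22_iff g).1 h).1

theorem cen_SA : ∀ y ∈ SA, (∀ s ∈ SA, s * y = y * s) → y = 1 ∨ y = z := by
  intro y hy h
  have hyS : y ∈ S := V_le (CV (D22_le24 (SA_le hy)) fun x hx => (h x (S_le (V_le hx))).symm)
  exact cen y hyS fun s hs => h s (S_le hs)

theorem out_mul_SA {s t : Equiv.Perm GolayPt} (hs : s ∈ SA) (hS : s ∉ S) (ht : t ∈ SA) (hS' : t ∉ S) :
    s⁻¹ * t ∈ S := by
  have h1 := hs.resolve_left hS
  have h2 := ht.resolve_left hS'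
  have h3 := bS _ (mul_mem (inv_mem h1) h2)
  have e : b * ((s * b)⁻¹ * (t * b)) * b⁻¹ = (b * b⁻¹) * (s⁻¹ * t) * (b * b⁻¹) := by group
  rwa [e, mul_inv_cancel, one_mul, mul_one] at h3

theorem el32 (E : Subgroup (Equiv.Perm GolayPt)) (hE : E ≤ SA) (hel : El E) (h32 : 32 ≤ Nat.card E) :
    E = P := by
  by_cases hS : E ≤ S
  · exfalso
    rcases el16 E hS hel (by omega) with h | h
    · rw [h, cardV] at h32; omega
    · rw [h, cardW] at h32; omega
  rw [SetLike.not_le_iff_exists] at hS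
  obtain ⟨s, hs, hsS⟩ := hS
  set F := E ⊓ S with hF
  have hcard : 16 ≤ Nat.card F := by
    have hsub : (E : Set (Equiv.Perm GolayPt)) ⊆
        (F : Set (Equiv.Perm GolayPt)) ∪ (fun x => s * x) '' (F : Set (Equiv.Perm GolayPt)) := by
      intro x hx
      by_cases hxR : x ∈ S
      · exact Or.inl ⟨hx, hxR⟩
      · right
        refine ⟨s⁻¹ * x, ⟨E.mul_mem (E.inv_mem hs) hx, out_mul_SA (hE hs) hsS (hE hx) hxR⟩, ?_⟩
        show s * (s⁻¹ * x) = x
        group
    have h5 := Set.ncard_le_ncard hsub (Set.toFinite _)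
    have h6 := (h5.trans (Set.ncard_union_le _ _))
    have h7 := Set.ncard_image_le (f := fun x => s * x) (Set.toFinite (F : Set (Equiv.Perm GolayPt)))
    have e1 : (E : Set (Equiv.Perm GolayPt)).ncard = Nat.card E := rfl
    have e2 : (F : Set (Equiv.Perm GolayPt)).ncard = Nat.card F := rfl
    rw [e1, e2] at h6
    rw [e2] at h7
    omega
  have hsF : ∀ x ∈ F, s * x = x * s := fun x hx => comm_of_El hel hs hx.1
  rcases el16 F inf_le_right (fun x hx => hel x hx.1) hcard with h | h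
  · exfalso
    apply hsS
    apply V_le
    apply CV (D22_le24 (SA_le (hE hs)))
    intro x hx
    rw [← h] at hx
    exact hsF x hx
  · have hEP : E ≤ P := by
      intro x hx
      apply CW' (SA_le (hE hx))
      intro y hy
      rw [← h] at hy
      exact comm_of_El hel hx hy.1
    exact Subgroup.eq_of_le_of_card_ge hEP (by rw [cardP]; exact h32)

/-! ### Normal self-centralising subgroups of order 16 -/

/-- `W = V₀ W4` -/
theorem mem_S4 {s : Equiv.Perm GolayPt} (hs : s ∈ S) :
    ∃ P ∈ VL, ∃ Q ∈ W4, s = pr [P, Q] ∨ s = pr [P, Q, cP] := by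
  have k : (WL.all fun Q => W4.any fun R => V0L.any fun T => weq [Q] [T, R]) = true := by decide +kernel
  obtain ⟨v, hv, _, ⟨Q, hQ, rfl⟩, h⟩ := mem_S.1 hs
  obtain ⟨R, hR, h1⟩ := List.any_eq_true.1 (List.all_eq_true.1 k Q hQ)
  obtain ⟨T, hT, h2⟩ := List.any_eq_true.1 h1
  have h3 := pr_of_weq (okl1 (pW hQ)) (okl2 (pV (V0_mem hT).1) (pW (W4_sub hR))) h2
  rw [pr_one, pr_two] at h3
  obtain ⟨P, hP, h4⟩ := mul_mem hv (show pm T ∈ V from ⟨T, (V0_mem hT).1, rfl⟩)
  refine ⟨P, hP, R, hR, ?_⟩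
  rw [pr_two, pr_three, h4]
  rcases h with h | h
  · left; rw [h, h3, mul_assoc]
  · right; rw [h, h3, mul_assoc v]; rfl

/-- the word `l` is not an involution, or it commutes with `b`, or it does not commute with its conjugate
by `c` -/
def tst (l : List ℕ) : Bool :=
  !weq (l ++ l) [] || (weq (l ++ [bP]) (bP :: l) || !weq (l ++ ([cP] ++ (l ++ [cP]))) ([cP] ++ (l ++ ([cP] ++ l))))

theorem okl_append {l m : List ℕ} (hl : okl l = true) (hm : okl m = true) : okl (l ++ m) = true := by
  unfold okl at hl hm ⊢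
  rw [List.all_append, hl, hm]
  rfl

theorem tst_spec {l : List ℕ} (hl : okl l = true) (h : tst l = true) (h2 : pr l * pr l = 1)
    (hc : pr l * (c * pr l * c) = c * pr l * c * pr l) : pr l * b = b * pr l := by
  unfold tst at h
  rw [Bool.or_eq_true, Bool.or_eq_true, Bool.not_eq_true'] at h
  rcases h with h | h | h
  · exfalso
    apply pr_ne (okl_append hl hl) rfl h
    rw [pr_append, h2, pr_nil]
  · have h1 := pr_of_weq (okl_append hl (okl1 permb)) (m := bP :: l) (by
      unfold okl at hl ⊢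
      rw [List.all_cons, hl, permb]; rfl) h
    rw [pr_append, pr_one, pr_cons] at h1
    exact h1
  · exfalso
    rw [Bool.not_eq_true'] at h
    have hg1 := okl1 permc
    apply pr_ne (okl_append hl (okl_append hg1 (okl_append hl hg1)))
      (okl_append hg1 (okl_append hl (okl_append hg1 hl))) h
    rw [pr_append, pr_append, pr_append, pr_append, pr_append, pr_append, pr_one]
    have : pr l * (pm cP * pr l * pm cP) = pm cP * pr l * pm cP * pr l := hc
    simpa only [mul_assoc] using this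

theorem tst1 : (VL.all fun P => W4.all fun Q => tst [P, Q, bP]) = true := by decide +kernel

theorem tst2 : (VL.all fun P => W4.all fun Q => tst [P, Q, cP, bP]) = true := by decide +kernel

/-- an element of `E - S`, `E` elementary abelian and normal in `SA`, commutes with `b` -/
theorem comm_b {E : Subgroup (Equiv.Perm GolayPt)} (hE : E ≤ SA) (hel : El E)
    (hN : ∀ s ∈ SA, ∀ x ∈ E, s * x * s⁻¹ ∈ E) {e : Equiv.Perm GolayPt} (he : e ∈ E) (heS : e ∉ S) :
    e * b = b * e := by
  have h1 := (hE he).resolve_left heS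
  have hc : e * (c * e * c) = c * e * c * e := by
    have h2 := hN c (S_le c_mem) e he
    rw [c_inv] at h2
    exact comm_of_El hel he h2
  have e2 := hel e he
  have ee : e = e * b * b := by rw [mul_assoc, bb, mul_one]
  obtain ⟨A, hA, B, hB, h3 | h3⟩ := mem_S4 h1
  · have e3 : e = pr [A, B, bP] := by
      have e4 : pr [A, B, bP] = pr [A, B] * b := by rw [pr_three, pr_two]; rfl
      rw [e4, ← h3]; exact ee
    have h4 := List.all_eq_true.1 (List.all_eq_true.1 tst1 A hA) B hB
    generalize hl : [A, B, bP] = l at e3 h4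
    have hok : okl l = true := by rw [← hl]; exact okl3 (pV hA) (pW (W4_sub hB)) permb
    rw [e3] at e2 hc ⊢
    exact tst_spec hok h4 e2 hc
  · have e3 : e = pr [A, B, cP, bP] := by
      have e4 : pr [A, B, cP, bP] = pr [A, B, cP] * b := by rw [pr_four, pr_three]; rfl
      rw [e4, ← h3]; exact ee
    have h4 := List.all_eq_true.1 (List.all_eq_true.1 tst2 A hA) B hB
    generalize hl : [A, B, cP, bP] = l at e3 h4
    have hok : okl l = true := by rw [← hl]; exact okl4 (pV hA) (pW (W4_sub hB)) permc permb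
    rw [e3] at e2 hc ⊢
    exact tst_spec hok h4 e2 hc

theorem self16 (E : Subgroup (Equiv.Perm GolayPt)) (hE : E ≤ SA) (hel : El E) (h16 : Nat.card E = 16)
    (hN : ∀ s ∈ SA, ∀ x ∈ E, s * x * s⁻¹ ∈ E) (hC : ∀ s ∈ SA, Cen s E → s ∈ E) : E = V ∨ b ∈ E := by
  by_cases hS : E ≤ S
  · rcases el16 E hS hel h16.ge with h | h
    · exact Or.inl h
    · right
      apply hC b b_SA
      rw [h]
      exact b_comm_W
  · right
    rw [SetLike.not_le_iff_exists] at hS
    obtain ⟨e, he, heS⟩ := hS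
    apply hC b b_SA
    intro x hx
    by_cases hxS : x ∈ S
    · have h1 : e * x ∉ S := by
        intro h
        apply heS
        have := mul_mem h (inv_mem hxS)
        rwa [mul_inv_cancel_right] at this
      have h2 := comm_b hE hel hN he heS
      have h3 := comm_b hE hel hN (mul_mem he hx) h1
      apply mul_left_cancel (a := e)
      calc e * (b * x) = (e * b) * x := by group
        _ = b * (e * x) := by rw [h2]; group
        _ = e * x * b := h3.symm
        _ = e * (x * b) := by group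
    · exact (comm_b hE hel hN hx hxS).symm

end Cfsg.Agent.KFacts.MM.OutS
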