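import Cfsg.Agent.KFacts.MM.OutAut
import Cfsg.Agent.OddHalf.MMOut.Sheet

/-!
# The sheet of `M22:2` from the facts on a Sylow 2-subgroup (helper969)

`SFacts SA` : the ambient facts on a Sylow 2-subgroup `SA` of `D22 = M22:2`.
`sheet_of` : `SFacts SA` gives the sheet over every `ι : A →* Perm GolayPt`, injective with range `D22`.
`sheet_mulAut` : the sheet for `A = MulAut K`, `K` isomorphic to `M22`.
-/

set_option autoImplicit false
set_option Elab.async false

namespace Cfsg.Agent.KFacts.MM.OutSheet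

open Cfsg Cfsg.Agent.KFacts.MM.El Cfsg.Agent.KFacts.MM.Data
open Cfsg.Agent.KFacts.MM.Sub Cfsg.Agent.KFacts.MM.Int
open Cfsg.Agent.KFacts.MM.El16 Cfsg.Agent.KFacts.MM.Cent Cfsg.Agent.KFacts.MM.OutP
open Cfsg.Agent.KFacts.MM.OutI
open Cfsg.Agent.J4Type.Aut22 (D22 mem_D22_iff M22_le_D22 mem_M22_iff_D22 card_D22)
open Cfsg.Agent.OddHalf.MM (Nrm Cen El)
open Cfsg.Agent.OddHalf.MMOut (Sheet)
open Subgroup

/-- the ambient facts on a Sylow 2-subgroup of `M22:2` -/
structure SFacts (SA : Subgroup (Equiv.Perm GolayPt)) : Prop where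
  le : SA ≤ D22
  two : IsPGroup 2 SA
  card : Nat.card SA = 256
  VS : V ≤ SA
  PS : P ≤ SA
  nV : ∀ s ∈ SA, Nrm s V
  nW : ∀ s ∈ SA, Nrm s W
  cen : ∀ y ∈ SA, (∀ s ∈ SA, s * y = y * s) → y = 1 ∨ y = z
  self16 : ∀ E : Subgroup (Equiv.Perm GolayPt), E ≤ SA → El E → Nat.card E = 16 →
    (∀ s ∈ SA, Nrm s E) → (∀ s ∈ SA, Cen s E → s ∈ E) → E = V ∨ b ∈ E
  bD : ∀ c ∈ D22, c * z = z * c → ∀ d ∈ D22, d * z = z * d →
    b * (c * d * c⁻¹ * d⁻¹) = c * d * c⁻¹ * d⁻¹ * b
  cD : ∀ v ∈ V, (∀ c ∈ D22, c * z = z * c → ∀ d ∈ D22, d * z = z * d →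
    v * (c * d * c⁻¹ * d⁻¹) = c * d * c⁻¹ * d⁻¹ * v) → v = 1 ∨ v = z
  el32 : ∀ E : Subgroup (Equiv.Perm GolayPt), E ≤ SA → El E → 32 ≤ Nat.card E → E = P
  stab : ∀ r ∈ W, (∀ k ∈ D22, Nrm k W → k * z = z * k → k * r = r * k) → r = 1 ∨ r = z
  nS : ∀ k ∈ D22, Nrm k SA → (∀ x ∈ V, x ∈ W → k * x = x * k) → ∃ v ∈ V, ∃ w ∈ P, k = v * w

section main

variable {A : Type*} [Group A] {ι : A →* Equiv.Perm GolayPt} {SA : Subgroup (Equiv.Perm GolayPt)}

/-- the elements of the commutator subgroup of `C(z)` -/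
theorem comm_ext (hin : Function.Injective ι) (hr : ι.range = D22) {z' : A} (hz : ι z' = z) {y : A} :
    (∀ x ∈ ⁅centralizer ({z'} : Set A), centralizer ({z'} : Set A)⁆, y * x = x * y) ↔
      ∀ c ∈ D22, c * z = z * c → ∀ d ∈ D22, d * z = z * d →
        ι y * (c * d * c⁻¹ * d⁻¹) = c * d * c⁻¹ * d⁻¹ * ι y := by
  constructor
  · intro h c hc hcz d hd hdz
    obtain ⟨c', rfl⟩ := lift hr hc
    obtain ⟨d', rfl⟩ := lift hr hd
    have h1 : c' ∈ centralizer ({z'} : Set A) := by
      rw [mem_centralizer_singleton_iff]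
      apply hin
      rw [map_mul, map_mul, hz]
      exact hcz
    have h2 : d' ∈ centralizer ({z'} : Set A) := by
      rw [mem_centralizer_singleton_iff]
      apply hin
      rw [map_mul, map_mul, hz]
      exact hdz
    have h3 := h _ (commutator_mem_commutator h1 h2)
    have h4 := congrArg ι h3
    rw [commutatorElement_def] at h4
    simp only [map_mul, map_inv] at h4
    exact h4
  · intro h x hx
    have h1 : ⁅centralizer ({z'} : Set A), centralizer ({z'} : Set A)⁆ ≤ centralizer ({y} : Set A) := by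
      rw [commutator_le]
      intro c hc d hd
      rw [mem_centralizer_singleton_iff] at hc hd
      rw [mem_centralizer_singleton_iff]
      apply hin
      rw [commutatorElement_def]
      simp only [map_mul, map_inv]
      refine (h (ι c) (mem_D hr c) ?_ (ι d) (mem_D hr d) ?_).symm
      · rw [← hz, ← map_mul, ← map_mul, hc]
      · rw [← hz, ← map_mul, ← map_mul, hd]
    have h2 := h1 hx
    rw [mem_centralizer_singleton_iff] at h2
    exact h2.symm

theorem card_map' (hin : Function.Injective ι) (E : Subgroup A) : Nat.card (E.map ι) = Nat.card E :=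
  (Nat.card_congr (E.equivMapOfInjective ι hin).toEquiv).symm

theorem map_le {E : Subgroup A} {U : Subgroup (Equiv.Perm GolayPt)} (h : E ≤ U.comap ι) : E.map ι ≤ U := by
  rintro _ ⟨x, hx, rfl⟩
  exact h hx

theorem el_map {E : Subgroup A} (h : El E) : El (E.map ι) := by
  rintro _ ⟨x, hx, rfl⟩
  rw [← map_mul, h x hx, map_one]

/-- the sheet over `ι` -/
theorem sheet_of (hin : Function.Injective ι) (hr : ι.range = D22) (h : SFacts SA) {z' : A}
    (hz : ι z' = z) :
    Sheet ((Spor.M22).comap ι) (SA.comap ι) (V.comap ι) (W.comap ι) (P.comap ι) z' where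
  idx := idx hr
  two := h.two.comap_of_injective ι hin
  max := by
    intro Q hQ hle
    have : Finite A := Finite.of_injective ι hin
    symm
    apply eq_of_le_of_card_ge hle
    obtain ⟨n, hn⟩ := IsPGroup.iff_card.1 hQ
    have hA : Nat.card A = 2 ^ 8 * 3465 := by
      have h1 := Nat.card_congr (MonoidHom.ofInjective hin).toEquiv
      rw [h1, hr, card_D22]
      norm_num
    have h1 : 2 ^ n ∣ 2 ^ 8 * 3465 := by
      rw [← hn, ← hA]
      exact card_subgroup_dvd_card Q
    have h2 : 2 ^ n ∣ 2 ^ 8 := by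
      apply Nat.Coprime.dvd_of_dvd_mul_right _ h1
      exact Nat.Coprime.pow_left n (by norm_num)
    rw [hn, card_comap hin hr h.le, h.card]
    exact Nat.le_of_dvd (by norm_num) h2
  cardSA := by rw [card_comap hin hr h.le, h.card]
  VK := fun x hx => V_le22 hx
  WK := fun x hx => W_le22 hx
  VS := fun x hx => h.VS hx
  PS := fun x hx => h.PS hx
  WP := fun x hx => W_le_P hx
  PK := fun w hw hK => PK hw hK
  cardV := by rw [card_comap hin hr V_leD, cardV]
  cardW := by rw [card_comap hin hr W_leD, cardW]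
  cardP := by rw [card_comap hin hr P_le, cardP]
  cardVW := by
    rw [← comap_inf, card_comap hin hr (inf_le_left.trans V_leD), cardVW]
  elV := fun x hx => hin (by rw [map_mul, map_one]; exact elV _ hx)
  elP := fun x hx => hin (by rw [map_mul, map_one]; exact elP _ hx)
  nV := fun s hs => (nrm_comap hr V_leD s).2 (h.nV _ hs)
  nW := fun s hs => (nrm_comap hr W_leD s).2 (h.nW _ hs)
  zV := by rw [mem_comap, hz]; exact zV
  zW := by rw [mem_comap, hz]; exact zW
  z1 := by
    rintro rfl
    rw [map_one] at hz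
    exact z1 hz.symm
  cVW := by
    intro v hv hvW w hw e
    exact cVW _ hv hvW _ hw (by rw [← map_mul, e, map_mul])
  cen := by
    intro y hy hc
    rcases h.cen (ι y) hy (by
      intro s hs
      obtain ⟨s', rfl⟩ := lift hr (h.le hs)
      rw [← map_mul, ← map_mul, hc s' hs]) with h1 | h1
    · left
      apply hin
      rw [h1, map_one]
    · right
      apply hin
      rw [h1, hz]
  inv := by
    intro k hk h2 h1
    obtain ⟨g, hg, e⟩ := InvM22.inv22 (ι k) hk (by rw [← map_mul, h2, map_one])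
      (fun e => h1 (hin (by rw [e, map_one])))
    obtain ⟨g', rfl⟩ := lift22 hr hg
    refine ⟨g', hin ?_⟩
    rw [map_mul, map_mul, map_inv, hz]
    exact e
  invO := by
    intro a ha h2
    obtain ⟨g, hg, w, hw, hwW, e⟩ := OutT.invO (mem_D hr a) ha (by rw [← map_mul, h2, map_one])
    obtain ⟨g', rfl⟩ := lift22 hr hg
    obtain ⟨w', rfl⟩ := lift hr (P_le hw)
    refine ⟨g', w', hw, hwW, hin ?_⟩
    rw [map_mul, map_mul, map_inv]
    exact e
  trV := by
    intro v hv h1
    obtain ⟨k, hk, hN, e⟩ := Tr.trV (ι v) hv (fun e => h1 (hin (by rw [e, map_one])))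
    obtain ⟨k', rfl⟩ := lift22 hr hk
    refine ⟨k', (nrm_comap hr V_leD k').2 hN, hin ?_⟩
    rw [map_mul, map_mul, map_inv, hz]
    exact e
  trW := by
    intro v hv h1
    obtain ⟨k, hk, hN, e⟩ := Tr.trW (ι v) hv (fun e => h1 (hin (by rw [e, map_one])))
    obtain ⟨k', rfl⟩ := lift22 hr hk
    refine ⟨k', (nrm_comap hr W_leD k').2 hN, hin ?_⟩
    rw [map_mul, map_mul, map_inv, hz]
    exact e
  CV := fun k hk => CV ((mem_D22_iff _).1 (mem_D hr k)).1 ((cen_comap hin hr V_leD k).1 hk)
  CW := fun k hk => CW' (mem_D hr k) ((cen_comap hin hr W_leD k).1 hk)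
  self16 := by
    obtain ⟨b', hb⟩ := lift hr b_D22
    refine ⟨b', ?_, ?_, ?_, ?_, ?_⟩
    · rw [mem_comap, hb]
      exact h.PS b_mem
    · rintro rfl
      rw [map_one] at hb
      exact b_not_M22 (hb ▸ one_mem _)
    · rintro rfl
      rw [hz] at hb
      exact b_not_M22 (hb ▸ V_le22 zV)
    · rw [comm_ext hin hr hz, hb]
      exact h.bD
    · intro E hE hel h16 hn hc
      have hE' : E.map ι ≤ SA := map_le hE
      have h1 : (E.map ι).comap ι = E := comap_map_eq_self_of_injective hin E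
      rcases h.self16 (E.map ι) hE' (el_map hel) (by rw [card_map' hin, h16]) (by
        intro s hs
        obtain ⟨s', rfl⟩ := lift hr (h.le hs)
        rw [← nrm_comap hr (hE'.trans h.le), h1]
        exact hn s' hs) (by
        intro s hs hsc
        obtain ⟨s', rfl⟩ := lift hr (h.le hs)
        rw [← cen_comap hin hr (hE'.trans h.le), h1] at hsc
        exact ⟨s', hc s' hs hsc, rfl⟩) with h2 | h2
      · left
        rw [← h1, h2]
      · right
        obtain ⟨x, hx, e⟩ := h2
        rw [← hb] at e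
        rw [← hin e]
        exact hx
  cD := by
    intro v hv hc
    rw [comm_ext hin hr hz] at hc
    rcases h.cD (ι v) hv hc with h1 | h1
    · left
      apply hin
      rw [h1, map_one]
    · right
      apply hin
      rw [h1, hz]
  el32 := by
    intro E hE hel h32
    have h1 : (E.map ι).comap ι = E := comap_map_eq_self_of_injective hin E
    rw [← h1, h.el32 (E.map ι) (map_le hE) (el_map hel) (by rwa [card_map' hin])]
  sq := by
    intro r hr' hk
    rcases Tr.sq (ι r) hr' (by
      intro k hkM hN hkz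
      obtain ⟨k', rfl⟩ := lift22 hr hkM
      have h1 := hk k' ((nrm_comap hr V_leD k').2 hN) (hin (by rw [map_mul, map_mul, hz]; exact hkz))
      rcases h1 with h1 | h1
      · left
        rw [← map_inv, ← map_mul, ← map_mul, h1]
      · right
        rw [← map_inv, ← map_mul, ← map_mul, h1, map_mul, hz]) with h1 | h1
    · left
      apply hin
      rw [h1, map_one]
    · right
      apply hin
      rw [h1, hz]
  stab := by
    intro r hr' hk
    rcases h.stab (ι r) hr' (by
      intro k hkD hN hkz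
      obtain ⟨k', rfl⟩ := lift hr hkD
      have h1 := hk k' ((nrm_comap hr W_leD k').2 hN) (hin (by rw [map_mul, map_mul, hz]; exact hkz))
      rw [← map_mul, ← map_mul, h1]) with h1 | h1
    · left
      apply hin
      rw [h1, map_one]
    · right
      apply hin
      rw [h1, hz]
  nS := by
    intro k hN hC
    obtain ⟨v, hv, w, hw, e⟩ := h.nS (ι k) (mem_D hr k) ((nrm_comap hr h.le k).1 hN) (by
      intro x hxV hxW
      obtain ⟨x', rfl⟩ := lift hr (V_leD hxV)
      rw [← map_mul, ← map_mul, hC x' hxV hxW])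
    obtain ⟨v', rfl⟩ := lift hr (V_leD hv)
    obtain ⟨w', rfl⟩ := lift hr (P_le hw)
    exact ⟨v', hv, w', hw, hin (by rw [e, map_mul])⟩
  del := by
    obtain ⟨d, hd, h1, h2, h3⟩ := Tr.del
    obtain ⟨d', rfl⟩ := lift22 hr hd
    refine ⟨d', (nrm_comap hr V_leD d').2 h1, (nrm_comap hr W_leD d').2 h2, ?_⟩
    intro e
    apply h3
    rw [← hz, ← map_inv, ← map_mul, ← map_mul, e]
  zD := by
    obtain ⟨v, hv, w, hw, e⟩ := z_comm
    obtain ⟨v', rfl⟩ := lift hr (V_leD hv)
    obtain ⟨w', rfl⟩ := lift hr (W_leD hw)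
    have hvz : v' ∈ centralizer ({z'} : Set A) := by
      rw [mem_centralizer_singleton_iff]
      apply hin
      rw [map_mul, map_mul, hz]
      exact z_central _ (V_le hv)
    have hwz : w' ∈ centralizer ({z'} : Set A) := by
      rw [mem_centralizer_singleton_iff]
      apply hin
      rw [map_mul, map_mul, hz]
      exact z_central _ (W_le hw)
    have h1 : v' * w' * v'⁻¹ * w'⁻¹ ∈ ⁅centralizer ({z'} : Set A), centralizer ({z'} : Set A)⁆ :=
      commutator_mem_commutator hvz hwz
    have h2 : z' = v' * w' * v'⁻¹ * w'⁻¹ := by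
      apply hin
      rw [hz, map_mul, map_mul, map_mul, map_inv, map_inv]
      exact e.symm
    rwa [← h2] at h1
  s5 := s5 hr
  invL := by
    intro a hN hP h2
    obtain ⟨w, hw, k1, k2, k3, k4, b0, hb0, hb1, hb2⟩ := OutM.invL (mem_D hr a)
      ((nrm_comap hr W_leD a).1 hN) hP (by rw [← map_mul]; exact h2)
    obtain ⟨w', rfl⟩ := lift22 hr hw
    obtain ⟨b', rfl⟩ := lift hr (P_le hb0)
    refine ⟨w', hw, hin (by rw [map_mul, map_one]; exact k1), (nrm_comap hr W_leD w').2 k2, ?_, ?_,
      b', hb0, hb1, hin (by rw [map_mul, map_mul]; exact hb2)⟩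
    · rw [mem_comap, map_mul, map_inv]
      exact k3
    · intro x hx e
      obtain ⟨u, hu, e'⟩ := k4 (ι x) hx (by rw [← map_mul, e, map_mul])
      obtain ⟨u', rfl⟩ := lift hr (W_leD hu)
      refine ⟨u', hu, hin ?_⟩
      rw [map_mul, map_mul, map_mul, map_inv, map_inv]
      exact e'
  odd := by
    intro u hu hW
    obtain ⟨d, hd, k1, k2, k3, k4⟩ := OutM.odd hu hW
    obtain ⟨d', rfl⟩ := lift22 hr hd
    refine ⟨d', (nrm_comap hr W_leD d').2 k1, ?_, hin (by rw [map_mul, map_mul]; exact k3), ?_⟩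
    · rwa [orderOf_injective ι hin] at k2
    · intro x hx e
      rcases k4 (ι x) hx (by rw [← map_mul, e, map_mul]) with h1 | h1
      · left
        apply hin
        rw [h1, map_one]
      · right
        exact hin h1
  five := by
    obtain ⟨r, hr1, κ, hκ, k1, k2, k3, k4⟩ := OutM.five
    obtain ⟨r', rfl⟩ := lift22 hr hr1
    obtain ⟨κ', rfl⟩ := lift22 hr hκ
    refine ⟨r', κ', ?_, (nrm_comap hr W_leD r').2 k2, (nrm_comap hr W_leD κ').2 k3, hin ?_⟩
    · rwa [orderOf_injective ι hin] at k1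
    · rw [map_mul, map_mul, map_mul, map_inv]
      exact k4

/-- the sheet for `A = MulAut K` -/
theorem sheet_mulAut (h : SFacts SA) {K : Type*} [Group K] (hK : Spor.IsoM22 K) :
    ∃ (S' V' W' P' : Subgroup (MulAut K)) (z' : MulAut K),
      Sheet (MulAut.conj : K →* MulAut K).range S' V' W' P' z' := by
  obtain ⟨ι, hin, hr, hc⟩ := OutAut.exists_iota hK
  obtain ⟨z', hz⟩ := lift hr (V_leD zV)
  rw [← hc]
  exact ⟨_, _, _, _, _, sheet_of hin hr h hz⟩

end main

end Cfsg.Agent.KFacts.MM.OutSheet
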