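import Cfsg.Agent.KFacts.MM.OutP
import Cfsg.Agent.KFacts.MM.DataT
import Cfsg.Agent.KFacts.MM.InvM22
import Cfsg.Agent.KFacts.MM.Tr

/-!
# `M22:2`: the outer involutions, the action of `N(W)` on the five tetrads (helper969)

Ambient forms of the fields `idx`, `invO`, `invL`, `odd`, `five`, `s5` of `Cfsg.Agent.OddHalf.MMOut.Sheet`.
-/

set_option autoImplicit false
set_option Elab.async false

namespace Cfsg.Agent.KFacts.MM.OutT

open Cfsg Cfsg.Agent.KFacts.MM.El Cfsg.Agent.KFacts.MM.Data Cfsg.Agent.KFacts.MM.DataO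
open Cfsg.Agent.KFacts.MM.DataT Cfsg.Agent.KFacts.MM.Sub Cfsg.Agent.KFacts.MM.Int
open Cfsg.Agent.KFacts.MM.El16 Cfsg.Agent.KFacts.MM.Cent Cfsg.Agent.KFacts.MM.OutP
open Cfsg.Agent.SporadicA.GolayBase Cfsg.Agent.SporadicA.GolayPerm
open Cfsg.Agent.SporadicStructure.M24El
open Cfsg.Agent.J4Type.Aut22 (D22 mem_D22_iff M22_le_D22 mem_M22_iff_D22)
open Cfsg.Agent.OddHalf.MM (Nrm Cen El)

/-! ### Elements outside `M22` -/

theorem swap_of {g : Equiv.Perm GolayPt} (hg : g ∈ D22) (h : g ∉ Spor.M22) :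
    g none = some 0 ∧ g (some 0) = none := by
  rw [SporadicA.MathieuRecog.mem_M22_iff] at h
  have h1 := (mem_D22_iff g).1 hg
  rcases h1.2 with h3 | h3
  · exact absurd ⟨h1.1, h3⟩ h
  · exact h3

theorem isPerm_of_ok {P : ℕ} (h : ok P = true) : isPerm P = true := (ok_iff.1 h).1

theorem pm_mem {P : ℕ} (h : ok P = true) : pm P ∈ M24 := pm_mem_M24 (ok_iff.1 h).1 (ok_iff.1 h).2

theorem pt_zero : pt 0 = (some 0 : GolayPt) := by
  unfold pt
  simp

theorem pm_pt {P : ℕ} (h : isPerm P = true) {i : ℕ} (hi : i < 24) : pm P (pt i) = pt (papp P i) := by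
  rw [← pt_val, val_pm h hi]

theorem P1_fix : (pts.any fun i => Nat.beq (papp J4.M24InvolData.P1 i) i) = true := by
  decide +kernel

/-- an involution of `M24` without fixed points is conjugate to `el P2` -/
theorem conj_P2 {u : Equiv.Perm GolayPt} (hu : u ∈ M24) (h2 : u * u = 1) (hf : ∀ p, u p ≠ p) :
    ∃ g ∈ M24, g * u * g⁻¹ = ((el J4.M24InvolData.P2 : M24) : Equiv.Perm GolayPt) := by
  have h1 : u ≠ 1 := by
    rintro rfl
    exact hf none rfl
  obtain ⟨g, hg | hg⟩ := J4.M24Invol.invol_conj ⟨u, hu⟩ (Subtype.ext h2)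
    (fun e => h1 (congrArg Subtype.val e))
  · exfalso
    have hg' : (g : Equiv.Perm GolayPt) * u * (g : Equiv.Perm GolayPt)⁻¹ =
      ((el J4.M24InvolData.P1 : M24) : Equiv.Perm GolayPt) := congrArg Subtype.val hg
    obtain ⟨i, hi, h3⟩ := List.any_eq_true.1 P1_fix
    have h4 := pm_pt (isPerm_of_ok J4.M24Invol.ok_P1) (lt_of_mem_pts hi)
    rw [Nat.eq_of_beq_eq_true h3, ← Cfsg.Agent.KFacts.MM.El.coe_el J4.M24Invol.ok_P1, ← hg'] at h4
    apply hf ((g : Equiv.Perm GolayPt)⁻¹ (pt i))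
    have h5 : (g : Equiv.Perm GolayPt) (u ((g : Equiv.Perm GolayPt)⁻¹ (pt i))) = pt i := h4
    rw [Equiv.Perm.eq_inv_iff_eq]
    exact h5
  · exact ⟨g, g.2, congrArg Subtype.val hg⟩

/-- the test for the tables -/
def row (Q i P : ℕ) : Bool := ok P && (weq [P, Q] [Q, P] && Nat.beq (papp P 23) i)

/-- adjusting the conjugating element -/
theorem adj {a x : Equiv.Perm GolayPt} {Q : ℕ} {L : List ℕ} (hQ : isPerm Q = true)
    (h23 : papp Q 23 = 0) (hL : (pts.all fun i => Nat.beq (papp Q i) i || L.any (row Q i)) = true)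
    (hx : x ∈ M24) (e : a = x * pm Q * x⁻¹) (h1 : a none = some 0) :
    ∃ g ∈ Spor.M22, a = g * pm Q * g⁻¹ := by
  have hlt := idx_lt (x⁻¹ none)
  have e1 : a * x = x * pm Q := by rw [e]; group
  have hQp : pm Q (x⁻¹ none) = x⁻¹ (some 0) := by
    have h3 : x (pm Q (x⁻¹ none)) = a (x (x⁻¹ none)) := by
      show (x * pm Q) (x⁻¹ none) = (a * x) (x⁻¹ none)
      rw [e1]
    rw [show x (x⁻¹ none) = none from x.apply_symm_apply none, h1] at h3
    rw [← h3]
    exact (x.symm_apply_apply _).symm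
  have hne : papp Q (idx (x⁻¹ none)) ≠ idx (x⁻¹ none) := by
    intro h
    have h3 : pm Q (x⁻¹ none) = x⁻¹ none := by
      have h4 := pm_pt hQ hlt
      rw [h, pt_idx] at h4
      exact h4
    rw [hQp] at h3
    have := x⁻¹.injective h3
    cases this
  have h4 := List.all_eq_true.1 hL _ (mem_pts hlt)
  rw [Bool.or_eq_true] at h4
  rcases h4 with h4 | h4
  · exact absurd (Nat.eq_of_beq_eq_true h4) hne
  obtain ⟨P, -, hP⟩ := List.any_eq_true.1 h4
  unfold row at hP
  rw [Bool.and_eq_true, Bool.and_eq_true] at hP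
  obtain ⟨hok, hw, hv⟩ := hP
  have hv := Nat.eq_of_beq_eq_true hv
  have hp := isPerm_of_ok hok
  have hc := pr_of_weq (okl2 hp hQ) (okl2 hQ hp) hw
  rw [pr_two, pr_two] at hc
  have hPn : pm P none = x⁻¹ none := by
    have h6 : pm P (pt 23) = pt (papp P 23) := pm_pt hp (by norm_num)
    rw [hv, pt_idx] at h6
    exact h6
  have hQn : pm Q none = some 0 := by
    have h6 : pm Q (pt 23) = pt (papp Q 23) := pm_pt hQ (by norm_num)
    rw [h23, pt_zero] at h6
    exact h6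
  have hP0 : pm P (some 0) = x⁻¹ (some 0) := by
    calc pm P (some 0) = pm P (pm Q none) := by rw [hQn]
      _ = (pm P * pm Q) none := rfl
      _ = (pm Q * pm P) none := by rw [hc]
      _ = pm Q (pm P none) := rfl
      _ = x⁻¹ (some 0) := by rw [hPn, hQp]
  refine ⟨x * pm P, (SporadicA.MathieuRecog.mem_M22_iff _).2 ⟨mul_mem hx (pm_mem hok), ?_, ?_⟩, ?_⟩
  · rw [Equiv.Perm.mul_apply, hPn]
    exact x.apply_symm_apply _
  · rw [Equiv.Perm.mul_apply, hP0]
    exact x.apply_symm_apply _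
  · have h3 : (x * pm P) * pm Q * (x * pm P)⁻¹ = x * (pm P * pm Q * (pm P)⁻¹) * x⁻¹ := by group
    rw [h3, hc, mul_assoc (pm Q) (pm P), mul_inv_cancel, mul_one, e]

theorem ok_b : ok bP = true := by decide +kernel
theorem ok_u : ok u2P = true := by decide +kernel
theorem tab1 : (pts.all fun i => Nat.beq (papp bP i) i || c1L.any (row bP i)) = true := by
  decide +kernel
theorem tab2 : (pts.all fun i => Nat.beq (papp u2P i) i || c2L.any (row u2P i)) = true := by
  decide +kernel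

theorem out_of {Q : ℕ} (hQ : Q ∈ PL) (h : WL.all (fun R => !weq [Q] [R]) = true) : pm Q ∉ W := by
  rintro ⟨R, hR, h1⟩
  have h2 := List.all_eq_true.1 h R hR
  rw [Bool.not_eq_true'] at h2
  apply pr_ne (okl1 (pP hQ)) (okl1 (pW hR)) h2
  rw [pr_one, pr_one, h1]

/-- every involution of `M22:2` outside `M22` is conjugate to an element of `P - W` -/
theorem invO {a : Equiv.Perm GolayPt} (ha : a ∈ D22) (hK : a ∉ Spor.M22) (h2 : a * a = 1) :
    ∃ g ∈ Spor.M22, ∃ w ∈ P, w ∉ W ∧ a = g * w * g⁻¹ := by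
  have h1 := swap_of ha hK
  have hM := ((mem_D22_iff a).1 ha).1
  have hne : a ≠ 1 := by
    rintro rfl
    exact hK (one_mem _)
  have hinv : ∀ {g k x y c : Equiv.Perm GolayPt}, g * x * g⁻¹ = c → k * y * k⁻¹ = c →
      x = (g⁻¹ * k) * y * (g⁻¹ * k)⁻¹ := by
    intro g k x y c h h'
    calc x = g⁻¹ * (g * x * g⁻¹) * g := by group
      _ = g⁻¹ * (k * y * k⁻¹) * g := by rw [h, h']
      _ = _ := by group
  by_cases hf : ∃ p, a p = p
  · obtain ⟨p, hp⟩ := hf
    obtain ⟨g, hg, e⟩ := InvM22.conj_P1 hM h2 hne hp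
    have hb : pm bP ∈ M24 := pm_mem ok_b
    have hb3 : pm bP (pt 1) = pt 1 ∨ pm bP (pt 6) = pt 6 ∨ pm bP (pt 8) = pt 8 := by
      have h3 : papp bP 1 = 1 ∨ papp bP 6 = 6 ∨ papp bP 8 = 8 := by decide +kernel
      rcases h3 with h3 | h3 | h3
      · left
        rw [pm_pt permb (by norm_num), h3]
      · right; left
        rw [pm_pt permb (by norm_num), h3]
      · right; right
        rw [pm_pt permb (by norm_num), h3]
    have hb1 : pm bP ≠ 1 := by
      intro h
      apply b_not_M22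
      show pm bP ∈ Spor.M22
      rw [h]
      exact one_mem _
    obtain ⟨k, hk, e'⟩ : ∃ k ∈ M24, k * pm bP * k⁻¹ =
        ((el J4.M24InvolData.P1 : M24) : Equiv.Perm GolayPt) := by
      rcases hb3 with h3 | h3 | h3
      · exact InvM22.conj_P1 hb bb hb1 h3
      · exact InvM22.conj_P1 hb bb hb1 h3
      · exact InvM22.conj_P1 hb bb hb1 h3
    obtain ⟨y, hy, e2⟩ := adj (isPerm_of_ok ok_b) (by decide +kernel) tab1
      (mul_mem (inv_mem hg) hk) (hinv e e') h1.1
    exact ⟨y, hy, pm bP, b_mem, out_of (by decide +kernel) (by decide +kernel), e2⟩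
  · obtain ⟨g, hg, e⟩ := conj_P2 hM h2 (fun p hp => hf ⟨p, hp⟩)
    have hu : u2P ∈ PL := by decide +kernel
    have hfix : (pts.all fun i => !Nat.beq (papp u2P i) i) = true := by decide +kernel
    obtain ⟨k, hk, e'⟩ := conj_P2 (pm_mem ok_u) (elP _ ⟨u2P, hu, rfl⟩) (by
      intro p hp
      have h3 := List.all_eq_true.1 hfix (idx p) (mem_pts (idx_lt p))
      rw [Bool.not_eq_true'] at h3
      have h4 := pm_pt (isPerm_of_ok ok_u) (idx_lt p)
      rw [pt_idx, hp] at h4
      have h5 : idx p = papp u2P (idx p) := by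
        conv_lhs => rw [h4]
        exact idx_pt (papp_lt (isPerm_of_ok ok_u) (idx_lt p))
      rw [← h5, Nat.beq_refl] at h3
      cases h3)
    obtain ⟨y, hy, e2⟩ := adj (isPerm_of_ok ok_u) (by decide +kernel) tab2
      (mul_mem (inv_mem hg) hk) (hinv e e') h1.1
    exact ⟨y, hy, pm u2P, ⟨u2P, hu, rfl⟩, out_of hu (by decide +kernel), e2⟩

end Cfsg.Agent.KFacts.MM.OutT
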