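import Cfsg.Agent.KFacts.MM.El
import Cfsg.Agent.KFacts.MM.Data
import Cfsg.Agent.OddHalf.MM.Sheet

/-!
# The subgroups `V`, `W`, `S` of `M22`

`V`, `W` elementary abelian of order 16, `S = VW⟨c⟩` of order 128, as subgroups of the group of permutations
of the 24 points.
-/

set_option autoImplicit false

namespace Cfsg.Agent.KFacts.MM.Sub

open Cfsg El Data Cfsg.Agent.SporadicA.GolayBase Cfsg.Agent.SporadicA.GolayPerm
open Cfsg.Agent.OddHalf.MM (Nrm Cen El)

/-- closed under products, of exponent 2, containing the identity -/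
def chk (L : List ℕ) : Bool :=
  okl L && ((L.all fun P => weq [P, P] []) &&
    ((L.all fun P => L.all fun Q => L.any fun R => weq [P, Q] [R]) && L.any fun P => weq [P] []))

section chk

variable {L : List ℕ}

theorem okl_of (h : chk L = true) {P : ℕ} (hP : P ∈ L) : isPerm P = true := by
  unfold chk at h
  rw [Bool.and_eq_true] at h
  exact List.all_eq_true.1 h.1 P hP

theorem okl1 {P : ℕ} (h : isPerm P = true) : okl [P] = true := by
  unfold okl
  rw [List.all_cons, h]; rfl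

theorem okl2 {P Q : ℕ} (h : isPerm P = true) (h' : isPerm Q = true) : okl [P, Q] = true := by
  unfold okl
  rw [List.all_cons, List.all_cons, h, h']; rfl

theorem okl3 {P Q R : ℕ} (h : isPerm P = true) (h' : isPerm Q = true) (h'' : isPerm R = true) :
    okl [P, Q, R] = true := by
  unfold okl
  rw [List.all_cons, List.all_cons, List.all_cons, h, h', h'']; rfl

theorem okl4 {P Q R T : ℕ} (h : isPerm P = true) (h' : isPerm Q = true) (h'' : isPerm R = true)
    (h3 : isPerm T = true) : okl [P, Q, R, T] = true := by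
  unfold okl
  rw [List.all_cons, List.all_cons, List.all_cons, List.all_cons, h, h', h'', h3]; rfl

theorem pr_two (P Q : ℕ) : pr [P, Q] = pm P * pm Q := by
  rw [pr_cons, pr_one]

theorem pr_three (P Q R : ℕ) : pr [P, Q, R] = pm P * pm Q * pm R := by
  rw [pr_cons, pr_two, mul_assoc]

theorem pr_four (P Q R T : ℕ) : pr [P, Q, R, T] = pm P * pm Q * pm R * pm T := by
  rw [pr_cons, pr_three, mul_assoc, mul_assoc, mul_assoc]

theorem sq_of (h : chk L = true) {P : ℕ} (hP : P ∈ L) : pm P * pm P = 1 := by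
  have h0 := okl_of h hP
  unfold chk at h
  rw [Bool.and_eq_true, Bool.and_eq_true] at h
  have h1 := pr_of_weq (okl2 h0 h0) rfl (List.all_eq_true.1 h.2.1 P hP)
  rwa [pr_two, pr_nil] at h1

end chk

/-- the subgroup of the elements of a list -/
def ofList (L : List ℕ) (h : chk L = true) : Subgroup (Equiv.Perm GolayPt) where
  carrier := {g | ∃ P ∈ L, pm P = g}
  mul_mem' := by
    rintro _ _ ⟨P, hP, rfl⟩ ⟨Q, hQ, rfl⟩
    have hp := okl_of h hP
    have hq := okl_of h hQ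
    have h' := h
    unfold chk at h'
    rw [Bool.and_eq_true, Bool.and_eq_true, Bool.and_eq_true] at h'
    have h1 := List.all_eq_true.1 (List.all_eq_true.1 h'.2.2.1 P hP) Q hQ
    obtain ⟨R, hR, h2⟩ := List.any_eq_true.1 h1
    have h3 := pr_of_weq (okl2 hp hq) (okl1 (okl_of h hR)) h2
    rw [pr_two, pr_one] at h3
    exact ⟨R, hR, h3.symm⟩
  one_mem' := by
    have h' := h
    unfold chk at h'
    rw [Bool.and_eq_true, Bool.and_eq_true, Bool.and_eq_true] at h'
    obtain ⟨R, hR, h2⟩ := List.any_eq_true.1 h'.2.2.2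
    have h3 := pr_of_weq (okl1 (okl_of h hR)) rfl h2
    rw [pr_one, pr_nil] at h3
    exact ⟨R, hR, h3⟩
  inv_mem' := by
    rintro _ ⟨P, hP, rfl⟩
    refine ⟨P, hP, ?_⟩
    exact eq_inv_of_mul_eq_one_left (sq_of h hP)

theorem mem_ofList {L : List ℕ} {h : chk L = true} {g : Equiv.Perm GolayPt} :
    g ∈ ofList L h ↔ ∃ P ∈ L, pm P = g := Iff.rfl

theorem el_ofList {L : List ℕ} (h : chk L = true) : El (ofList L h) := by
  rintro _ ⟨P, hP, rfl⟩
  exact sq_of h hP

theorem card_ofList {L : List ℕ} (h : chk L = true) (hd : dist (L.map fun P => [P]) = true) :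
    Nat.card (ofList L h) = L.length := by
  rw [← List.length_map (fun P => [P])]
  refine card_of_list ?_ hd (ofList L h : Set (Equiv.Perm GolayPt)) ?_
  · intro l hl
    obtain ⟨P, hP, rfl⟩ := List.mem_map.1 hl
    exact okl1 (okl_of h hP)
  · intro g
    rw [SetLike.mem_coe, mem_ofList]
    constructor
    · rintro ⟨P, hP, rfl⟩
      exact ⟨[P], List.mem_map.2 ⟨P, hP, rfl⟩, pr_one P⟩
    · rintro ⟨l, hl, rfl⟩
      obtain ⟨P, hP, rfl⟩ := List.mem_map.1 hl
      exact ⟨P, hP, (pr_one P).symm⟩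

/-- the word `l` conjugates the elements of `L` to elements of `L` -/
def cj (l : List ℕ) (L : List ℕ) : Bool := L.all fun P => L.any fun R => weq (l ++ [P]) (R :: l)

theorem conj_mem {L : List ℕ} {h : chk L = true} {l : List ℕ} (hl : okl l = true) (hc : cj l L = true)
    {x : Equiv.Perm GolayPt} (hx : x ∈ ofList L h) : pr l * x * (pr l)⁻¹ ∈ ofList L h := by
  obtain ⟨P, hP, rfl⟩ := hx
  obtain ⟨R, hR, h2⟩ := List.any_eq_true.1 (List.all_eq_true.1 hc P hP)
  have h3 := pr_of_weq (l := l ++ [P]) (m := R :: l) (by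
    unfold okl at hl ⊢
    rw [List.all_append, hl, List.all_cons, okl_of h hP]; rfl) (by
    unfold okl at hl ⊢
    rw [List.all_cons, hl, okl_of h hR]; rfl) h2
  rw [pr_append, pr_one, pr_cons] at h3
  rw [h3, mul_inv_cancel_right]
  exact ⟨R, hR, rfl⟩

/-- it is enough to conjugate into `V` -/
theorem nrm_of {G : Type*} [Group G] [Finite G] {V : Subgroup G} {g : G}
    (h : ∀ x ∈ V, g * x * g⁻¹ ∈ V) : Nrm g V := by
  have h1 : V.map (MulAut.conj g).toMonoidHom = V := by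
    apply Subgroup.eq_of_le_of_card_ge
    · rintro _ ⟨x, hx, rfl⟩
      exact h x hx
    · rw [Subgroup.card_map_of_injective (MulAut.conj g).injective]
  intro x
  refine ⟨fun hx => ?_, h x⟩
  rw [← h1] at hx
  obtain ⟨y, hy, hxy⟩ := hx
  have h2 : g * y * g⁻¹ = g * x * g⁻¹ := hxy
  have h3 : y = x := mul_left_cancel (mul_right_cancel h2)
  rw [← h3]
  exact hy

/-! ### The data -/

theorem chkV : chk VL = true := by decide +kernel

theorem chkW : chk WL = true := by decide +kernel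

/-- `V` -/
def V : Subgroup (Equiv.Perm GolayPt) := ofList VL chkV

/-- `W` -/
def W : Subgroup (Equiv.Perm GolayPt) := ofList WL chkW

/-- `z` -/
noncomputable def z : Equiv.Perm GolayPt := pm zP

/-- `c` -/
noncomputable def c : Equiv.Perm GolayPt := pm cP

theorem permc : isPerm cP = true := by decide +kernel
theorem permz : isPerm zP = true := by decide +kernel

theorem pV {P : ℕ} (h : P ∈ VL) : isPerm P = true := okl_of chkV h
theorem pW {P : ℕ} (h : P ∈ WL) : isPerm P = true := okl_of chkW h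

theorem cardV : Nat.card V = 16 := card_ofList chkV (by decide +kernel)

theorem cardW : Nat.card W = 16 := card_ofList chkW (by decide +kernel)

theorem elV : El V := el_ofList chkV

theorem elW : El W := el_ofList chkW

theorem cc : c * c = 1 := by
  have h := pr_of_weq (l := [cP, cP]) (m := []) (by decide +kernel) rfl (by decide +kernel)
  rwa [pr_two, pr_nil] at h

theorem cV : ∀ x ∈ V, c * x * c⁻¹ ∈ V := by
  intro x hx
  have := conj_mem (l := [cP]) (by decide +kernel) (by decide +kernel) hx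
  rwa [pr_one] at this

theorem cW : ∀ x ∈ W, c * x * c⁻¹ ∈ W := by
  intro x hx
  have := conj_mem (l := [cP]) (by decide +kernel) (by decide +kernel) hx
  rwa [pr_one] at this

theorem WV : ∀ w ∈ W, ∀ x ∈ V, w * x * w⁻¹ ∈ V := by
  rintro _ ⟨Q, hQ, rfl⟩ x hx
  have h : (WL.all fun Q => cj [Q] VL) = true := by decide +kernel
  have := conj_mem (okl1 (pW hQ)) (List.all_eq_true.1 h Q hQ) hx
  rwa [pr_one] at this

theorem VW : ∀ v ∈ V, ∀ x ∈ W, v * x * v⁻¹ ∈ W := by
  rintro _ ⟨Q, hQ, rfl⟩ x hx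
  have h : (VL.all fun Q => cj [Q] WL) = true := by decide +kernel
  have := conj_mem (okl1 (pV hQ)) (List.all_eq_true.1 h Q hQ) hx
  rwa [pr_one] at this

/-! ### The Sylow subgroup -/

section abs

variable {G : Type*} [Group G] {V W : Subgroup G} {c : G}

/-- the subgroup `VW⟨c⟩` -/
def SS (cc : c * c = 1) (WV : ∀ w ∈ W, ∀ x ∈ V, w * x * w⁻¹ ∈ V) (cV : ∀ x ∈ V, c * x * c⁻¹ ∈ V)
    (cW : ∀ x ∈ W, c * x * c⁻¹ ∈ W) : Subgroup G where
  carrier := {g | ∃ v ∈ V, ∃ w ∈ W, g = v * w ∨ g = v * w * c}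
  mul_mem' := by
    rintro _ _ ⟨v, hv, w, hw, rfl | rfl⟩ ⟨v', hv', w', hw', rfl | rfl⟩
    · exact ⟨v * (w * v' * w⁻¹), mul_mem hv (WV w hw v' hv'), w * w', mul_mem hw hw', Or.inl (by group)⟩
    · exact ⟨v * (w * v' * w⁻¹), mul_mem hv (WV w hw v' hv'), w * w', mul_mem hw hw', Or.inr (by group)⟩
    · exact ⟨v * (w * (c * v' * c⁻¹) * w⁻¹), mul_mem hv (WV w hw _ (cV v' hv')), w * (c * w' * c⁻¹),
        mul_mem hw (cW w' hw'), Or.inr (by group)⟩
    · refine ⟨v * (w * (c * v' * c⁻¹) * w⁻¹), mul_mem hv (WV w hw _ (cV v' hv')), w * (c * w' * c⁻¹),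
        mul_mem hw (cW w' hw'), Or.inl ?_⟩
      have h1 : c * c = 1 := cc
      calc v * w * c * (v' * w' * c) = v * (w * (c * v' * c⁻¹) * w⁻¹) * (w * (c * w' * c⁻¹)) * (c * c) := by
            group
        _ = _ := by rw [h1, mul_one]
  one_mem' := ⟨1, one_mem _, 1, one_mem _, Or.inl (by group)⟩
  inv_mem' := by
    have ci : c⁻¹ = c := inv_eq_of_mul_eq_one_left cc
    rintro _ ⟨v, hv, w, hw, rfl | rfl⟩
    · refine ⟨w⁻¹ * v⁻¹ * w⁻¹⁻¹, WV _ (inv_mem hw) _ (inv_mem hv), w⁻¹, inv_mem hw, Or.inl (by group)⟩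
    · refine ⟨(c * w⁻¹ * c⁻¹) * (c * v⁻¹ * c⁻¹) * (c * w⁻¹ * c⁻¹)⁻¹, WV _ (cW _ (inv_mem hw)) _
        (cV _ (inv_mem hv)), c * w⁻¹ * c⁻¹, cW _ (inv_mem hw), Or.inr ?_⟩
      calc (v * w * c)⁻¹ = c⁻¹ * w⁻¹ * v⁻¹ := by group
        _ = c * w⁻¹ * v⁻¹ * 1 := by rw [ci, mul_one]
        _ = c * w⁻¹ * v⁻¹ * (c * c) := by rw [cc]
        _ = c * w⁻¹ * v⁻¹ * (c⁻¹ * c) := by rw [ci]
        _ = _ := by group

end abs

/-- the Sylow 2-subgroup -/
noncomputable def S : Subgroup (Equiv.Perm GolayPt) := SS cc WV cV cW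

theorem mem_S {g : Equiv.Perm GolayPt} : g ∈ S ↔ ∃ v ∈ V, ∃ w ∈ W, g = v * w ∨ g = v * w * c := Iff.rfl

theorem V_le : V ≤ S := fun v hv => ⟨v, hv, 1, one_mem _, Or.inl (by group)⟩

theorem W_le : W ≤ S := fun w hw => ⟨1, one_mem _, w, hw, Or.inl (by group)⟩

theorem c_mem : c ∈ S := ⟨1, one_mem _, 1, one_mem _, Or.inr (by group)⟩

/-- the 128 words -/
def SL : List (List ℕ) :=
  (VL.flatMap fun P => W4.map fun Q => [P, Q]) ++ VL.flatMap fun P => W4.map fun Q => [P, Q, cP]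

theorem W4_sub {Q : ℕ} (h : Q ∈ W4) : Q ∈ WL := by
  have h1 : (W4.all fun Q => WL.any fun R => Nat.beq Q R) = true := by decide +kernel
  obtain ⟨R, hR, h2⟩ := List.any_eq_true.1 (List.all_eq_true.1 h1 Q h)
  rw [Nat.eq_of_beq_eq_true h2]
  exact hR

theorem card_S_ge : 128 ≤ Nat.card S := by
  have h1 : SL.length = 128 := by decide +kernel
  rw [← h1]
  have hmem : ∀ l ∈ SL, okl l = true ∧ pr l ∈ S := by
    intro l hl
    unfold SL at hl
    rw [List.mem_append, List.mem_flatMap, List.mem_flatMap] at hl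
    rcases hl with ⟨P, hP, hl⟩ | ⟨P, hP, hl⟩ <;> obtain ⟨Q, hQ, rfl⟩ := List.mem_map.1 hl
    · refine ⟨okl2 (pV hP) (pW (W4_sub hQ)), pm P, ⟨P, hP, rfl⟩, pm Q, ⟨Q, W4_sub hQ, rfl⟩, Or.inl ?_⟩
      rw [pr_two]
    · refine ⟨okl3 (pV hP) (pW (W4_sub hQ)) permc, pm P, ⟨P, hP, rfl⟩, pm Q, ⟨Q, W4_sub hQ, rfl⟩, Or.inr ?_⟩
      rw [pr_three]
      rfl
  exact length_le_card (fun l hl => (hmem l hl).1) (by decide +kernel) (S : Set (Equiv.Perm GolayPt))
    (fun l hl => (hmem l hl).2)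

end Cfsg.Agent.KFacts.MM.Sub
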